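import Cfsg.Agent.H1.R11
import Cfsg.Agent.H1.MaxC2

/-!
# Blackburn's theorem on the two-step centralisers of a group of maximal class
-/

set_option autoImplicit false
set_option linter.unusedSectionVars false

namespace Cfsg.Agent.H1

open Cfsg.Fus Subgroup
open scoped commutatorElement

universe u
variable {G : Type u} [Group G] {p : ℕ} [hp : Fact p.Prime] {a b k m r M : ℕ} {c u v w x y : G}

theorem comm_expand {U V U' V' : G} (h1 : ∀ g, Commute ⁅U', V⁆ g) (h2 : ∀ g, Commute ⁅U, V'⁆ g)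
    (h3 : Commute U' V') (h4 : Commute ⁅U, V⁆ U') (h5 : Commute ⁅U, V⁆ V') :
    ⁅U' * U, V' * V⁆ * ⁅U, V⁆⁻¹ = ⁅U', V⁆ * ⁅U, V'⁆ := by
  have e1 : ⁅U' * U, V' * V⁆ = U' * (⁅U, V'⁆ * (V' * ⁅U, V⁆ * V'⁻¹)) * U'⁻¹ *
      (⁅U', V'⁆ * (V' * ⁅U', V⁆ * V'⁻¹)) := by simp only [commutatorElement_def]; group
  rw [e1, ← h5.eq, ← (h1 _).eq, mul_inv_cancel_right, mul_inv_cancel_right,
    commutatorElement_eq_one_iff_commute.2 h3, one_mul, ← ((h2 _).mul_left h4).eq, mul_inv_cancel_right,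
    ← (h1 _).eq, mul_assoc, mul_inv_cancel_right]

theorem comm_lcs (hu : u ∈ lcs G a) (hv : v ∈ lcs G b) (h : k ≤ a + b + 1) : ⁅u, v⁆ ∈ lcs G k :=
  lcs_anti h (lcs_comm a b (commutator_mem_commutator hu hv))

variable [Finite G]

/-- The Jacobi identity in the graded Lie ring. -/
theorem jacobi (x : G) (hu : u ∈ lcs G a) (hv : v ∈ lcs G b) (hk : k = a + b + 3) :
    ((⁅x, ⁅u, v⁆⁆ : G) : G ⧸ lcs G k) = (⁅⁅x, u⁆, v⁆ : G) * (⁅u, ⁅x, v⁆⁆ : G) := by
  have hu' := comm_mem_symm (comm_mem_lcs hu x)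
  have hv' := comm_mem_symm (comm_mem_lcs hv x)
  have c : ∀ {z w : G}, ⁅z, w⁆ ∈ lcs G k → Commute (z : G ⧸ lcs G k) w := comm_mem_iff_mk.1
  have c' : ∀ {z : G}, z ∈ lcs G (a + b + 2) → ∀ g, Commute (z : G ⧸ lcs G k) g := fun hz g => by
    obtain ⟨g, rfl⟩ := QuotientGroup.mk_surjective g
    exact c (hk ▸ comm_mem_lcs hz g)
  have h0 := comm_lcs hu hv le_rfl
  have := comm_expand (U := (u : G ⧸ lcs G k)) (V := v) (U' := (⁅x, u⁆ : G)) (V' := (⁅x, v⁆ : G))
    (c' (comm_lcs hu' hv (by omega))) (c' (comm_lcs hu hv' (by omega)))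
    (c (comm_lcs hu' hv' (by omega))) (c (comm_lcs h0 hu' (by omega))) (c (comm_lcs h0 hv' (by omega)))
  refine Eq.trans ?_ this
  simp only [commutatorElement_def, QuotientGroup.mk_mul, QuotientGroup.mk_inv]
  group

/-- Iterated commutators. -/
def cs (x y : G) : ℕ → G
  | 0 => y
  | k + 1 => ⁅x, cs x y k⁆

theorem cs_mem (x y : G) : ∀ k, cs x y k ∈ lcs G k
  | 0 => trivial
  | k + 1 => comm_mem_symm (comm_mem_lcs (cs_mem x y k) x)

theorem cs_flt (x : G) (hy : y ∈ tsc G) : ∀ k, cs x y k ∈ flt G k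
  | 0 => hy
  | k + 1 => cs_mem x y (k + 1)

section Lie
variable (h : ∀ r < M, ⁅cs x y r, y⁆ ∈ lcs G (r + 2))
include h

theorem lie_one : ∀ b a, a + b < M → ⁅cs x y a, cs x y b⁆ ∈ lcs G (a + b + 2)
  | 0, a, e => h a e
  | b + 1, a, e => by
    have h1 := jacobi x (cs_mem x y a) (cs_mem x y b) rfl
    rw [mk_eq_one_of_mem (comm_mem_symm (comm_mem_lcs (lie_one b a (by omega)) x)), mk_eq_one_of_mem
      (x := ⁅⁅x, cs x y a⁆, cs x y b⁆) (lcs_anti (by omega) (lie_one b (a + 1) (by omega))), one_mul] at h1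
    exact (QuotientGroup.eq_one_iff _).1 h1.symm

theorem lie_two : ∀ b a, a + b = M → ((⁅cs x y a, cs x y b⁆ : G) : G ⧸ lcs G (M + 2)) =
    (⁅cs x y M, y⁆ : G) ^ (-1 : ℤ) ^ b
  | 0, a, e => by rw [← e, pow_zero, zpow_one]; rfl
  | b + 1, a, e => by
    have h1 := jacobi (k := M + 2) x (cs_mem x y a) (cs_mem x y b) (by omega)
    rw [mk_eq_one_of_mem (comm_mem_symm (lcs_anti (by omega)
      (comm_mem_lcs (lie_one h b a (by omega)) x))), eq_comm, mul_eq_one_iff_eq_inv'] at h1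
    exact h1.trans (by rw [pow_succ, mul_neg_one, zpow_neg, ← lie_two b (a + 1) (by omega)]; rfl)

theorem lie_odd (h1 : ⁅cs x y M, y⁆ ∉ lcs G (M + 2)) (e : a + b = M) :
    ⁅cs x y a, cs x y b⁆ ∉ lcs G (M + 2) := fun h2 => h1 (by
  have := lie_two h b a e
  rw [mk_eq_one_of_mem h2, eq_comm] at this
  rw [← QuotientGroup.eq_one_iff]
  rcases neg_one_pow_eq_or ℤ b with e | e <;> simpa only [e, zpow_neg, zpow_one, inv_eq_one] using this)

theorem lie_three (h1 : ⁅cs x y (M + 1), y⁆ ∈ lcs G (M + 3)) : ∀ b a, a + b = M + 1 →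
    ((⁅cs x y a, cs x y b⁆ : G) : G ⧸ lcs G (M + 3)) =
      (⁅x, ⁅cs x y M, y⁆⁆ : G) ^ (-(-1 : ℤ) ^ b * b)
  | 0, a, e => by
    obtain rfl : a = M + 1 := e
    rw [Nat.cast_zero, mul_zero, zpow_zero]
    exact mk_eq_one_of_mem h1
  | b + 1, a, e => by
    have h2 := jacobi (k := M + 3) x (cs_mem x y a) (cs_mem x y b) (by omega)
    have h3 := lie_two h b a (by omega)
    have h4 := comm_mem_lcs (cs_mem x y M) y
    rw [← QuotientGroup.mk_zpow, eq_comm, QuotientGroup.eq] at h3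
    have h5 := comm_mem_symm (comm_mem_lcs h3 x)
    have h6 := mk_comm_zpow (K := lcs G (M + 3)) (u := x) (comm_lcs (comm_mem_symm (comm_mem_lcs h4 x))
      h4 (by omega)) ((-1) ^ b)
    have h7 : ∀ z w : G, ⁅x, w⁆ = ⁅x, z⁆ * (z * ⁅x, z⁻¹ * w⁆ * z⁻¹) := fun z w => by
      simp only [commutatorElement_def]; group
    rw [h7 (⁅cs x y M, y⁆ ^ (-1 : ℤ) ^ b), QuotientGroup.mk_mul, h6, mk_eq_one_of_mem (Normal.conj_mem inferInstance _ h5 _),
      mul_one, eq_comm, ← eq_inv_mul_iff_mul_eq] at h2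
    refine h2.trans ((congrArg (·⁻¹ * _) (lie_three h1 b (a + 1) (by omega))).trans ?_)
    rw [← zpow_neg, ← zpow_add]
    congr 1
    push_cast
    ring

end Lie

/-- A group of maximal class of order `p ^ (m + 4)`. -/
structure MC (p m : ℕ) (G : Type*) [Group G] : Prop where
  pg : IsPGroup p G
  card : Nat.card G = p ^ (m + 4)
  ne : lcs G (m + 2) ≠ ⊥

/-- The two-step centralisers. -/
abbrev kc (G : Type*) [Group G] (r : ℕ) : Subgroup G := cMod (flt G r) (flt G (r + 2))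

theorem flt_le_lcs : ∀ r, flt G r ≤ lcs G r
  | 0 => le_top
  | _ + 1 => le_rfl

theorem lcs_le_kc (r : ℕ) : lcs G 1 ≤ kc G r := fun _ hx =>
  mem_cMod.2 fun _ hy => comm_lcs (flt_le_lcs r hy) hx le_rfl

namespace MC
variable (h : MC p m G)
include h

theorem not_le (hk : k ≤ m + 2) : ¬ lcs G k ≤ lcs G (k + 1) :=
  not_lcs_le h.pg fun e => h.ne (le_bot_iff.1 (e ▸ lcs_anti hk))

theorem card_aux : ∀ b a, a + b ≤ m + 3 → p ^ b * Nat.card (lcs G (a + b)) ≤ Nat.card (lcs G a)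
  | 0, a, _ => by simp
  | b + 1, a, e => le_trans (by
      rw [pow_succ, mul_assoc]
      exact Nat.mul_le_mul_left _ (mul_card_le h.pg (lcs_anti (by omega)) (h.not_le (by omega))))
      (card_aux b a (by omega))

theorem card_lcs (e : a + b = m + 2) : Nat.card (lcs G (a + 1)) = p ^ b := by
  have h1 := sq_mul_card_le h.pg fun e' => h.ne (le_bot_iff.1 (e' ▸ lcs_anti (by omega)))
  have h2 := h.card_aux a 1 (by omega)
  have h3 := h.card_aux b (a + 1) (by omega)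
  rw [add_comm 1] at h2
  refine le_antisymm (Nat.le_of_mul_le_mul_left (c := p ^ 2 * p ^ a) ?_ (by positivity [hp.out.pos]))
    ((Nat.le_mul_of_pos_right _ Nat.card_pos).trans h3)
  rw [← pow_add, ← pow_add, show 2 + a + b = m + 4 by omega, ← h.card, pow_add, mul_assoc]
  exact (Nat.mul_le_mul_left _ h2).trans h1

theorem top : lcs G (m + 3) = ⊥ := card_eq_one.1 (h.card_lcs (b := 0) rfl)

theorem relIndex_lcs (hk : k ≤ m + 1) : (lcs G (k + 2)).relIndex (lcs G (k + 1)) = p := by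
  obtain ⟨b, e⟩ := Nat.exists_eq_add_of_le hk
  simpa using relIndex_eq_of_card_eq (n := 1) (lcs_anti (Nat.le_succ _))
    (h.card_lcs (a := k + 1) (b := b) (by omega)) (h.card_lcs (by omega))

theorem index_tsc : (tsc G).relIndex ⊤ = p := by
  obtain ⟨y, hy, hy'⟩ := SetLike.not_le_iff_exists.1 (h.not_le (k := 1) (by omega))
  refine relIndex_eq_of_le (S := ⊤) (h.pg.to_subgroup ⊤) le_rfl ((relIndex_le_of_le_left
    (fun s (hs : s ∈ commMod (lcs G 3) y) => mem_cMod.2 fun w hw => comm_sup_zp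
      (fun a ha => comm_mem_lcs ha s) (comm_mem_symm hs.2) w
      ((sup_zpowers_eq (lcs_anti (Nat.le_succ _)) (h.relIndex_lcs (k := 0) (by omega)) hy hy').ge hw))
    (relIndex_ne_zero_of_finite le_rfl)).trans ((relIndex_commMod_le (normal_le_normalizer _ _) (nle _ _)
      fun s _ => comm_mem_symm (comm_mem_lcs hy s)).trans (h.relIndex_lcs (k := 1) (by omega)).le))
    fun e => h.not_le (k := 2) (by omega) (commutator_le.2 fun w hw g hg => mem_cMod.1 (e hg) w hw)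

theorem card_tsc : Nat.card (tsc G) = p ^ (m + 3) := by
  have := card_of_relIndex le_top h.index_tsc
  rw [card_top, h.card, pow_succ'] at this
  exact (mul_left_cancel₀ hp.out.ne_zero this).symm

theorem card_flt : ∀ {a b}, a + b = m + 3 → Nat.card (flt G a) = p ^ b
  | 0, b, e => by rw [zero_add] at e; exact e ▸ h.card_tsc
  | a + 1, b, e => h.card_lcs (by omega)

theorem relIndex (hr : r ≤ m + 2) : (flt G (r + 1)).relIndex (flt G r) = p := by
  obtain ⟨b, e⟩ := Nat.exists_eq_add_of_le hr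
  simpa using relIndex_eq_of_card_eq (n := 1) (flt_anti (Nat.le_succ _))
    (h.card_flt (a := r + 1) (b := b) (by omega)) (h.card_flt (by omega))

theorem sup_eq (hr : r ≤ m + 2) (hx : x ∈ flt G r) (hx' : x ∉ flt G (r + 1)) :
    flt G (r + 1) ⊔ zpowers x = flt G r := sup_zpowers_eq (flt_anti (Nat.le_succ _)) (h.relIndex hr) hx hx'

theorem exists_mem (hr : r ≤ m + 2) : ∃ x ∈ flt G r, x ∉ flt G (r + 1) :=
  SetLike.not_le_iff_exists.1 fun e => hp.out.one_lt.ne' ((h.relIndex hr).symm.trans (relIndex_eq_one.2 e))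

theorem mem_kc (hr : r ≤ m + 2) (hc : c ∈ flt G r) (hc' : c ∉ flt G (r + 1))
    (h1 : ⁅c, x⁆ ∈ flt G (r + 2)) : x ∈ kc G r := mem_cMod.2 fun w hw =>
  comm_sup_zp (fun a ha => comm_mem_flt ha x) h1 w ((h.sup_eq hr hc hc').ge hw)

theorem le_kc (hy : y ∈ tsc G) (hy' : y ∉ lcs G 1) (h1 : y ∈ kc G r) : tsc G ≤ kc G r :=
  (h.sup_eq (r := 0) (by omega) hy hy').ge.trans (sup_le (lcs_le_kc r) (zpowers_le.2 h1))

theorem kc_zero : tsc G ≤ kc G 0 := by
  obtain ⟨y, hy, hy'⟩ := h.exists_mem (r := 0) (by omega)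
  exact h.le_kc hy hy' (h.mem_kc (by omega) hy hy' (by simp))

theorem kc_ne (hr : r ≤ m + 1) : ¬ ⊤ ≤ kc G r := fun e => h.not_le (k := r + 1) (by omega) (by
  cases r with
  | zero =>
    obtain ⟨x, -, hx⟩ := SetLike.not_le_iff_exists.1 fun e =>
      hp.out.one_lt.ne' (h.index_tsc.symm.trans (relIndex_eq_one.2 e))
    change ⁅⊤, ⊤⁆ ≤ _
    rw [← sup_zpowers_eq le_top h.index_tsc trivial hx]
    exact commutator_sup_zpowers_le (normal_le_normalizer _ _) (nle _ _)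
      (fun a ha b _ => mem_cMod.1 (e trivial) a ha) fun a ha => comm_mem_symm (mem_cMod.1 (e trivial) a ha)
  | succ r => exact commutator_le.2 fun w hw g hg => mem_cMod.1 (e hg) w hw)

theorem not_mem_kc (hr : r ≤ m + 1) (h1 : tsc G ≤ kc G r) (hx : x ∉ tsc G) : x ∉ kc G r := fun e =>
  h.kc_ne hr ((sup_zpowers_eq le_top h.index_tsc trivial hx).ge.trans (sup_le h1 (zpowers_le.2 e)))

theorem mem_flt (hM : M ≤ m + 2) (hx : ∀ r < M, x ∉ kc G r) (hc : c ∈ tsc G)
    (h1 : ⁅c, x⁆ ∈ flt G (M + 1)) : ∀ r ≤ M, c ∈ flt G r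
  | 0, _ => hc
  | r + 1, e => by_contra fun e' => hx r e (h.mem_kc (by omega) (mem_flt hM hx hc h1 r (by omega)) e'
      (flt_anti (by omega) h1))

theorem cs_not_mem (hM : M ≤ m + 2) (hx : ∀ r < M, x ∉ kc G r) (hy : y ∈ tsc G) (hy' : y ∉ lcs G 1) :
    ∀ r ≤ M, cs x y r ∉ flt G (r + 1)
  | 0, _ => hy'
  | r + 1, e => fun e' => hx r e (h.mem_kc (by omega) (cs_flt x hy r)
      (cs_not_mem hM hx hy hy' r (by omega)) (comm_mem_symm e'))

theorem card_le_tsc (H : Subgroup G) : Nat.card H ≤ p * Nat.card (H ⊓ tsc G : Subgroup G) :=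
  card_le_of_relIndex ((relIndex_le_of_le_right le_top (relIndex_ne_zero_of_finite le_rfl)).trans
    h.index_tsc.le)

theorem unif (hx : ∀ r < m + 2, x ∉ kc G r) : Unif p x := by
  refine ⟨h.pg, fun e => h.not_le (k := 1) (by omega) (e ▸ bot_le), (h.card_le_tsc _).trans ?_⟩
  rw [sq]
  exact Nat.mul_le_mul_left _ ((card_le_of_le fun c (hc : c ∈ centralizer {x} ⊓ tsc G) => h.mem_flt le_rfl hx hc.2
    (comm_one_iff.2 (mem_centralizer_singleton_iff.1 hc.1) ▸ one_mem _) _ le_rfl).trans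
    ((h.card_flt (b := 1) rfl).trans (pow_one p)).le)

/-- At the first exceptional place all the pairings are nondegenerate. -/
theorem pair (hM : M ≤ m + 1) (h1 : ∀ r < M, tsc G ≤ kc G r) (h2 : ¬ tsc G ≤ kc G M) (hx : x ∉ tsc G)
    (hy : y ∈ tsc G) (hy' : y ∉ lcs G 1) (e : a + b = M) : ⁅cs x y a, cs x y b⁆ ∉ lcs G (M + 2) :=
  lie_odd (fun r hr => mem_cMod.1 (h1 r hr hy) _ (cs_flt x hy r)) (fun e => h2 (h.le_kc hy hy'
    (h.mem_kc (by omega) (cs_flt x hy M) (h.cs_not_mem (by omega)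
      (fun r hr => h.not_mem_kc (by omega) (h1 r hr) hx) hy hy' M le_rfl) e))) e

theorem step (hp2 : p ≠ 2) (h1 : ∀ r < m, tsc G ≤ kc G r) : tsc G ≤ kc G m := by
  by_contra h2
  obtain ⟨y, hy, hy'⟩ := h.exists_mem (r := 0) (by omega)
  obtain ⟨x, hx, hx'⟩ : ∃ x, x ∉ tsc G ∧ x ∉ kc G m := by
    obtain ⟨x, -, hx⟩ := SetLike.not_le_iff_exists.1 (h.kc_ne (r := 1) (by omega))
    obtain ⟨z, hz, hz'⟩ := SetLike.not_le_iff_exists.1 h2
    by_cases e : x ∈ kc G m
    · exact ⟨x * z, fun e' => hx ((mul_mem_cancel_right hz).1 e'),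
        fun e' => hz' ((mul_mem_cancel_left e).1 e')⟩
    · exact ⟨x, hx, e⟩
  have pr := fun a b => h.pair (a := a) (b := b) (Nat.le_succ m) h1 h2 hx hy hy'
  obtain ⟨j, rfl⟩ : ∃ j, m = 2 * j + 1 := (Nat.even_or_odd' m).imp fun j e =>
    e.resolve_left fun e => pr j j (by omega) (by simp)
  have h3 : tsc G ≤ kc G (2 * j + 2) := by
    have := jacobi (k := 2 * j + 4) y (cs_mem x y (2 * j)) (cs_mem x y 1) rfl
    rw [mk_eq_one_of_mem (comm_lcs (comm_mem_symm (mem_cMod.1 (h1 _ (by omega) hy) _ (cs_flt x hy _)))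
      (cs_mem x y 1) le_rfl), mk_eq_one_of_mem (comm_lcs (cs_mem x y _) (comm_mem_symm
        (mem_cMod.1 hy _ (cs_mem x y 1))) le_rfl), one_mul, QuotientGroup.eq_one_iff] at this
    exact h.le_kc hy hy' (h.mem_kc (by omega) (comm_lcs (cs_mem x y _) (cs_mem x y 1) le_rfl)
      (pr _ 1 rfl) (comm_mem_symm this))
  have h4 : ∀ r < 2 * j + 1 + 2, x ∉ kc G r := fun r hr => by
    obtain hr | rfl | rfl : r < 2 * j + 1 ∨ r = 2 * j + 1 ∨ r = 2 * j + 2 := by omega
    exacts [h.not_mem_kc (by omega) (h1 r hr) hx, hx', h.not_mem_kc le_rfl h3 hx]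
  have h5 := lie_three (fun r hr => mem_cMod.1 (h1 r hr hy) _ (cs_flt x hy r))
    (mem_cMod.1 (h3 hy) _ (cs_flt x hy _)) _ 0 (zero_add _)
  replace h5 := h5.symm.trans
    (mk_eq_one_of_mem (comm_mem_symm (mem_cMod.1 (h3 hy) _ (cs_flt x hy _))))
  rw [← QuotientGroup.mk_zpow, QuotientGroup.eq_one_iff] at h5
  have h6 : (p : ℤ) ∣ (2 * (j + 1) : ℕ) := by_contra fun e => h4 _ (by omega) (h.mem_kc (by omega)
    (comm_mem_lcs (cs_mem x y _) y) (pr _ 0 rfl) (comm_mem_symm (mem_of_zpow_pg h.pg (fun e' => e (by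
      rwa [show 2 * j + 1 + 1 = 2 * (j + 1) from rfl, pow_mul, neg_one_sq, one_pow, neg_one_mul,
        dvd_neg] at e')) h5)))
  obtain ⟨i, e⟩ : ∃ i, 2 * j + 1 = i + p := by
    have := Nat.le_of_dvd (Nat.succ_pos j) (((Nat.coprime_primes hp.out Nat.prime_two).2
      hp2).dvd_of_dvd_mul_left (Int.natCast_dvd_natCast.1 h6))
    exact ⟨2 * j + 1 - p, by omega⟩
  have hu := h.unif h4
  have p2 := hp.out.two_le
  obtain ⟨z, hz, hz'⟩ := h.exists_mem (r := i + 1) (by omega)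
  have z1 := hu.pow_mem_lcs i z hz
  have z2 := hu.pow_not_mem_lcs hz hz' fun e' => h.ne (le_bot_iff.1 (e' ▸ lcs_anti (by omega)))
  rw [← e] at z1 z2
  have c1 : ⁅y, z⁆ ∈ lcs G (i + 3) := comm_mem_symm (mem_cMod.1 (h1 (i + 1) (by omega) hy) z hz)
  have c2 : ∀ k, (dstep z)^[k] ⁅y, z⁆ ∈ lcs G (i + 3 + k) := fun k => by
    induction k with
    | zero => exact c1
    | succ k ih => rw [Function.iterate_succ_apply']; exact dstep_mem_lcs ih z
  have c3 := norm_formula (N := fun j => lcs G (i + 3 + (j - 1))) (fun a b hab => lcs_anti (by omega))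
    (fun a b => (lcs_comm _ _).trans (lcs_anti (by omega))) (fun _ => inferInstance) (s := z)
    (fun k y hy => dstep_mem_lcs hy z) hp.out (hu.pow_mem_lcs (i + 3)) c1
  rw [show ⁅y, z⁆ * z = y * z * y⁻¹ by rw [commutatorElement_def, inv_mul_cancel_right], conj_pow] at c3
  exact h2 (h.le_kc hy hy' (h.mem_kc (by omega) z1 z2 (comm_mem_symm ((lcs G _).inv_mem_iff.1
    ((mul_mem_cancel_right (mul_mem (lcs_anti (by omega) (c2 (p - 1))) (lcs_anti (by omega)
      (hu.pow_mem_lcs (i + 2) _ c1)))).1 (lcs_anti (by omega) c3))))))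

theorem center_eq : center G = lcs G (m + 2) := (eq_of_le_of_card_ge (fun x hx => mem_center_iff.2
  fun g => (comm_one_iff.1 (h.top.le (comm_mem_lcs hx g))).symm) (by
    rw [card_center_of_max h.pg h.card h.ne, h.card_lcs (b := 1) rfl, pow_one])).symm

omit h in
/-- **Blackburn's theorem**. -/
theorem blackburn (hp2 : p ≠ 2) : ∀ (m : ℕ) (G : Type u) [Group G] [Finite G], MC p m G →
    ∀ r ≤ m, tsc G ≤ kc G r
  | 0, G, _, _, h, r, hr => Nat.le_zero.1 hr ▸ h.kc_zero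
  | m + 1, G, _, _, h, r, hr => by
    have ih := blackburn hp2 m (G ⧸ center G) ⟨h.pg.to_quotient _,
      card_quot_center_of_max h.pg h.card h.ne, lcs_quot_center_ne_bot h.ne⟩
    have mp : ∀ {k} {x : G}, x ∈ lcs G k → (x : G ⧸ center G) ∈ lcs _ k := fun hx =>
      lcs_map_mk (center G) _ ▸ mem_map_of_mem (QuotientGroup.mk' _) hx
    have mt : ∀ {x : G}, x ∈ tsc G → (x : G ⧸ center G) ∈ tsc _ := fun hx => mem_cMod.2 fun y hy => by
      obtain ⟨y, hy', rfl⟩ := (lcs_map_mk (center G) 1).ge hy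
      exact mp (mem_cMod.1 hx y hy')
    have k : ∀ r ≤ m, tsc G ≤ kc G r := fun r hr x hx => mem_cMod.2 fun y hy => by
      obtain ⟨z, hz, e⟩ := (lcs_map_mk (center G) (r + 2)).ge (mem_cMod.1 (ih r hr (mt hx)) y (by
        cases r
        exacts [mt hy, mp hy]))
      exact (mul_mem_cancel_left (inv_mem hz)).1
        (lcs_anti (by omega) (h.center_eq.le (QuotientGroup.eq.1 e)))
    exact hr.lt_or_eq.elim (fun e => k r (by omega)) fun e => e ▸ h.step hp2 fun r e => k r (by omega)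

/-- In the exceptional case the order is an even power and the centre of the two-step centraliser is
the centre. -/
theorem exc (hp2 : p ≠ 2) (h2 : ¬ tsc G ≤ kc G (m + 1)) :
    Even m ∧ ∀ w ∈ tsc G, (∀ v ∈ tsc G, ⁅w, v⁆ = 1) → w ∈ lcs G (m + 2) := by
  obtain ⟨y, hy, hy'⟩ := h.exists_mem (r := 0) (by omega)
  obtain ⟨x, -, hx⟩ := SetLike.not_le_iff_exists.1 (h.kc_ne (r := 1) (by omega))
  have pr := fun a b => h.pair (a := a) (b := b) le_rfl
    (fun r hr => blackburn hp2 m G h r (by omega)) h2 hx hy hy'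
  refine ⟨Nat.not_odd_iff_even.1 fun ⟨j, e⟩ => pr (j + 1) (j + 1) (by omega) (by simp), fun w hw hc => ?_⟩
  have : ∀ r ≤ m + 2, w ∈ flt G r := fun r => by
    induction r with
    | zero => exact fun _ => hw
    | succ r ih =>
      intro e
      by_contra e'
      obtain ⟨b, e2⟩ := Nat.exists_eq_add_of_le' (show r ≤ m + 1 by omega)
      exact pr r b (by omega) (comm_sup_zp (fun a ha => comm_lcs ha (cs_mem x y b) (by omega))
        (hc _ (flt_anti b.zero_le (cs_flt x hy b)) ▸ one_mem _) _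
        ((h.sup_eq (by omega) (ih (by omega)) e').ge (cs_flt x hy r)))
  exact this _ le_rfl

end MC

end Cfsg.Agent.H1
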