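import Cfsg.Agent.H1.Blk

/-!
# Essential subgroups that are elementary abelian of order `p ^ 3`
-/

set_option autoImplicit false
set_option linter.unusedSectionVars false

namespace Cfsg.Agent.H1

open Equiv Cfsg.Fus Cfsg.FusionSystem Subgroup
open scoped commutatorElement

variable {p : ℕ} [hp : Fact p.Prime]

section Pure
variable {G : Type*} [Group G] [Finite G] {α : G ≃* G} {D M N W : Subgroup G} {a b g t x : G} {c d : ℤ}

theorem cent_of_wt (hG : IsPGroup p (⊤ : Subgroup G)) [M.Normal]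
    [D.Normal] [N.Normal] (WM : W ≤ M) (MD : M ≤ D) (DN : D ≤ N) (iW : W.relIndex M = p)
    (iM : M.relIndex D = p) (iD : D.relIndex N = p) (ha : a ∈ N) (aD : a ∉ D) (hg : g ∈ D) (hg' : g ∉ M)
    (hb : b ∈ M) (hb' : b ∉ W) (hN : ∀ s, ⁅a, s⁆ ∈ M → s ∈ N)
    (cW : ∀ w ∈ W, ⁅w, a⁆ = 1) (cM : ∀ x ∈ M, ∀ y ∈ M, ⁅x, y⁆ = 1) (fW : ∀ w ∈ W, α w = w)
    (αM : ∀ x ∈ M, α x ∈ M) (wb : Wt α W b c) (wg : Wt α M g (c * c))
    (wa : Wt α M a d) (hcd : c * d ≡ 1 [ZMOD p]) (h2 : ¬ (p : ℤ) ∣ c ^ 2 - 1)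
    (h3 : ¬ (p : ℤ) ∣ c ^ 3 - 1) : ∀ w ∈ W, ∀ s : G, ⁅w, s⁆ = 1 := by
  have hG' : IsPGroup p G := hG.of_equiv topEquiv
  have pp := Nat.prime_iff_prime_int.1 hp.out
  have h0 : ¬ (p : ℤ) ∣ c := fun e => pp.not_dvd_one ((dvd_sub_left (e.mul_right d)).1 hcd.dvd)
  have h1 : ¬ (p : ℤ) ∣ c - 1 := fun e => h2 (by simpa using e.trans (sub_dvd_pow_sub_pow c 1 2))
  have nd : ∀ {u v w : ℤ}, ¬ (p : ℤ) ∣ u → ¬ (p : ℤ) ∣ v → w = u * v → ¬ (p : ℤ) ∣ w :=
    fun hu hv e h => (pp.dvd_or_dvd (e ▸ h)).elim hu hv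
  have n1 : ¬ (p : ℤ) ∣ c * c - 1 := sq c ▸ h2
  have n2 : ¬ (p : ℤ) ∣ c * c - c := nd h0 h1 (by ring)
  have n3 : ¬ (p : ℤ) ∣ c * (c * c) - 1 := nd h3 pp.not_dvd_one (by ring)
  have n4 : ¬ (p : ℤ) ∣ c * (c * c) - c := nd h0 h2 (by ring)
  have αW : ∀ x ∈ W, α x ∈ W := fun x hx => (fW x hx).symm ▸ hx
  have wW : ∀ x ∈ W, Wt α ⊥ x 1 := fun x hx => wt_of_eq (by rw [fW x hx, zpow_one])
  have wM : ∀ x ∈ M, Wt α W x c := fun x hx => wb.of_mem' (normalizer_of_comm (S := ⊤) le_top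
    fun w hw => cM b hb w (WM hw) ▸ one_mem _) αW ((sup_zpowers_eq WM iW hb hb').ge hx)
  have eD := sup_zpowers_eq MD iM hg hg'
  have wD : ∀ x ∈ D, Wt α M x (c * c) := fun x hx => wg.of_mem αM (eD.ge hx)
  have kW : ∀ {e}, ¬ (p : ℤ) ∣ e - 1 → Kill α W e := fun h => kill_bot.step hG' wW h
  have kM : ∀ {e}, ¬ (p : ℤ) ∣ e - 1 → ¬ (p : ℤ) ∣ e - c → Kill α M e := fun h h' =>
    (kW h).step hG' wM h'
  have cN := fun x (hx : x ∈ N) => comm_mem_of_relIndex hG iD.dvd hx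
  have cD := fun x (hx : x ∈ D) => comm_mem_of_relIndex hG iM.dvd hx
  have pM := fun s => mk_eq_one_of_mem (pow_mem_of_relIndex (normal_le_normalizer M D) iM (cN a ha s))
  have wG : ∀ s, Wt α N s (c * (c * c)) := fun s => hN _ (comm_mem_of_mk (by
    have e1 := wt_iff.1 (wD _ (cN a ha s))
    rw [map_commutatorElement, mk_comm, wt_iff.1 wa, comm_zpow_left, ← mk_comm] at e1
    · obtain ⟨k, hk⟩ := hcd.dvd
      rw [mk_comm_zpow (cD _ (cN a ha s) s), mul_comm, zpow_mul, ← e1, ← zpow_mul, mul_comm d,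
        ← sub_sub_cancel 1 (c * d), hk, zpow_sub, zpow_mul, zpow_natCast, ← QuotientGroup.mk_pow, pM,
        one_zpow, inv_one, mul_one, zpow_one]
    · rw [← mk_comm]
      exact comm_mem_iff_mk.1 (cD _ (cN a ha _) a)))
  have A1 : ∀ w ∈ W, ∀ s ∈ N, ⁅w, s⁆ = 1 := fun w hw s hs => comm_one_symm (comm_one_of_sup
    (fun x hx => comm_one_symm ((kM ((one_mul (c * c)).symm ▸ n1) ((one_mul (c * c)).symm ▸ n2)).comm
      hG' (wW w hw) (wD x hx) hx MD (by simp) (cM w (WM hw)) (comm_mem_left M (WM hw) x)))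
    (comm_one_symm (cW w hw)) s ((sup_zpowers_eq DN iD ha aD).ge hs))
  exact fun w hw s =>
    (kM ((one_mul (c * (c * c))).symm ▸ n3) ((one_mul (c * (c * c))).symm ▸ n4)).comm hG' (wW w hw)
      (wG s) (mem_top s) le_top (by simp) (A1 w hw) (comm_mem_left M (WM hw) s)

theorem exists_conj_mem' (hG : IsPGroup p (⊤ : Subgroup G)) [M.Normal] [D.Normal]
    (MD : M ≤ D) (iM : M.relIndex D = p) (h1 : ⁅a, t⁆ ∈ D) (ht : ⁅a, t⁆ ∉ M) (ha : a ∈ D ⊔ zpowers x) :
    ∃ s, s * a * s⁻¹ ∈ M ⊔ zpowers x := by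
  obtain ⟨δ, hδ, i, rfl⟩ := (mem_sup_zpowers (nle D x)).1 ha
  obtain ⟨m, hm, k, e⟩ := (mem_sup_zpowers (nle M _)).1 ((sup_zpowers_eq MD iM h1 ht).ge hδ)
  have h2 := congrArg (QuotientGroup.mk (s := M)) e
  rw [QuotientGroup.mk_mul, mk_eq_one_of_mem hm, one_mul, QuotientGroup.mk_zpow,
    ← mk_comm_zpow (comm_mem_of_relIndex hG iM.dvd h1 t) k, eq_comm, QuotientGroup.eq] at h2
  refine ⟨t ^ k, ?_⟩
  convert mul_mem (mem_sup_left h2) (mem_sup_right (Subgroup.zpow_mem _ (mem_zpowers x) i)) using 1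
  rw [commutatorElement_def]
  group

end Pure

variable {Ω : Type*} [Group Ω] {S T E R Q D K M N : Subgroup Ω} [Finite S] {F : FusionSystem S}
  {g a t x y : Ω} {β τ : Perm Ω}

theorem lEs_of_card (hS : IsPGroup p S) (hF : F.IsSaturated p) (hE : F.IsEssential p E)
    (hr : Nat.card E ≤ p ^ 3 * Nat.card (phiF E)) : LEs F p E := by
  refine ⟨hS, hF, hE.isFullyNormalized,
    fun g hg => hE.isCentric.mem_of_cj_mem_opStab (hE.isRadical hS) hg, ?_⟩
  have key : HasTv S E → E.relIndex (normalizerIn S E) = p := by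
    rintro ⟨g, hg, hn, hgE, b, hb, h1, h2⟩
    obtain ⟨a, W, t⟩ := (fSec_phiF hS hE).exists_qTv hS hg hn hgE hb (pow_mem_phiF hS hE.le hb) h1 h2
    rw [← relIndex_sup_zpowers hn hgE t.gp]
    congr 1
    refine le_antisymm (fun s hs => ?_) (sup_le (le_normalizerIn hE.le) (zpowers_le.2 ⟨hg, hn⟩))
    obtain ⟨k, hk⟩ := t.norm s hs.1 hs.2
    simpa using mul_mem (mem_sup_right (zpow_mem_zpowers g k)) (mem_sup_left hk)
  by_cases hc : Nat.card E ≤ p ^ 2 * Nat.card (phiF E)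
  · exact key (hasTv_of_rank_two hS (hE.lt hF hS) hc)
  haveI := finite_of_le hE.le
  have NS := normalizerIn_le S E
  haveI := finite_of_le NS
  have pN := isPGroup_of_le hS NS
  have EN := le_normalizerIn hE.le
  have nP := normalizer_phiF hE.le
  have cE : ∀ x ∈ E, ∀ y ∈ E, ⁅x, y⁆ ∈ phiF E := fun _ hx _ hy =>
    commutator_le_phiF hS hE.le (commutator_mem_commutator hx hy)
  haveI := finite_of_le (phiF_le E)
  obtain ⟨b, hb, b1, b2, b3⟩ := Fus.exists_central_mod pN EN nP inf_le_right fun e =>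
    hc ((card_le_of_le e).trans
      (Nat.le_mul_of_pos_left _ (pow_pos hp.out.pos 2)))
  have l2 : phiF E ⊔ zpowers b ≤ E := sup_le (phiF_le E) (zpowers_le.2 hb)
  haveI := finite_of_le l2
  have n2 : normalizerIn S E ≤ normalizer ((phiF E ⊔ zpowers b : Subgroup Ω) : Set Ω) := fun g hg =>
    mem_normalizer_sup_zpowers ((phiF_le E).trans hE.le) (hE.le hb) (nP hg) (b3 g hg)
  have c2 := card_sup_zp (nP (EN hb)) b1 b2
  obtain ⟨x, hx, x1, x2, x3⟩ := Fus.exists_central_mod pN EN n2 inf_le_right fun e =>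
    hc ((card_le_of_le e).trans (c2.le.trans (Nat.mul_le_mul_right _ (Nat.le_self_pow two_ne_zero p))))
  have l3 : phiF E ⊔ zpowers b ⊔ zpowers x ≤ E := sup_le l2 (zpowers_le.2 hx)
  have c3 := card_sup_zp (n2 (EN hx)) x1 x2
  have h1 := relIndex_commMod_le nP (nP (EN hx)) fun s hs =>
    comm_mem_symm (comm_mem_of_conj (n2 (EN hx)) (x3 s hs))
  rw [relIndex_sup_zpowers (nP (EN hb)) b1 b2] at h1
  by_cases hle : commMod (phiF E) x ⊓ normalizerIn S E ≤ E
  · have := relIndex_le_of_le_left hle (relIndex_ne_zero_of_finite (le_refl (normalizerIn S E)))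
    rw [inf_relIndex_right] at this
    exact relIndex_eq_of_le hS NS (this.trans h1) (lt_normalizerIn hS (hE.lt hF hS)).not_ge
  obtain ⟨g, hg, hgE⟩ := SetLike.not_le_iff_exists.1 hle
  have l4 : phiF E ⊔ zpowers b ⊔ zpowers x ≤ cfix E (phiF E) g := sup_le (sup_le (fun z hz =>
    (mem_cfix (EN.trans nP)).2 ⟨phiF_le E hz, by
      simpa [commutatorElement_def, mul_assoc] using
        (phiF E).mul_mem hz (conj_mem_of_mem_normalizer (nP hg.2) ((phiF E).inv_mem hz))⟩)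
    (zpowers_le.2 ((mem_cfix (EN.trans nP)).2 ⟨hb, comm_mem_of_conj (nP (EN hb)) (b3 g hg.2)⟩)))
    (zpowers_le.2 ((mem_cfix (EN.trans nP)).2 ⟨hx, comm_mem_symm hg.1.2⟩))
  have hne : ¬ E ≤ cfix E (phiF E) g := fun e => hgE (hE.isCentric.mem_of_cj_mem_opStab
    (hE.isRadical hS) hg.2.1 (H8.mem_opStab_of_frattini hS (F.iso_cj hE.le hg.2.1 hg.2.2)
      fun x hx => conj_mem_of_comm (aInv_phiF F E) hE.le hx (e hx).2.2))
  have hi : (cfix E (phiF E) g).relIndex E = p := by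
    haveI := finite_of_le (cfix_le E (phiF E) g)
    refine ((Nat.dvd_prime hp.out).1 (relIndex_dvd_of_card hS (cfix_le _ _ _) hE.le
      (hr.trans (le_trans ?_ (Nat.mul_le_mul_left p (card_le_of_le l4)))))).resolve_left
      fun e => hne (relIndex_eq_one.1 e)
    rw [c3, c2]; exact le_of_eq (by ring)
  obtain ⟨y, hy, hy'⟩ := SetLike.not_le_iff_exists.1 hne
  obtain ⟨t1, -, t3⟩ := tv_of_hyper hS hE.le (phiF_le E) hg.2.1 hg.2.2 (nP hg.2) cE hi hy hy'
  exact key ⟨g, hg.2.1, hg.2.2, hgE, _, t1.1, conj_mem_of_comm (aInv_phiF F E) hE.le t1.1 t1.2.2,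
    fun x hx => inv_conj_eq x g ▸ t3 _ (E.inv_mem hx)⟩

theorem ext_step (hS : IsPGroup p S) (hF : F.IsSaturated p) (hR : F.IsFullyNormalized R)
    (iD : F.AInv R D) (iK : F.AInv R K) (h1 : D.relIndex R ∣ p) (h2 : K.relIndex D ∣ p)
    (h3 : ∀ s ∈ normalizerIn S R, ∀ x ∈ K, x⁻¹ * (s * x * s⁻¹) ∈ phiF R) (hβ : F.Iso R R β) :
    ∃ τ, F.Iso (normalizerIn S R) (normalizerIn S R) τ ∧ ∀ x ∈ R, τ x = β x := by
  have nD := aInv_normalizer iD hR.1
  obtain ⟨τ, t1, t2⟩ := (hR.isReceptive hF hS).exists_ext_of_le hβ le_rfl fun s hs =>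
    (hR.isFullyAutomized hF hS).opStab_le (hβ.conj_mem_opStab (mem_opStab_three hS
      (F.iso_cj hR.1 hs.1 hs.2) iD iK (conj_mem_of_relIndex hS hs.1 (nD hs) hs.2 h1)
      (fun x hx _ => conj_mem_of_relIndex hS hs.1 (aInv_normalizer iK hR.1 hs) (nD hs) h2 x hx)
      fun x hx _ => h3 s hs x hx))
  exact ⟨τ, (t1.mono le_sup_right).iso_self fun s hs => by
    simpa [(hβ.congr t2).img_eq] using t1.mem_normalizerIn le_sup_left (mem_sup_right hs) hs.2, t2⟩

theorem aInv_of_conj (hS : IsPGroup p S) (hR : R ≤ S) (iM : F.AInv R M) (MD : M ≤ D) (DR : D ≤ R)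
    (i1 : M.relIndex D = p) (i2 : D.relIndex R = p) (nD : normalizerIn S R ≤ normalizer (D : Set Ω))
    (ha : a ∈ R) (ht : t ∈ normalizerIn S R) (h1 : ⁅a, t⁆ ∉ M)
    (hn : ∀ σ, F.Iso R R σ → σ a ∉ D) : F.AInv R D := fun τ hτ => by
  have RQ := le_normalizerIn hR
  haveI := finite_of_le (normalizerIn_le S R)
  haveI := normal_subgroupOf_of_le_normalizer nD
  haveI := normal_subgroupOf_of_le_normalizer (aInv_normalizer iM hR)
  have h2 : ⁅a, t⁆ ∈ D := (conj_mem_iff_comm (nD (RQ ha))).1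
    (conj_mem_of_relIndex hS ht.1 (nD ht) ht.2 i2.dvd a ha)
  have eD := sup_zpowers_eq MD i1 h2 h1
  generalize hg : ⁅a, t⁆ = g at eD
  have gD : g ∈ D := hg ▸ h2
  refine eD ▸ mapsTo_sup_zp (eD.symm ▸ hτ.homOn.mono DR) (fun x hx => mem_sup_left (iM τ hτ x hx))
    (eD.symm ▸ by_contra fun e => ?_)
  have g1 := hτ.mem (DR gD)
  obtain ⟨s, hs⟩ := exists_conj_mem' (M := M.subgroupOf _) (D := D.subgroupOf _)
    ((isPGroup_of_le hS (normalizerIn_le S R)).to_subgroup ⊤) (comap_mono MD)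
    ((relIndex_subgroupOf (DR.trans RQ)).trans i1) (a := ⟨a, RQ ha⟩) (t := ⟨t, ht⟩) (x := ⟨τ g, RQ g1⟩)
    h2 h1 (by rw [subgroupOf_sup_zp (DR.trans RQ), sup_zpowers_eq DR i2 g1 e]; exact ha)
  rw [subgroupOf_sup_zp (MD.trans (DR.trans RQ))] at hs
  exact hn _ ((F.iso_cj hR s.2.1 s.2.2).trans hτ.symm) (mapsTo_sup_zp (hτ.symm.homOn.mono
    (sup_le (MD.trans DR) (zpowers_le.2 g1))) (fun m hm => MD (iM _ hτ.symm m hm)) (by simpa using gD) _ hs)

/-- An essential subgroup that is elementary abelian of order `p ^ 3`. -/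
structure EC (F : FusionSystem S) (p : ℕ) (E : Subgroup Ω) : Prop where
  pg : IsPGroup p S
  sat : F.IsSaturated p
  ess : F.IsEssential p E
  el : IsElementaryAbelian p E
  card : Nat.card E = p ^ 3

namespace EC
variable (h : EC F p E)
include h

theorem les : LEs F p E := lEs_of_card h.pg h.sat h.ess (h.card.le.trans (Nat.le_mul_of_pos_right _
  (have := finite_of_le ((phiF_le E).trans h.ess.le); Nat.card_pos)))

theorem comm (hx : x ∈ E) (hy : y ∈ E) : x * y = y * x := comm_of_isMulCommutative h.el.1 x hx y hy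

theorem mem (hx : x ∈ S) (hc : ∀ y ∈ E, y * x = x * y) : x ∈ E :=
  h.ess.isCentric.centralizerIn_le ⟨hx, hc⟩

theorem map (hτ : F.IsMap T τ) (hT : normalizerIn S E ≤ T) : EC F p (img τ E) := by
  have i := (hτ.mono ((le_normalizerIn h.ess.le).trans hT)).iso
  refine ⟨h.pg, h.sat, essential_of_iso h.ess i (h.les.fn.of_map hτ hT), ⟨isMulCommutative_of_comm
    fun x hx y hy => ?_, fun x hx => ?_⟩, i.card_eq.symm.trans h.card⟩
  · obtain ⟨x, hx', rfl⟩ := i.exists_eq hx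
    obtain ⟨y, hy', rfl⟩ := i.exists_eq hy
    rw [← i.homOn hx' hy', h.comm hx' hy', i.homOn hy' hx']
  · obtain ⟨x, hx', rfl⟩ := i.exists_eq hx
    rw [← i.homOn.map_pow hx', h.el.2 x hx', i.homOn.map_one]

variable (hN : normalizerIn S E = N)
include hN

theorem leN : E ≤ N := hN ▸ le_normalizerIn h.ess.le
theorem leS : N ≤ S := hN ▸ normalizerIn_le S E
theorem idx : E.relIndex N = p := hN ▸ h.les.idx
theorem cardN : Nat.card N = p ^ 4 := by rw [card_of_relIndex (h.leN hN) (h.idx hN), h.card, ← pow_succ']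
theorem zc_le : zc N ≤ E := fun _ hx => h.mem (h.leS hN hx.1) fun y hy => hx.2 y (h.leN hN hy)
theorem nrm : normalizerIn S N ≤ normalizer (zc N : Set Ω) :=
  aInv_normalizer (F := F) (fun _ hτ _ => (iso_zc hτ).mem) (h.leS hN)

variable (hn : N ≠ S)
include hn

theorem zc_idx : (zc N).relIndex E = p ∧ ∀ x ∈ N, ∀ y ∈ N, ⁅x, y⁆ ∈ zc N := by
  have NS := h.leS hN
  obtain ⟨t, ht, tN⟩ := SetLike.exists_of_lt (lt_normalizerIn h.pg (NS.lt_of_ne hn))
  have mt := F.isMap_cj (le_refl S) ht.1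
  have h₂ := h.map mt inf_le_left
  have hN₂ : normalizerIn S (img (cj t) E) = N := by
    rw [← h.les.fn.img_normalizerIn mt inf_le_left, hN, img_cj_eq_iff.2 ht.2]
  have hne : E ≠ img (cj t) E := fun e => tN (hN ▸ ⟨ht.1, img_cj_eq_iff.1 e.symm⟩)
  obtain ⟨y, hy, hy'⟩ := exists_mem_of_ne (h.leN hN) (h₂.leN hN₂) (h.idx hN) (h₂.idx hN₂) hne
  obtain ⟨z, hz, hz'⟩ := exists_mem_of_ne (h₂.leN hN₂) (h.leN hN) (h₂.idx hN₂) (h.idx hN) hne.symm
  have i := relIndex_inf_of h.pg NS (h.leN hN) (h₂.idx hN₂) hy hy'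
  have l : E ⊓ img (cj t) E ≤ zc N := fun x hx => ⟨h.leN hN hx.1, fun s hs =>
    mem_centralizer_singleton_iff.1 ((sup_le (fun w hw => mem_centralizer_singleton_iff.2 (h.comm hw hx.1))
      (zpowers_le.2 (mem_centralizer_singleton_iff.2 (h₂.comm hz hx.2))) : _ ≤ centralizer {x})
      ((sup_zpowers_eq (h.leN hN) (h.idx hN) (h₂.leN hN₂ hz) hz').ge hs))⟩
  haveI := finite_of_le NS
  have pN := isPGroup_of_le h.pg NS
  exact ⟨((eq_or_eq_of_relIndex l (h.zc_le hN) i).resolve_right fun e => hz' (h.mem (h₂.ess.le hz)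
    fun w hw => ((e.ge hw).2 z (h₂.leN hN₂ hz)).symm)).symm ▸ i, fun x hx y hy => l
    ⟨commutator_le_of_relIndex pN (h.leN hN) (h.idx hN) (commutator_mem_commutator hx hy),
      commutator_le_of_relIndex pN (h₂.leN hN₂) (h₂.idx hN₂) (commutator_mem_commutator hx hy)⟩⟩

theorem key (ha : a ∈ E) (ha' : a ∉ zc N) (ht : t ∈ normalizerIn S N) (h1 : ⁅a, t⁆ ∈ zc N) : t ∈ N :=
  hN ▸ ⟨ht.1, normalizer_of_comm h.ess.le fun x hx => h.zc_le hN (comm_mem_symm (comm_mem_of_sup_zpowers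
    le_normalizer (h.nrm hN (le_normalizerIn (h.leS hN) (h.leN hN ha)))
    (fun _ hm => comm_mem_of_nrm (h.nrm hN ht) hm) h1 x
    ((sup_zpowers_eq (h.zc_le hN) (h.zc_idx hN hn).1 ha ha').ge hx)))⟩

theorem exists_y : ∃ y ∈ E, y ∉ zc N := SetLike.not_le_iff_exists.1 fun e =>
  hp.out.one_lt.ne' ((h.zc_idx hN hn).1.symm.trans (relIndex_eq_one.2 e))

theorem exists_g : ∃ g D, g ∈ D ∧ g ∉ E ∧ zc N ≤ D ∧ D ≤ N ∧ (zc N).relIndex D = p ∧ D.relIndex N = p ∧
    normalizerIn S N ≤ normalizer (D : Set Ω) := by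
  have NS := h.leS hN
  have NG := lt_normalizerIn h.pg (NS.lt_of_ne hn)
  haveI := finite_of_le (normalizerIn_le S N)
  obtain ⟨y, hy, hy'⟩ := h.exists_y hN hn
  obtain ⟨g, hg, g1, g2, g3⟩ := Fus.exists_central_mod (isPGroup_of_le h.pg (normalizerIn_le S N)) NG.le
    (h.nrm hN) inf_le_right fun e => hy' (e (h.leN hN hy))
  have ng := h.nrm hN (NG.le hg)
  replace g3 := fun s hs => (conj_mem_iff_comm ng).1 (g3 s hs)
  have i1 := relIndex_sup_zpowers ng g1 g2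
  have DN : zc N ⊔ zpowers g ≤ N := sup_le inf_le_left (zpowers_le.2 hg)
  refine ⟨g, _, mem_sup_right (mem_zpowers g), fun e => NG.not_ge fun s hs => h.key hN hn e g1 hs (g3 s hs),
    le_sup_left, DN, i1, mul_left_cancel₀ hp.out.ne_zero ?_, fun s hs => normalizer_of_comm (DN.trans NS)
      fun x hx => mem_sup_left (comm_mem_symm (comm_mem_of_sup_zpowers le_normalizer ng
        (fun m hm => comm_mem_of_nrm (h.nrm hN hs) hm) (g3 s hs) x hx))⟩
  rw [← i1, relIndex_mul_relIndex _ _ _ le_sup_left DN, ← relIndex_mul_relIndex _ _ _ (h.zc_le hN)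
    (h.leN hN), (h.zc_idx hN hn).1, h.idx hN, i1]

theorem card_le : Nat.card (normalizerIn S N) ≤ p ^ 5 := by
  obtain ⟨g, D, -, -, -, DN, i1, i2, nD⟩ := h.exists_g hN hn
  obtain ⟨y, hy, hy'⟩ := h.exists_y hN hn
  have NG := le_normalizerIn (h.leS hN)
  haveI := finite_of_le (DN.trans (h.leS hN))
  haveI := finite_of_le (normalizerIn_le S N)
  have := (relIndex_commMod_le (h.nrm hN) (h.nrm hN (NG (h.leN hN hy))) fun s hs => comm_mem_symm
    ((conj_mem_iff_comm (nD (NG (h.leN hN hy)))).1 (conj_mem_of_relIndex h.pg hs.1 (nD hs) hs.2 i2.dvd y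
      (h.leN hN hy)))).trans i1.le
  rw [← inf_relIndex_right] at this
  rw [← H8.card_mul_relIndex' NG, h.cardN hN, pow_succ p 4]
  exact Nat.mul_le_mul_left _ ((relIndex_le_of_le_left (fun s (hs : s ∈ commMod (zc N) y ⊓ normalizerIn S N) =>
    h.key hN hn hy hy' hs.2
    (comm_mem_symm hs.1.2)) (relIndex_ne_zero_of_finite le_rfl)).trans this)

theorem fN : F.IsFullyNormalized N := ⟨h.leS hN, fun Q hQ => by
  obtain ⟨φ, hφ⟩ := hQ.exists_iso
  haveI := finite_of_le (normalizerIn_le S N)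
  refine ((h.map hφ.isMap hN.le).card_le ((h.les.fn.img_normalizerIn hφ.isMap hN.le).symm.trans
    (hN ▸ hφ.img_eq)) fun e => hn (eq_of_le_of_card_ge (h.leS hN) (by rw [hφ.card_eq, e]))).trans ?_
  rw [pow_succ', ← h.cardN hN]
  exact mul_card_le_of_lt h.pg (lt_normalizerIn h.pg ((h.leS hN).lt_of_ne hn)) (normalizerIn_le S N)⟩

theorem gq (hg : g ∈ N) (gE : g ∉ E) (hy : y ∈ E) (hy' : y ∉ zc N) :
    cfix E ⊥ g = zc N ∧ ∃ a W, GQ F p E E ⊥ g ⁅y, g⁆ a W := by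
  have nb := normal_le_normalizer ⊥ E
  obtain ⟨i, c⟩ := h.zc_idx hN hn
  have c1 : ∀ x ∈ zc N, ⁅x, g⁆ ∈ (⊥ : Subgroup Ω) := fun x hx =>
    commutatorElement_eq_one_iff_mul_comm.2 (hx.2 g hg).symm
  have e : cfix E ⊥ g = zc N := (eq_or_eq_of_relIndex (fun x hx => (mem_cfix nb).2
    ⟨h.zc_le hN hx, c1 x hx⟩) (cfix_le _ _ _) i).resolve_right fun e => gE (h.mem (h.leS hN hg)
      fun x hx => commutatorElement_eq_one_iff_mul_comm.1 (e.ge hx).2.2)
  exact ⟨e, h.les.exists_gq ⟨h.ess.le, le_rfl, bot_le, aInv_self F E, aInv_bot F E, fun e he x hx =>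
    commutatorElement_eq_one_iff_mul_comm.2 (h.comm hx he)⟩ (hN.symm ▸ hg) (e ▸ i) (fun j => gE
      (h.les.mem_of_ut (ut_bot h.ess.le) (e ▸ j) (h.zc_le hN) (hN.symm ▸ hg)
        (fun x hx => c x (h.leN hN hx) g hg) c1)) hy (e ▸ hy')⟩

theorem zc_le_zc (hp5 : 5 ≤ p) : zc N ≤ zc (normalizerIn S N) := by
  obtain ⟨g, D, gD, gE, MD, DN, i1, i2, nD⟩ := h.exists_g hN hn
  obtain ⟨y, hy, hy'⟩ := h.exists_y hN hn
  obtain ⟨iM1, cN⟩ := h.zc_idx hN hn
  have hS := h.pg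
  have NS := h.leS hN
  have EN := h.leN hN
  have ME := h.zc_le hN
  have nM := h.nrm hN
  have NG := lt_normalizerIn hS (NS.lt_of_ne hn)
  obtain ⟨t, ht, tN⟩ := SetLike.exists_of_lt NG
  have iM : F.AInv N (zc N) := fun _ hτ _ => (iso_zc hτ).mem
  have key := fun a t => h.key (a := a) (t := t) hN hn
  have iD : F.AInv N D := aInv_of_conj hS NS iM MD DN i1 i2 nD (EN hy) ht
    (fun e => tN (key y t hy hy' ht e)) fun σ hσ e => by
      haveI := finite_of_le (DN.trans NS)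
      haveI := finite_of_le (normalizerIn_le S D)
      exact (card_lt_of_lt_of_finite (Q := normalizerIn S D) (NG.trans_le (le_inf inf_le_left nD))).not_ge
        (hN ▸ h.les.fn.2 _ ((hσ.isMap.mono EN).iso_of_card (Q := D) (fun x hx => mapsTo_sup_zp
          (hσ.homOn.mono (sup_le inf_le_left (zpowers_le.2 (EN hy)))) (fun m hm => MD (iM _ hσ m hm)) e x
          ((sup_zpowers_eq ME iM1 hy hy').ge hx))
          (by rw [card_of_relIndex MD i1, card_of_relIndex ME iM1])).isConj)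
  obtain ⟨e, a, W, q⟩ := h.gq hN hn (DN gD) gE hy hy'
  have bN : ⁅y, g⁆ ∈ ⁅N, N⁆ := commutator_mem_commutator (EN hy) (DN gD)
  have bM := e ▸ q.memb
  have nb : N ≤ normalizer (zpowers ⁅y, g⁆ : Set Ω) := le_normalizer_of_le_zc (zpowers_le.2 bM)
  have cb : ⁅N, N⁆ ≤ zpowers ⁅y, g⁆ := by
    have := commutator_sup_zpowers_le (EN.trans nb) (nb (DN gD)) (fun x hx z hz =>
      commutatorElement_eq_one_iff_mul_comm.2 (h.comm hx hz) ▸ one_mem _) fun x hx => comm_mem_symm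
        (comm_mem_of_sup_zpowers (inf_le_left.trans nb) (nb (EN hy)) (fun m (hm : m ∈ zc N) =>
          (commutatorElement_eq_one_iff_mul_comm.2 (hm.2 g (DN gD)).symm).symm ▸ one_mem _) (mem_zpowers _) x
          ((sup_zpowers_eq ME iM1 hy hy').ge hx))
    rwa [sup_zpowers_eq EN (h.idx hN) (DN gD) gE] at this
  generalize ⁅y, g⁆ = b at q bN bM nb cb
  have b0 : b ≠ 1 := fun e => q.nmem (e ▸ one_mem W)
  have ib : (⊥ : Subgroup Ω).relIndex (zpowers b) = p := by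
    rw [relIndex_bot_left, card_zpowers_of_pow b0 q.powb]
  have WM := e ▸ q.le
  have iW : W.relIndex (zc N) = p := by
    rw [← e, ← q.sup]
    exact relIndex_sup_zpowers (q.invW.le_normalizer h.ess.le (ME bM)) q.nmem (q.le' q.powb)
  obtain ⟨c, d, hcd, hj⟩ := exists_generic hp5
  obtain ⟨β, b1, -, b3, b4, b5, b6⟩ := q.torus c d hcd
  rw [hN] at b1
  haveI := finite_of_le NS
  have ED : ∀ x ∈ E, x ∈ D → x ∈ zc N := fun x h1 h2 =>
    ((eq_or_eq_of_relIndex (le_inf ME MD) inf_le_right i1).resolve_right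
      fun e => gE (e.ge gD).1).le ⟨h1, h2⟩
  have φM : phiF N ≤ zc N := phiF_le_of NS cN fun x hx =>
    ED _ (h.les.pow_mem (hN.symm ▸ hx)) (pow_mem_of_relIndex (NG.le.trans nD) i2 hx)
  obtain ⟨τ, t4, t2⟩ := ext_step hS h.sat (h.fN hN hn) iD iM i2.dvd i1.dvd (fun s hs =>
    conj_mem_of_relIndex hS hs.1 (normalizer_phiF NS hs) (nM hs) (relIndex_dvd_of_card hS φM
      (inf_le_left.trans NS) (by
        have := card_of_relIndex ME iM1
        rw [h.card, pow_succ', mul_right_inj' hp.out.ne_zero] at this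
        rw [← this, sq, ← card_zpowers_of_pow b0 q.powb]
        haveI := finite_of_le (phiF_le N)
        exact Nat.mul_le_mul_left _ (card_le_of_le (zpowers_le.2 (commutator_le_phiF hS NS bN)))))) b1
  have t3 := b1.congr t2
  obtain ⟨φ, hφ, rfl⟩ := q.conj
  have aE := hφ.mem (ME bM)
  have aM : φ b ∉ zc N := fun h => q.ne (e.ge h).2.2
  haveI := finite_of_le (normalizerIn_le S N)
  haveI := normal_subgroupOf_of_le_normalizer nM
  haveI := normal_subgroupOf_of_le_normalizer nD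
  haveI : (N.subgroupOf (normalizerIn S N)).Normal := normal_subgroupOf_of_le_normalizer inf_le_right
  have ap := fun (x : normalizerIn S N) => resAut_apply t4.mem_autStab x
  have hW := cent_of_wt (W := W.subgroupOf _) (M := (zc N).subgroupOf _) (D := D.subgroupOf _)
    (N := N.subgroupOf _) (α := resAut _ τ) ((isPGroup_of_le hS (normalizerIn_le S N)).to_subgroup ⊤)
    (comap_mono WM) (comap_mono MD) (comap_mono DN)
    ((relIndex_subgroupOf (inf_le_left.trans NG.le)).trans iW)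
    ((relIndex_subgroupOf (DN.trans NG.le)).trans i1) ((relIndex_subgroupOf NG.le).trans i2)
    (a := ⟨_, NG.le (EN aE)⟩) (g := ⟨g, NG.le (DN gD)⟩) (b := ⟨b, NG.le bM.1⟩) (c := c) (d := d)
    (EN aE) (fun e => aM (ED _ aE e)) gD (fun e => gE (ME e)) bM q.nmem (fun s h => key _ _ aE aM s.2 h)
    (fun w hw => comm_one_iff.2 (Subtype.ext (h.comm (ME (WM hw)) aE)))
    (fun x hx y hy => comm_one_iff.2 (Subtype.ext (h.comm (ME hx) (ME hy))))
    (fun w hw => Subtype.ext ((ap w).trans ((t2 _ (WM hw).1).trans (inv_mul_eq_one.1 (b5 w hw)).symm)))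
    (fun x hx => by rw [mem_subgroupOf, ap]; exact iM _ t3 x hx)
    (by simpa [Wt, mem_subgroupOf, ap, t2 b bM.1] using q.le' b3)
    (by simpa [Wt, mem_subgroupOf, ap] using (ED _ (t2 g (DN gD) ▸ b6)
      (D.mul_mem (D.inv_mem (D.zpow_mem gD _)) (iD τ t3 g gD))))
    (by simpa [Wt, mem_subgroupOf, ap, t2 _ (EN aE)] using (bot_le (a := zc N) b4))
    hcd (by simpa using hj 0 2 (by simp)) (by simpa using hj 0 3 (by simp))
  rw [← e, ← q.sup]
  refine sup_le (fun w hw => ⟨NG.le (WM hw).1, fun s hs => (congrArg Subtype.val (comm_one_iff.1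
    (hW ⟨w, NG.le (WM hw).1⟩ hw ⟨s, hs⟩))).symm⟩) (zpowers_le.2 ⟨NG.le bM.1, fun s hs => ?_⟩)
  have := conj_mem_of_relIndex hS hs.1 (normal_le_normalizer ⊥ ⊤ trivial) (normalizer_of_comm
    ((zpowers_le.2 bM.1).trans NS) fun x hx => comm_mem_symm (comm_mem_of_zpowers (nb bM.1) (by
      simpa [commutatorElement_def, mul_assoc] using mul_mem (mem_zpowers b) (cb (conj_mem_of_mem_normalizer
        (aInv_normalizer (aInv_comm (aInv_self F N) (aInv_self F N) le_rfl le_rfl) NS hs)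
        (Subgroup.inv_mem _ bN)))) x hx)) ib.dvd b (mem_zpowers b)
  exact mul_inv_eq_iff_eq_mul.1 (inv_mul_eq_one.1 this).symm

end EC

end Cfsg.Agent.H1
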