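import Cfsg.Agent.H1.Cube

/-!
# No elementary abelian essential subgroup of order `p ^ 3` in a large group of maximal class
-/

set_option autoImplicit false
set_option linter.unusedSectionVars false

namespace Cfsg.Agent.H1

open Equiv Cfsg.Fus Cfsg.FusionSystem Subgroup
open scoped commutatorElement

variable {p : ℕ} [hp : Fact p.Prime] {G : Type*} [Group G] [Finite G] {F : FusionSystem (⊤ : Subgroup G)}
  {E Q : Subgroup G} {m j r : ℕ} {a x y : G}

namespace MC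
variable (h : MC p (m + 1) G) (hp5 : 5 ≤ p) (t : EC F p E)
include h

theorem one (hx : x ∈ lcs G (m + 4)) : x = 1 := h.top.le hx

theorem card_one : Nat.card (lcs G (m + 3)) = p := (h.card_lcs (b := 1) rfl).trans (pow_one p)

include t in
theorem le_one : lcs G (m + 3) ≤ E := fun _ hx =>
  t.mem trivial fun y _ => (comm_one_iff.1 (h.one (comm_mem_lcs hx y))).symm

include t in
theorem ne_top : normalizerIn ⊤ E ≠ ⊤ := fun e => by
  have := t.cardN e
  rw [card_top, h.card] at this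
  exact absurd (Nat.pow_right_injective hp.out.two_le this) (by omega)

include hp5

theorem hk (hr : r ≤ m + 1) : tsc G ≤ kc G r := blackburn (by omega) _ G h r hr

theorem nk (ha : a ∉ tsc G) (r : ℕ) (hr : r < m + 2) : a ∉ kc G r :=
  h.not_mem_kc (by omega) (h.hk hp5 (by omega)) ha

include t

theorem not_le_tsc : ¬ E ≤ tsc G := fun hle => by
  have hn := h.ne_top t
  have c1 := card_of_relIndex (t.zc_le rfl) (t.zc_idx rfl hn).1
  have c2 : ¬ zc (normalizerIn ⊤ (normalizerIn ⊤ E)) ≤ lcs G (m + 3) := fun e => by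
    have := card_le_of_le ((t.zc_le_zc rfl hn hp5).trans e)
    rw [t.card, pow_succ', mul_right_inj' hp.out.ne_zero] at c1
    rw [← c1, h.card_one] at this
    nlinarith
  have nm : ∀ {X : Subgroup G} {r}, r ≤ m + 1 → X ≤ tsc G → flt G (r + 2) ≤ X →
      flt G r ≤ normalizerIn ⊤ X := fun hr h1 h2 s hs => ⟨trivial, normalizer_of_comm (S := ⊤) le_top
    fun x hx => h2 (mem_cMod.1 (h.hk hp5 hr (h1 hx)) s hs)⟩
  have z2 : E ≤ kc G (m + 2) → flt G (m + 2) ≤ E := fun e x hx => t.mem trivial fun y hy =>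
    (comm_one_iff.1 (h.one (mem_cMod.1 (e hy) x hx))).symm
  by_cases e : flt G (m + 2) ≤ E
  · have e1 := eq_of_le_of_card_ge (nm (r := m) (by omega) hle e) ((t.cardN rfl).trans (h.card_flt (b := 4) rfl).symm).le
    refine c2 fun x hx => h.center_eq.le (mem_center_iff.2 fun g => hx.2 g ⟨trivial, ?_⟩)
    rw [← e1]
    exact nle _ g
  obtain ⟨⟨k, hk⟩, e2⟩ := h.exc (by omega) fun e' => e (z2 (hle.trans e'))
  obtain ⟨m, rfl⟩ : ∃ k, m = k + 1 := ⟨m - 1, by omega⟩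
  obtain ⟨z, hz, hz'⟩ := SetLike.not_le_iff_exists.1 e
  have l1 := nm le_rfl hle (h.le_one t)
  have l2 : normalizerIn ⊤ E ≤ tsc G := (sup_zpowers_eq (t.leN rfl) (t.idx rfl)
    (l1 (flt_anti (by omega) hz)) hz').ge.trans (sup_le hle (zpowers_le.2 (flt_anti (Nat.zero_le _) hz)))
  have e3 := eq_of_le_of_card_ge (nm (r := m) (by omega) l2 l1)
    ((t.card_le rfl hn).trans (h.card_flt (b := 5) rfl).ge)
  rw [← e3] at c2
  cases m with
  | zero => exact c2 fun x hx => e2 x hx.1 fun v hv => comm_one_iff.2 (hx.2 v hv).symm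
  | succ m => exact e (z2 ((t.leN rfl).trans ((le_normalizerIn le_top).trans (e3.ge.trans
      ((lcs_anti (by omega)).trans (lcs_le_kc _))))))

theorem inf_eq : E ⊓ tsc G = flt G (m + 2) := by
  obtain ⟨a, ha, ha'⟩ := SetLike.not_le_iff_exists.1 (h.not_le_tsc hp5 t)
  refine eq_of_le_of_card_ge (fun c hc => h.mem_flt (M := m + 2) (by omega) (h.nk hp5 ha') hc.2
    (comm_one_iff.2 (t.comm hc.1 ha) ▸ one_mem _) _ le_rfl) (Nat.le_of_mul_le_mul_left ?_ hp.out.pos)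
  rw [h.card_flt (b := 2) rfl, ← pow_succ', ← t.card]
  exact h.card_le_tsc E

theorem count (hQ : E ≤ Q) : Nat.card (normalizerIn ⊤ Q) ≤ p * Nat.card Q := by
  obtain ⟨a, ha, ha'⟩ := SetLike.not_le_iff_exists.1 (h.not_le_tsc hp5 t)
  have h1 := card_le_of_relIndex (relIndex_commMod_le (S := normalizerIn ⊤ Q) (B := Q ⊓ tsc G)
    (normal_le_normalizer (lcs G (m + 3)) _) (nle _ a) fun s hs => ⟨comm_mem_symm
      (comm_mem_of_nrm hs.2 (hQ ha)), lcs_one_le_tsc (comm_mem_lcs (k := 0) trivial a)⟩)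
  have h2 := H8.card_mul_relIndex' (le_inf ((h.le_one t).trans hQ)
    ((lcs_anti (by omega)).trans lcs_one_le_tsc))
  have h3 := mul_card_le h.pg (inf_le_left : Q ⊓ tsc G ≤ Q) fun e => ha' (e (hQ ha)).2
  have h4 := (h.card_le_tsc _).trans (Nat.mul_le_mul_left p ((card_le_of_le fun c (hc : c ∈
    normalizerIn ⊤ Q ⊓ commMod (lcs G (m + 3)) a ⊓ tsc G) => h.mem_flt (M := m + 2) (by omega)
      (h.nk hp5 ha') hc.2 hc.1.2.2 _ le_rfl).trans (h.card_flt (b := 2) rfl).le))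
  rw [h.card_one] at h2
  refine h1.trans ((Nat.mul_le_mul_left _ h4).trans (le_trans (le_of_eq ?_) (Nat.mul_le_mul_left p h3)))
  rw [← h2]
  ring

variable (ha : a ∈ E) (ha' : a ∉ tsc G)
include ha ha'

theorem idxR (j : ℕ) : (lcs G (j + 1)).relIndex (lcs G (j + 1) ⊔ zpowers a) = p :=
  relIndex_sup_zp (fun e => ha' (flt_anti (Nat.zero_le (j + 1)) e)) (t.el.2 a ha ▸ one_mem _)

theorem eqE : lcs G (m + 2) ⊔ zpowers a = E := by
  have l : lcs G (m + 2) ≤ E := (h.inf_eq hp5 t).ge.trans inf_le_left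
  refine eq_of_le_of_card_ge (sup_le l (zpowers_le.2 ha)) ?_
  rw [card_of_relIndex le_sup_left (h.idxR hp5 t ha ha' _), h.card_lcs (b := 2) rfl, t.card, pow_succ']

theorem leR (hj : j ≤ m + 2) : E ≤ lcs G j ⊔ zpowers a :=
  (h.eqE hp5 t ha ha').ge.trans (sup_le_sup_right (lcs_anti hj) _)

theorem infR (hx : x ∈ lcs G (j + 1) ⊔ zpowers a) (hx' : x ∈ tsc G) : x ∈ lcs G (j + 1) :=
  ((eq_or_eq_of_relIndex (le_inf le_sup_left (flt_anti (Nat.zero_le (j + 1)))) inf_le_left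
    (h.idxR hp5 t ha ha' j)).resolve_right fun e => ha' (e.ge (mem_sup_right (mem_zpowers a))).2).le
    ⟨hx, hx'⟩

theorem nrmR (hj : j ≤ m + 1) :
    normalizerIn ⊤ (lcs G (j + 1) ⊔ zpowers a) = lcs G j ⊔ zpowers a := by
  obtain ⟨y, hy, hy'⟩ := h.exists_mem (r := j) (by omega)
  refine (eq_of_le_of_card_ge (sup_le (le_inf le_top fun s hs => normalizer_of_comm (S := ⊤) le_top
    fun x _ => mem_sup_left (comm_mem_lcs hs x)) (le_sup_right.trans (le_normalizerIn le_top)))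
    ((h.count hp5 t (h.leR hp5 t ha ha' (by omega))).trans (mul_card_le h.pg
      (sup_le_sup_right (lcs_anti j.le_succ) _) fun e => hy' (h.infR hp5 t ha ha'
        (e (mem_sup_left (flt_le_lcs j hy))) (flt_anti j.zero_le hy))))).symm

theorem nrmE : normalizerIn ⊤ E = lcs G (m + 1) ⊔ zpowers a := by
  rw [← h.nrmR hp5 t ha ha' le_rfl, h.eqE hp5 t ha ha']

theorem zcR (hj : j ≤ m + 1) : zc (lcs G j ⊔ zpowers a) ≤ lcs G (m + 2) := fun x hx => by
  obtain ⟨g, hg, hg'⟩ := h.exists_mem (r := m + 1) (by omega)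
  refine (h.inf_eq hp5 t).le ⟨t.mem trivial fun y hy => hx.2 y (h.leR hp5 t ha ha' (by omega) hy),
    by_contra fun e => hg' (h.mem_flt (M := m + 2) (by omega) (h.nk hp5 e) (flt_anti (Nat.zero_le _) hg)
      (comm_one_iff.2 (hx.2 g (mem_sup_left (lcs_anti hj hg))) ▸ one_mem _) _ le_rfl)⟩

theorem lcs_le (j : ℕ) : ∀ d k, j + 1 ≤ k → k + d = m + 2 → lcs G (k + 1) ≤
    ⁅lcs G (j + 1) ⊔ zpowers a, lcs G (j + 1) ⊔ zpowers a⁆ ⊔ lcs G (m + 3)
  | 0, k, _, e => by rw [show k = m + 2 from e]; exact le_sup_right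
  | d + 1, k, e1, e => by
    obtain ⟨y, hy, hy'⟩ := h.exists_mem (r := k) (by omega)
    exact (h.sup_eq (r := k + 1) (by omega) (comm_mem_flt hy a) fun e' => h.nk hp5 ha' k (by omega)
      (h.mem_kc (by omega) hy hy' e')).ge.trans (sup_le (lcs_le j d (k + 1) (by omega) (by omega))
      (zpowers_le.2 (mem_sup_left (commutator_mem_commutator (mem_sup_left
        (lcs_anti e1 (flt_le_lcs k hy))) (mem_sup_right (mem_zpowers a))))))

theorem ext_top : ∀ j ≤ m + 1, ∀ β, F.Iso (lcs G j ⊔ zpowers a) (lcs G j ⊔ zpowers a) β →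
    ∃ τ, F.Iso ⊤ ⊤ τ ∧ ∀ x ∈ lcs G j ⊔ zpowers a, τ x = β x
  | 0, _, β, hβ => ⟨β, by simpa using hβ, fun _ _ => rfl⟩
  | j + 1, hj, β, hβ => by
    have eN := h.nrmR hp5 t ha ha' (j := j) (by omega)
    have lN := (h.nrmE hp5 t ha ha').le.trans (sup_le_sup_right (lcs_anti hj) _)
    have lK := h.lcs_le hp5 t ha ha' j (m + 1 - j) (j + 1) le_rfl (by omega)
    have i2 := h.idxR hp5 t ha ha' j
    have lz := h.zcR hp5 t ha ha' hj
    have aR : a ∈ lcs G (j + 1) ⊔ zpowers a := mem_sup_right (mem_zpowers a)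
    have DR : lcs G (j + 1) ≤ lcs G (j + 1) ⊔ zpowers a := le_sup_left
    have cR := commutator_sup_zpowers_le (D := lcs G (j + 2)) (normal_le_normalizer _ _) (nle _ a)
      (fun x hx y _ => comm_mem_lcs hx y) fun x hx => comm_mem_symm (comm_mem_lcs hx a)
    obtain ⟨y, hy, hy'⟩ := h.exists_mem (r := j) (by omega)
    have RT : lcs G (j + 1) ⊔ zpowers a ≠ ⊤ := fun e => hy'
      (h.infR hp5 t ha ha' (e ▸ trivial) (flt_anti j.zero_le hy))
    generalize lcs G (j + 1) ⊔ zpowers a = R at *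
    have z1 : ∀ x ∈ lcs G (m + 3), ∀ s : G, ⁅x, s⁆ = 1 := fun x hx s => h.one (comm_mem_lcs hx s)
    have iK : F.AInv R (lcs G (j + 2)) := (le_antisymm (sup_le cR (lz.trans (lcs_anti (by omega))))
      (lK.trans (sup_le_sup_left (fun x hx => mem_zc'.2 ⟨DR (lcs_anti (by omega) hx),
        fun y _ => comm_one_symm (z1 x hx y)⟩) _))) ▸ aInv_sup (aInv_comm (aInv_self F R) (aInv_self F R)
      le_rfl le_rfl) (fun _ hτ _ => (iso_zc hτ).mem) (cR.trans ((lcs_anti (by omega)).trans DR)) inf_le_left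
    have i1 := h.relIndex_lcs (k := j) (by omega)
    have iD := aInv_of_conj t.pg le_top iK (lcs_anti (Nat.le_succ _)) DR i1 i2 (normal_le_normalizer _ _) aR
      (eN.ge (mem_sup_left (flt_le_lcs j hy))) (fun e => h.nk hp5 ha' j (by omega)
        (h.mem_kc (by omega) hy hy' (comm_mem_symm e))) fun σ hσ e => h.not_le_tsc hp5
      (t.map hσ.isMap lN) (img_le_iff.2 (h.eqE hp5 t ha ha' ▸ mapsTo_sup_zp ((h.eqE hp5 t ha ha').symm ▸
        hσ.homOn.mono ((t.leN rfl).trans lN)) (fun x hx => flt_anti (Nat.zero_le (j + 2))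
          (iK σ hσ x (lcs_anti (by omega) hx))) (flt_anti (Nat.zero_le (j + 1)) e)))
    obtain ⟨τ, h1, h2⟩ := ext_step t.pg t.sat ⟨le_top, fun Q hQ => by
      obtain ⟨φ, hφ⟩ := hQ.exists_iso
      refine (h.count hp5 (t.map hφ.isMap lN) (img_le_iff.2 fun x hx =>
        hφ.mem (lN (t.leN rfl hx)))).trans ?_
      rw [← hφ.card_eq]
      exact mul_card_le_of_lt t.pg (lt_normalizerIn t.pg (lt_top_iff_ne_top.2 RT))
        le_top⟩ iD iK i2.dvd i1.dvd (fun s hs x hx => by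
      have n := normalizer_phiF le_top hs
      exact (conj_mem_iff_comm (normalizer_phiF le_top (le_normalizerIn le_top (DR (lcs_anti
        (by omega) hx))))).2 (comm_mem_of_sup ((commutator_le_phiF t.pg le_top).trans le_normalizer)
        (fun z hz => normalizer_of_comm (S := ⊤) le_top fun w _ => z1 z hz w ▸ one_mem _)
        (fun z hz => comm_mem_of_nrm n (commutator_le_phiF t.pg le_top hz))
        (fun z hz => z1 z hz s ▸ one_mem _) x (lK hx))) hβ
    rw [eN] at h1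
    obtain ⟨ρ, h3, h4⟩ := ext_top j (by omega) τ h1
    exact ⟨ρ, h3, fun x hx => (h4 x (eN.le (le_normalizerIn le_top hx))).trans (h2 x hx)⟩

omit ha ha' in
theorem no_cube : False := by
  obtain ⟨y, hy, hy'⟩ := SetLike.not_le_iff_exists.1 (h.not_le_tsc hp5 t)
  obtain ⟨g, hg, hg'⟩ := h.exists_mem (r := m + 1) (by omega)
  have eN := h.nrmE hp5 t hy hy'
  have eZ := h.inf_eq hp5 t
  have hp2 : p ≠ 2 := by omega
  obtain ⟨e, a, W, q⟩ := t.gq rfl (h.ne_top t) (eN.ge (mem_sup_left hg))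
    (fun e => hg' (eZ.le ⟨e, flt_anti (Nat.zero_le _) hg⟩)) hy fun e => hy'
      (flt_anti (Nat.zero_le (m + 2)) (h.zcR hp5 t hy hy' le_rfl (eN ▸ e)))
  have b1 : ⁅y, g⁆ ∈ flt G (m + 2) := comm_mem_symm (comm_mem_flt hg y)
  have b2 : ⁅y, g⁆ ∉ flt G (m + 3) := fun e => h.nk hp5 hy' _ (by omega)
    (h.mem_kc (by omega) hg hg' (comm_mem_symm e))
  generalize ⁅y, g⁆ = b at q b1 b2
  obtain ⟨β, t1, -, t2, t3, t4, -⟩ := q.torus (-1) (-1) (by simp)
  obtain ⟨τ, t5, t6⟩ := h.ext_top hp5 t hy hy' _ le_rfl β (eN ▸ t1)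
  rw [← eN] at t6
  have bE := (eZ.ge b1).1
  obtain ⟨φ, hφ, rfl⟩ := q.conj
  have aE := hφ.mem bE
  have aT : φ b ∉ tsc G := fun e => q.ne (h.one (comm_lcs (a := m + 2) (eZ.le ⟨aE, e⟩) hg (by omega)))
  have wb : Wt (toAut t5) ⊥ b (-1) := (t6 b (t.leN rfl bE) ▸ t2 :)
  have wa : Wt (toAut t5) ⊥ (φ b) (-1) := (t6 _ (t.leN rfl aE) ▸ t3 :)
  have WE := q.le.trans (cfix_le _ _ _)
  have ww : ∀ w ∈ W, toAut t5 w = w := fun w hw =>
    (t6 w (t.leN rfl (WE hw))).trans (inv_mul_eq_one.1 (t4 w hw)).symm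
  generalize toAut t5 = α at wb wa ww
  have ex : ¬ tsc G ≤ kc G (m + 2) := fun e => h.not_mem_kc le_rfl e aT (mem_cMod.2 fun x hx =>
    comm_one_iff.2 (t.comm (eZ.ge hx).1 aE) ▸ one_mem _)
  obtain ⟨s, hs, hs'⟩ := h.exists_mem (r := 0) (by omega)
  obtain ⟨c, hc⟩ := exists_wt ((h.sup_eq (by omega) hs hs').ge (MC5.map_mem_flt α 0 s hs))
  have wt : ∀ r ≤ m + 2, ∀ x ∈ flt G r, Wt α (flt G (r + 1)) x (c * (-1) ^ r) := fun r => by
    induction r with
    | zero =>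
      intro _ x hx
      simpa using hc.of_mem (MC5.map_mem_flt α 1) ((h.sup_eq (by omega) hs hs').ge hx)
    | succ r ih =>
      intro hr x hx
      obtain ⟨z, hz, hz'⟩ := h.exists_mem (r := r) (by omega)
      rw [pow_succ, ← mul_assoc]
      exact ((ih (by omega) z hz).comm wa hz (mem_top _) le_top (fun u hu v _ => comm_mem_flt hu v)
        (by simp) fun u hu g => comm_mem_flt (comm_mem_flt hu _) g).of_mem (MC5.map_mem_flt α _)
        ((h.sup_eq (by omega) (comm_mem_flt hz _) fun e => h.nk hp5 aT r (by omega)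
          (h.mem_kc (by omega) hz hz' e)).ge hx)
  have c1 := (wt _ le_rfl b b1).uniq (wb.mono bot_le) b2 (t.el.2 b bE ▸ one_mem _)
  rw [pow_succ, (h.exc hp2 ex).1.neg_one_pow, one_mul, mul_comm] at c1
  have z1 : ⁅b, s⁆ ∈ lcs G (m + 3) := comm_mem_flt b1 s
  have zE := h.le_one t z1
  have wz := wt_bot.1 ((wb.comm hc b1 (mem_top _) le_top (by simp) (fun u hu v hv => h.one
    (comm_lcs (a := m + 2) (b := 1) hu hv le_rfl)) fun u hu g => h.one (comm_mem_lcs
      (comm_mem_flt hu _) g)).congr (t.el.2 _ zE) c1)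
  obtain ⟨w, hw, i, e'⟩ := (mem_sup_zpowers (q.invW.le_normalizer le_top bE)).1 ((q.sup.trans e).ge
    (mem_zc'.2 ⟨t.leN rfl zE, fun u _ => comm_one_symm (h.one (comm_mem_lcs z1 u))⟩))
  rw [e', map_mul, map_zpow, ww w hw, wt_bot.1 wb, zpow_comm, zpow_neg, zpow_neg, zpow_one, zpow_one,
    t.comm (WE hw) (E.zpow_mem bE i), mul_inv_rev, mul_left_inj, eq_inv_iff_mul_eq_one, ← sq] at wz
  obtain rfl : w = 1 := mem_of_sq_mem (M := ⊥) t.pg hp2 trivial wz
  rw [one_mul] at e'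
  by_cases hi : (p : ℤ) ∣ i
  · exact ex (h.le_kc hs hs' (h.mem_kc (by omega) b1 b2 (e' ▸ bot_le (a := flt G _)
      (zpow_mem_of_dvd hi (t.el.2 b bE)))))
  · exact b2 (mem_of_zpow_pg h.pg hi (e' ▸ z1))

end MC

end Cfsg.Agent.H1
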