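import Cfsg.Agent.H1.SecTv
import Cfsg.Agent.H2.Quat
import Cfsg.Agent.H7.BCGLO

/-!
# Essential subgroups of `p`-groups of rank two
-/

set_option autoImplicit false
set_option linter.unusedSectionVars false

namespace Cfsg.Agent.H1

open Equiv Cfsg.Fus Cfsg.FusionSystem Subgroup
open scoped commutatorElement

section Grp

variable {G : Type*} [Group G] {p : ℕ} [hp : Fact p.Prime]

theorem comm_zpow_left {x y : G} (h : Commute ⁅x, y⁆ x) (k : ℤ) : ⁅x ^ k, y⁆ = ⁅x, y⁆ ^ k := by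
  have h1 : y * x⁻¹ * y⁻¹ = x⁻¹ * ⁅x, y⁆ := by simp [commutatorElement_def, mul_assoc]
  rw [commutatorElement_def, mul_assoc, mul_assoc, ← mul_assoc y, ← inv_zpow, ← conj_zpow, h1,
    h.symm.inv_left.mul_zpow, inv_zpow, mul_inv_cancel_left]

theorem comm_zpow_right {x y : G} (h : Commute ⁅x, y⁆ y) (k : ℤ) : ⁅x, y ^ k⁆ = ⁅x, y⁆ ^ k := by
  rw [← commutatorElement_inv, comm_zpow_left (by rw [← commutatorElement_inv]; exact h.inv_left),
    ← inv_zpow, commutatorElement_inv]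

theorem comm_mul_central {x y c d : G} (h1 : Commute c (y * d)) (h2 : Commute d x) :
    ⁅x * c, y * d⁆ = ⁅x, y⁆ := by
  have h3 : ⁅x * c, y * d⁆ = ⁅x, y * d⁆ := by
    simp only [commutatorElement_def]; rw [mul_assoc x c, h1.eq]; group
  have h4 : ⁅x, y * d⁆ = x * y * (d * x⁻¹) * d⁻¹ * y⁻¹ := by
    simp only [commutatorElement_def]; group
  rw [h3, h4, h2.inv_right.eq, commutatorElement_def]; group

open scoped IsMulCommutative in
theorem eigen_step {M A B B' : Subgroup G} (hc : ∀ x ∈ M, ∀ y ∈ M, x * y = y * x) {f : G → G}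
    (hf : HomOn f M) (hM : ∀ x ∈ M, f x ∈ M) (hA : ∀ x ∈ A, f x ∈ A) (hB : B ≤ A) {ν l : ℤ}
    (hl : ¬ (p : ℤ) ∣ ν - l) (h : ∀ y ∈ B, (y ^ l)⁻¹ * f y ∈ B') :
    (∃ x ∈ M, x ∉ A ∧ (x ^ ν)⁻¹ * f x ∈ A ∧ x ^ p ∈ B) →
      ∃ x ∈ M, x ∉ A ∧ (x ^ ν)⁻¹ * f x ∈ A ∧ x ^ p ∈ B' := by
  rintro ⟨x, hx, h1, h2, h3⟩
  haveI := isMulCommutative_of_comm hc
  have hy := hM x hx
  refine ⟨(x ^ l)⁻¹ * f x, mul_mem (inv_mem (zpow_mem hx l)) hy, fun e => h1 ?_, ?_, ?_⟩
  · refine mem_of_pow_mem_of_coprime (a := ν - l) (b := p) (((Nat.prime_iff_prime_int.1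
      hp.out).coprime_iff_not_dvd.2 hl).symm) ?_ (by simpa using hB h3)
    simpa [zpow_sub, (Commute.refl x).zpow_zpow l ν |>.inv_left.eq] using mul_mem e (inv_mem h2)
  · have h4 : ∀ x y w : M, (((x ^ l)⁻¹ * y) ^ ν)⁻¹ * ((y ^ l)⁻¹ * w) =
        (((x ^ ν)⁻¹ * y) ^ l)⁻¹ * ((y ^ ν)⁻¹ * w) := fun x y w => by
      simp [mul_zpow, ← zpow_mul, mul_comm, mul_left_comm, mul_assoc]
    have h5 := mul_mem (inv_mem (zpow_mem h2 l)) (hA _ h2)
    rw [hf.map_mul (inv_mem (zpow_mem hx _)) hy, hf.map_inv (zpow_mem hx _), hf.map_zpow hx] at h5 ⊢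
    exact (congrArg (· ∈ A) (congrArg Subtype.val (h4 ⟨x, hx⟩ ⟨_, hy⟩ ⟨_, hM _ hy⟩))).mpr h5
  · rw [Commute.mul_pow (hc _ (inv_mem (zpow_mem hx l)) _ hy), ← hf.map_pow hx, inv_pow,
      ← zpow_natCast, zpow_comm, zpow_natCast]
    exact h _ h3

theorem delta_pow_eq_one {A : Type*} [CommGroup A] (hp5 : 5 ≤ p) (u δ : A →* A)
    (hδ : ∀ x, u x = x * δ x) {y : A} (hu : u^[p] y = y) (h2 : δ (δ y) ^ p = 1)
    (h4 : δ (δ (δ (δ y))) = 1) : δ y ^ p = 1 := by
  have h1 : ∀ n : ℕ, u^[n] y =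
      y * δ y ^ n * δ (δ y) ^ n.choose 2 * δ (δ (δ y)) ^ n.choose 3 := fun n => by
    induction n with
    | zero => simp
    | succ n ih =>
      rw [Function.iterate_succ_apply', ih, hδ]
      simp only [map_mul, map_pow, h4, Nat.choose_succ_succ', Nat.choose_zero_right,
        Nat.choose_one_right, pow_add, pow_one, one_pow, zero_add, Nat.reduceAdd]
      simp only [mul_comm, mul_left_comm, mul_assoc, one_mul]
  obtain ⟨i, hi⟩ := hp.out.dvd_choose_self two_ne_zero (by omega)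
  obtain ⟨j, hj⟩ := hp.out.dvd_choose_self three_ne_zero (by omega)
  rw [h1, hi, hj, pow_mul, pow_mul, ← map_pow δ (δ (δ y)), h2] at hu
  simpa using hu

theorem not_dvd_small (hp5 : 5 ≤ p) {k : ℤ} (h : k ∣ 72) : ¬ (p : ℤ) ∣ k := fun e => by
  have h1 : p ∣ 2 ^ 3 * 3 ^ 2 := Int.natCast_dvd_natCast.1 (e.trans h)
  rcases (Nat.Prime.dvd_mul hp.out).1 h1 with h | h <;>
  have := Nat.le_of_dvd (by norm_num) (hp.out.dvd_of_dvd_pow h) <;> omega

theorem exists_half (hp2 : p ≠ 2) : ∃ d : ℤ, 2 * d ≡ 1 [ZMOD p] := by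
  obtain ⟨k, hk⟩ := hp.out.odd_of_ne_two hp2
  exact ⟨k + 1, (Int.modEq_iff_dvd.2 ⟨-1, by rw [hk]; push_cast; ring⟩)⟩

variable [Finite G] {s : G}

theorem map_mem_tsc (α : G ≃* G) {x : G} (hx : x ∈ tsc G) : α x ∈ tsc G :=
  mem_cMod.2 fun y hy => by
    have h1 : ∀ (β : G ≃* G) k, ∀ y ∈ lcs G k, β y ∈ lcs G k := fun β k y hy =>
      (characteristic_iff_le_comap.1 inferInstance β) hy
    simpa [map_commutatorElement] using h1 α 3 _ (mem_cMod.1 hx _ (h1 α.symm 1 y hy))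

theorem Unif.exists_pow_eq_one (h : Unif p s) (hp5 : 5 ≤ p) (e2 : lcs G 2 ≠ ⊥) (e3 : lcs G 3 = ⊥)
    (α : G ≃* G) {d : ℤ} (hd : 2 * d ≡ 1 [ZMOD p]) (hs : α s = s ^ d)
    (h1 : ∀ y ∈ lcs G 1, (y ^ (4 : ℤ))⁻¹ * α y ∈ lcs G 2) (h2 : ∀ y ∈ lcs G 2, α y = y ^ (2 : ℤ)) :
    ∃ x ∈ tsc G, x ∉ lcs G 1 ∧ x ^ p = 1 := by
  have h3 := h.relIndex_tsc e2
  obtain ⟨x, hx, hx'⟩ := SetLike.not_le_iff_exists.1 fun e =>
    hp.out.one_lt.ne' (h3.symm.trans (relIndex_eq_one.2 e))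
  have hc : ∀ x ∈ tsc G, ∀ y ∈ tsc G, x * y = y * x := fun x hx y hy =>
    commutatorElement_eq_one_iff_mul_comm.1 (mem_bot.1 (e3 ▸ h.commutator_tsc_le e2
      (commutator_mem_commutator hx hy)))
  obtain ⟨γ, hγ, ν, e⟩ := (mem_sup_zpowers (normal_le_normalizer _ ⊤ trivial)).1
    (sup_zpowers_eq lcs_one_le_tsc h3 hx hx' ▸ map_mem_tsc α hx)
  rw [hc _ (lcs_one_le_tsc hγ) _ (zpow_mem hx ν)] at e
  have h4 : (p : ℤ) ∣ ν * d - 4 := by
    have h5 := comm_mem_lcs (k := 0) (mem_top x) s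
    have h6 := h.comm_not_mem_flt e2 (r := 0) ((h.commutator_tsc_le e2).trans (e3 ▸ bot_le)) hx hx'
      (h.index_cMod e2).1 h.ne
    have h7 := h1 _ h5
    have cq : ∀ a ∈ lcs G 1, ∀ b : G, Commute (a : G ⧸ lcs G 2) b := fun a ha b =>
      comm_mem_iff_mk.1 (comm_mem_lcs ha b)
    rw [← QuotientGroup.eq, map_commutatorElement, e, hs, ← mul_one (s ^ d)] at h7
    change ⁅(x : G ⧸ lcs G 2), (s : G ⧸ lcs G 2)⁆ ^ (4 : ℤ) = ⁅(x : G ⧸ lcs G 2) ^ ν * γ, (s : G ⧸ lcs G 2) ^ d * 1⁆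
      at h7
    rw [comm_mul_central (((cq γ hγ s).zpow_right d).mul_right (Commute.one_right _)) (Commute.one_left _),
      comm_zpow_left, comm_zpow_right (cq _ h5 s), ← zpow_mul, eq_comm, ← mul_inv_eq_one,
      ← zpow_sub] at h7
    · by_contra hn
      rw [mul_comm] at hn
      exact h6 (mem_of_pow_mem_of_coprime (((Nat.prime_iff_prime_int.1
        hp.out).coprime_iff_not_dvd.2 hn).symm) ((QuotientGroup.eq_one_iff _).1 h7)
        (by rw [zpow_natCast]; exact lcs_anti (a := 2) (by omega) (h.pow_mem_lcs 0 _ h5)))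
    · exact cq _ (comm_mem_lcs (k := 0) (mem_top x) (s ^ d)) x
  have h5 : (p : ℤ) ∣ ν - 8 := by
    have := dvd_add (h4.mul_left 2) (hd.dvd.mul_left ν)
    rwa [show 2 * (ν * d - 4) + ν * (1 - 2 * d) = ν - 8 by ring] at this
  have hf : HomOn α (tsc G) := fun x _ y _ => map_mul α x y
  have hA : ∀ y ∈ lcs G 1, α y ∈ lcs G 1 := fun y hy =>
    (characteristic_iff_le_comap.1 inferInstance α) hy
  obtain ⟨y, h6, h7, -, h8⟩ := eigen_step hc hf (fun x => map_mem_tsc α) hA (lcs_anti one_le_two)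
    (B' := ⊥) (ν := ν) (l := 2) (fun e => not_dvd_small hp5 (k := 6) (by norm_num)
      (by simpa using dvd_sub e h5)) (fun y hy => by simp [h2 y hy])
    (eigen_step hc hf (fun x => map_mem_tsc α) hA le_rfl (l := 4) (fun e => not_dvd_small hp5
      (k := 4) (by norm_num) (by simpa using dvd_sub e h5)) h1
      ⟨x, hx, hx', by simpa [e] using hγ,
        pow_mem_of_relIndex (normal_le_normalizer _ _) h3 hx⟩)
  exact ⟨y, h6, h7, h8⟩

end Grp

variable {Ω : Type*} [Group Ω] {S E D A L : Subgroup Ω} [Finite S] {F : FusionSystem S} {p : ℕ}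
  [hp : Fact p.Prime] {g a b x y : Ω} {σ τ : Perm Ω}

/-- `S` has no elementary abelian subgroup of order greater than `p²`. -/
def Rk2 (p : ℕ) (S : Subgroup Ω) : Prop :=
  ∀ A : Subgroup Ω, A ≤ S → IsElementaryAbelian p A → Nat.card A ≤ p ^ 2

theorem elem_sup_zpowers (hL : IsElementaryAbelian p L) (hy : y ^ p = 1)
    (hc : ∀ x ∈ L, y * x = x * y) : IsElementaryAbelian p (L ⊔ zpowers y) ∧
      (y ∉ L → Nat.card (L ⊔ zpowers y : Subgroup Ω) = Nat.card L * p) := by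
  have hn : y ∈ normalizer (L : Set Ω) := centralizer_le_normalizer _ fun x hx => (hc x hx).symm
  refine ⟨⟨isMulCommutative_of_comm (comm_sup_zpowers (comm_of_isMulCommutative hL.1) hc),
    fun x hx => ?_⟩, fun h => ?_⟩
  · obtain ⟨a, ha, k, rfl⟩ := (mem_sup_zpowers hn).1 hx
    rw [((show Commute y a from hc a ha).symm.zpow_right k).mul_pow, hL.2 a ha, ← zpow_natCast,
      zpow_comm, zpow_natCast, hy, one_zpow, mul_one]
  · rw [← H8.card_mul_relIndex' le_sup_left, relIndex_sup_zpowers hn h (hy ▸ one_mem _)]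

theorem Rk2.mem (hr : Rk2 p S) (hL : IsElementaryAbelian p L) (hLS : L ≤ S)
    (h : p ^ 2 ≤ Nat.card L) (hyS : y ∈ S) (hy : y ^ p = 1) (hc : ∀ x ∈ L, y * x = x * y) :
    y ∈ L := by
  by_contra hn
  obtain ⟨h1, h2⟩ := elem_sup_zpowers hL hy hc
  have := hr _ (sup_le hLS (zpowers_le.2 hyS)) h1
  rw [h2 hn] at this
  have h3 := (Nat.mul_le_mul_right p h).trans this
  exact absurd (Nat.le_of_mul_le_mul_left (h3.trans_eq (mul_one _).symm) (pow_pos hp.out.pos 2))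
    (not_le.2 hp.out.one_lt)

theorem conj_mem_of_relIndex (hS : IsPGroup p S) (hg : g ∈ S) (h1 : g ∈ normalizer (A : Set Ω))
    (h2 : g ∈ normalizer (L : Set Ω)) (h : A.relIndex L ∣ p) :
    ∀ x ∈ L, x⁻¹ * (g * x * g⁻¹) ∈ A := by
  obtain ⟨k, hk⟩ := hS ⟨g, hg⟩
  exact H8.cent_of_relIndex_dvd (α := MulAut.conj g) (k := k)
    (by rw [← map_pow, show g ^ p ^ k = 1 from congrArg Subtype.val hk, map_one])
    (fun y hy => conj_mem_of_mem_normalizer h1 hy) (fun y hy => conj_mem_of_mem_normalizer h2 hy) h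

theorem aInv_normalizer (h : F.AInv E A) (hE : E ≤ S) : normalizerIn S E ≤ normalizer (A : Set Ω) :=
  fun _ hg => cj_mem_setStab.1 (h.mem_setStab (F.iso_cj hE hg.1 hg.2))

theorem aInv_bot (F : FusionSystem S) (E : Subgroup Ω) : F.AInv E ⊥ := fun τ hτ x hx => by
  rw [mem_bot.1 hx, hτ.homOn.map_one]; exact one_mem _

theorem det_mem_opStab (hS : IsPGroup p S) (hD : F.Det p E D) (hDE : D ≤ E) (hi : F.AInv E D)
    (hA : A ≤ D) (hi' : F.AInv E A) (hσ : F.Iso E E σ) (h1 : ∀ x ∈ A, σ x = x)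
    (h2 : ∀ x ∈ D, x⁻¹ * σ x ∈ A) : σ ∈ F.opStab p E := by
  refine hD.mem_opStab hσ hS (C := fun i => if i = 0 then ⊥ else if i = 1 then A else D) (n := 2)
    (fun i _ => ?_) rfl rfl (fun i _ => ?_) fun i hi => ?_
  · split_ifs; exacts [bot_le, hA.trans hDE, hDE]
  · split_ifs; exacts [aInv_bot F E, hi', hi]
  · interval_cases i
    · exact fun x hx => by simp [h1 x hx]
    · exact h2

theorem no_flag (hS : IsPGroup p S) (hF : F.IsSaturated p) (hE : F.IsEssential p E)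
    (hD : F.Det p E D) (hDE : D ≤ E) (hi : F.AInv E D) (hA : A ≤ D) (hi' : F.AInv E A)
    (h1 : Nat.card A ∣ p) : ¬ A.relIndex D ∣ p := fun h2 => by
  refine hE.not_innS_le hF hS fun σ hσ => ?_
  obtain ⟨g, hg, hn, e⟩ := mem_innS.1 hσ
  refine mem_of_congr (F.fixP_le_opStab p E) (det_mem_opStab hS hD hDE hi hA hi'
    (F.iso_cj hE.le hg hn) (fun x hx => ?_) (conj_mem_of_relIndex hS hg
      (aInv_normalizer hi' hE.le ⟨hg, hn⟩) (aInv_normalizer hi hE.le ⟨hg, hn⟩) h2)) e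
  exact (inv_mul_eq_one.1 (conj_mem_of_relIndex hS hg (aInv_normalizer (aInv_bot F E) hE.le ⟨hg, hn⟩)
    (aInv_normalizer hi' hE.le ⟨hg, hn⟩) (by rwa [relIndex_bot_left]) x hx)).symm

theorem le_relIndex' (hS : IsPGroup p S) (hD : D ≤ S) (h : ¬ D ≤ A) : p ≤ A.relIndex D := by
  by_contra hlt
  exact hlt (relIndex_eq_of_le hS hD (not_le.1 hlt).le h).ge

theorem le_card' (hS : IsPGroup p S) (hD : D ≤ S) (h : D ≠ ⊥) : p ≤ Nat.card D :=
  relIndex_bot_left D ▸ le_relIndex' hS hD (mt le_bot_iff.1 h)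

theorem relIndex_eq_of_card_le_sq (hS : IsPGroup p S) (hD : D ≤ S) (hc : Nat.card D ≤ p ^ 2)
    (hA : A ≤ D) (h1 : A ≠ ⊥) (h2 : ¬ D ≤ A) : Nat.card A = p ∧ A.relIndex D = p := by
  have h3 := le_card' hS (hA.trans hD) h1
  have h4 := le_relIndex' hS hD h2
  rw [← H8.card_mul_relIndex' hA, pow_two] at hc
  exact ⟨le_antisymm (Nat.le_of_mul_le_mul_right ((Nat.mul_le_mul_left _ h4).trans hc) hp.out.pos) h3,
    le_antisymm (Nat.le_of_mul_le_mul_left ((Nat.mul_le_mul_right _ h3).trans hc) hp.out.pos) h4⟩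

open scoped IsMulCommutative in
theorem Rk2.eq_of_comm (hr : Rk2 p S) (hS : IsPGroup p S) (hF : F.IsSaturated p) (hp5 : 5 ≤ p)
    (hE : F.IsEssential p E) (hD : F.Det p E D) (hDE : D ≤ E) (hi : F.AInv E D)
    (he : IsElementaryAbelian p D) : E = D ∧ Nat.card D = p ^ 2 := by
  haveI := finite_of_le hE.le
  have hDS := hDE.trans hE.le
  have hc := hr D hDS he
  have irr : ∀ A ≤ D, F.AInv E A → A ≠ ⊥ → D ≤ A := fun A hA hi' hne => by
    by_contra hn
    obtain ⟨h1, h2⟩ := relIndex_eq_of_card_le_sq hS hDS hc hA hne hn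
    exact no_flag hS hF hE hD hDE hi hA hi' h1.dvd h2.dvd
  have hne : D ≠ ⊥ := by
    rintro rfl
    exact no_flag hS hF hE hD hDE hi le_rfl hi (by simp) (by simp)
  obtain ⟨b, hb, hb1, hbp, hbN⟩ := exists_central_of_ne_bot hS (normalizerIn_le S E) hDS
    (aInv_normalizer hi hE.le) hne
  have hZ : D ≤ centralizerIn D E := irr _ inf_le_left (hi.centralizerIn hDE
    (fun _ hτ _ => hτ.mem) le_rfl) fun e => hb1 (mem_bot.1 (e ▸
      (⟨hb, centralizer_le (le_normalizerIn hE.le) hbN⟩ : b ∈ centralizerIn D E)))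
  have sec : FSec F p E D ⊥ := ⟨hE, hDE, bot_le, hi, aInv_bot F E,
    fun e he x hx => by simp [(hZ hx).2 e he], fun σ hσ h => (hE.isRadical hS).opStab_eq ▸
      det_mem_opStab hS hD hDE hi bot_le (aInv_bot F E) hσ
        (fun x hx => by rw [mem_bot.1 hx, hσ.homOn.map_one]) h⟩
  obtain ⟨g, hg, hgE⟩ := SetLike.exists_of_lt (lt_normalizerIn hS (hE.lt hF hS))
  have hgb : g * b * g⁻¹ = b := by rw [hbN g hg, mul_inv_cancel_right]
  have hb2 : ¬ D ≤ zpowers b := fun e => no_flag hS hF hE hD hDE hi le_rfl hi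
    (by rw [le_antisymm e (zpowers_le.2 hb), card_zpowers_eq_of_pow hb1 hbp]) (by simp)
  obtain ⟨h1, h2⟩ := relIndex_eq_of_card_le_sq hS hDS hc (zpowers_le.2 hb) (by simpa) hb2
  have hc2 : Nat.card D = p ^ 2 := by
    rw [← H8.card_mul_relIndex' (zpowers_le.2 hb), h1, h2, pow_two]
  have ht := conj_mem_of_relIndex hS hg.1 (centralizer_le_normalizer _ (by
    rintro _ ⟨k, rfl⟩; exact ((show Commute g b from hbN g hg).zpow_right k).symm))
    (aInv_normalizer hi hE.le hg) h2.dvd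
  obtain ⟨a, W, t⟩ := sec.exists_qTv hS hg.1 hg.2 hgE hb hbp (by simp [hgb])
    (by rwa [bot_sup_eq])
  have ha : a ∈ D := by obtain ⟨φ, hφ, rfl⟩ := t.conj; exact hi φ hφ b hb
  have om : ∀ y ∈ E, y ^ p = 1 → y ∈ D := fun y hy h =>
    hr.mem he hDS hc2.ge (hE.le hy) h fun x hx => (hZ hx).2 y hy
  have hW : W = ⊥ := by
    by_contra hne
    exact t.nmem (by simpa using (t.indep 1 0 (by simpa using irr W t.le t.invW hne hb)).1)
  obtain ⟨τ, hτ, i1, i2, -⟩ := t.torus (-1) (-1) (by simp)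
  have hinv : ∀ x ∈ D, τ x = x⁻¹ := fun x hx => by
    obtain ⟨w, hw, i, j, rfl⟩ := t.decomp x hx
    rw [show w = 1 from mem_bot.1 (hW ▸ hw), one_mul, hτ.homOn.map_mul (E.zpow_mem (hDE hb) i)
      (E.zpow_mem (hDE ha) j), hτ.homOn.map_zpow (hDE hb), hτ.homOn.map_zpow (hDE ha),
      ← inv_mul_eq_one.1 i1, ← inv_mul_eq_one.1 i2,
      comm_of_isMulCommutative he.1 (b ^ i) (D.zpow_mem hb i) _ (D.zpow_mem ha j)]
    simp
  obtain ⟨l, hl⟩ := hD.exists_pow (hτ.pow 2) (k := 0) fun x hx => by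
    simp [pow_two, hinv x hx, hinv _ (D.inv_mem hx)]
  have hinv' : ∀ x ∈ D, (τ ^ p ^ l) x = x⁻¹ := fun x hx => by
    obtain ⟨m, hm⟩ := (hp.out.odd_of_ne_two (by omega)).pow (n := l)
    rw [hm, pow_succ, pow_mul, Perm.mul_apply, hinv x hx]
    exact pow_mem (show τ ^ 2 ∈ fixP D from fun x hx => by
      simp [pow_two, hinv x hx, hinv _ (D.inv_mem hx)]) m _ (D.inv_mem hx)
  have hσ := (hτ.pow (p ^ l)).mem_autStab
  have hEp := isPGroup_of_le hS hE.le
  have hc : ∀ x y : E, Commute x y := by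
    refine MonoidHom.FixedPointFree.commute_all_of_involutive (φ := resAut E (τ ^ p ^ l))
      (fun y hy => ?_) fun y => Subtype.ext ?_
    · by_contra hne
      obtain ⟨k, h3, h4⟩ := H2.exists_pow_notMem_pow_mem hEp (H := ⊥) hne
      have h5 := om _ (y ^ p ^ k).2 (congrArg Subtype.val h4)
      have h6 := hinv' _ h5
      rw [← resAut_apply hσ, map_pow, hy] at h6
      refine h3 (mem_of_pow_mem_of_coprime (a := 2) (b := p) (((Nat.prime_iff_prime_int.1
        hp.out).coprime_iff_not_dvd.2 (not_dvd_small hp5 (by norm_num))).symm) ?_ (by simpa using h4))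
      exact Subtype.ext (by simpa [zpow_two, pow_two] using mul_eq_one_iff_eq_inv.2 h6)
    · rw [resAut_apply hσ, resAut_apply hσ, ← Perm.mul_apply, ← pow_two, ← pow_mul, mul_comm, pow_mul]
      exact hl y y.2
  haveI : IsMulCommutative E := ⟨⟨hc⟩⟩
  have hgi := (F.iso_cj hE.le hg.1 hg.2).mem_autStab
  let u : E →* E := (resAut E (cj g)).toMonoidHom
  have dd : ∀ x : E, (((u / MonoidHom.id E) x : E) : Ω) = (x : Ω)⁻¹ * (g * x * g⁻¹) := fun x => by
    rw [MonoidHom.div_apply, div_eq_inv_mul, coe_mul]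
    exact congrArg _ (resAut_apply hgi x)
  have d2 : ∀ x : E, (x : Ω) ∈ D → (u / MonoidHom.id E) ((u / MonoidHom.id E) x) = 1 :=
    fun x hx => Subtype.ext (by
      obtain ⟨k, hk⟩ := ht x hx
      rw [dd, dd, ← hk, ← conj_zpow, hgb]; simp)
  let P : Subgroup Ω := D ⊓ ((powMonoidHom p : E →* E).range.map E.subtype)
  have hP : P = ⊥ := by
    by_contra hne
    obtain ⟨-, _, ⟨y, rfl⟩, hy⟩ := irr P inf_le_left (by
      rintro τ hτ _ ⟨h1, _, ⟨y, rfl⟩, rfl⟩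
      exact ⟨hi τ hτ _ h1, _, ⟨⟨τ y, hτ.mem y.2⟩, rfl⟩, (hτ.homOn.map_pow y.2 p).symm⟩) hne ha
    have h3 : (u / MonoidHom.id E) ((u / MonoidHom.id E) y) ^ p = 1 := by
      rw [← map_pow, ← map_pow]; exact d2 _ (hy.symm ▸ ha : E.subtype (powMonoidHom p y) ∈ D)
    have := delta_pow_eq_one hp5 u (u / MonoidHom.id E) (fun x => by simp) (y := y) ?_ h3
      (d2 _ (om _ (Subtype.prop _) (congrArg Subtype.val h3)))
    · rw [← map_pow, Subtype.ext_iff, dd] at this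
      exact t.ne (hy ▸ this)
    · have h4 : resAut E (cj g) ^ p = 1 := by
        rw [← (homOn_resAut E).map_pow hgi, resAut_eq_one_iff (pow_mem hgi p), ← map_pow, cj_mem_fixP]
        exact fun x hx => congrArg Subtype.val (hc ⟨x, hx⟩ ⟨_, t.gp⟩)
      change (resAut E (cj g))^[p] y = y
      have h5 : ∀ n, (resAut E (cj g))^[n] y = (resAut E (cj g) ^ n) y := fun n => by
        induction n with
        | zero => rfl
        | succ n ih => rw [Function.iterate_succ_apply', ih, pow_succ']; rfl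
      rw [h5, h4]; rfl
  refine ⟨le_antisymm (fun y hy => ?_) hDE, hc2⟩
  by_contra hn
  obtain ⟨k, h3, h4⟩ := H2.exists_pow_notMem_pow_mem hEp (H := D.subgroupOf E) (g := ⟨y, hy⟩) hn
  exact h3 (om _ (E.pow_mem hy _) (mem_bot.1 (hP ▸ (⟨h4, _, ⟨_, rfl⟩, rfl⟩ : _ ∈ P))))

theorem exists_adj [Finite D] (hZ : Nat.card (zc D) = p) (ha : a ∈ D) (hb : b ∈ D)
    (h : ⁅a, b⁆ ∈ zc D) (h1 : ⁅a, b⁆ ≠ 1) (hx : ⁅x, b⁆ ∈ zc D) :
    ∃ k : ℤ, (a ^ k)⁻¹ * x * b = b * ((a ^ k)⁻¹ * x) := by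
  obtain ⟨z, hz, e⟩ := exists_zpowers_of_card hZ
  obtain ⟨k, hk⟩ := exists_zpow_eq_of_prime hz (e ▸ h) h1 (e ▸ hx)
  rw [← comm_zpow_left (h.2 a ha).symm, commutatorElement_def, commutatorElement_def,
    mul_left_inj] at hk
  exact ⟨k, by rw [mul_assoc, ← inv_mul_cancel_right (x * b) x⁻¹⁻¹, inv_inv, ← hk]; group⟩

theorem Rk2.comm_of_crit (hr : Rk2 p S) (hS : IsPGroup p S) (hF : F.IsSaturated p) (hp5 : 5 ≤ p)
    (hE : F.IsEssential p E) (hD : F.Det p E D) (hDE : D ≤ E) (hi : F.AInv E D)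
    (he : ∀ x ∈ D, x ^ p = 1) (hm : ∀ x ∈ D, ∀ g ∈ E, x⁻¹ * (g * x * g⁻¹) ∈ zc D) :
    IsMulCommutative D := by
  by_contra hn
  haveI := finite_of_le hE.le
  have hDS := hDE.trans hE.le
  haveI := finite_of_le hDS
  have hDp := isPGroup_of_le hS hDS
  have hm' : ∀ g ∈ E, ∀ x ∈ D, ⁅g, x⁆ ∈ zc D := fun g hg x hx => comm_mem_symm (by
    simpa [commutatorElement_def, mul_assoc] using hm _ (D.inv_mem hx) g hg)
  have eZ : IsElementaryAbelian p (zc D) := ⟨inferInstance, fun x hx => he x hx.1⟩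
  have hZ1 := le_card_zc hDp (by rintro rfl; exact hn inferInstance)
  have key : ∀ x ∈ D, x ∉ zc D → Nat.card (zc D) = p ∧
      Nat.card (zc D ⊔ zpowers x : Subgroup Ω) = p ^ 2 ∧
      ∀ y ∈ S, y ^ p = 1 → (∀ c ∈ zc D, y * c = c * y) → y * x = x * y → y ∈ zc D ⊔ zpowers x := by
    intro x hx hx'
    obtain ⟨h1, h2⟩ := elem_sup_zpowers eZ (he x hx) fun c hc => hc.2 x hx
    have h3 : zc D ⊔ zpowers x ≤ S := sup_le (inf_le_left.trans hDS) (zpowers_le.2 (hDS hx))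
    have h4 := hr _ h3 h1
    rw [h2 hx', pow_two] at h4
    have h5 := le_antisymm (Nat.le_of_mul_le_mul_right h4 hp.out.pos) hZ1
    have h6 : Nat.card (zc D ⊔ zpowers x : Subgroup Ω) = p ^ 2 := by rw [h2 hx', h5, pow_two]
    refine ⟨h5, h6, fun y hy h7 h8 h9 => hr.mem h1 h3 h6.ge hy h7 fun w hw => ?_⟩
    have : zc D ⊔ zpowers x ≤ centralizer {y} := sup_le
      (fun c hc => mem_centralizer_singleton_iff.2 (h8 c hc).symm)
      (zpowers_le.2 (mem_centralizer_singleton_iff.2 h9.symm))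
    exact (mem_centralizer_singleton_iff.1 (this hw)).symm
  haveI := finite_of_le (normalizerIn_le S E)
  obtain ⟨b, hb, hbZ, hbN⟩ := exists_central_mod (L := normalizerIn S E) (C := D) (N := zc D)
    (isPGroup_of_le hS (normalizerIn_le S E)).isNilpotent (hDE.trans (le_normalizerIn hE.le))
    (aInv_normalizer hi hE.le) fun e => hn (isMulCommutative_of_comm fun x hx y hy => (e hy).2 x hx)
  obtain ⟨hZ, hL, hC⟩ := key b hb hbZ
  have hLD : zc D ⊔ zpowers b ≤ D := sup_le inf_le_left (zpowers_le.2 hb)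
  have hLi : (zc D ⊔ zpowers b).relIndex D ∣ p := by
    haveI := finite_of_le hLD
    have u := unif_of_le hDp hn hb hL.le fun x hx => hC x (hDS hx) (he x hx) fun c hc => hc.2 x hx
    have h1 := u.card_le_sq.trans (Nat.mul_le_mul_left _ ((card_le_of_le (show lcs D 1 ≤ center D from
      commutator_le.2 fun x _ y _ => mem_center_iff.2 fun w => Subtype.ext
        ((hm' x (hDE x.2) y y.2).2 w w.2))).trans u.card_center.le))
    rw [← H8.card_mul_relIndex' hLD, hL] at h1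
    by_cases e : D ≤ zc D ⊔ zpowers b
    · rw [relIndex_eq_one.2 e]; exact one_dvd _
    · rw [relIndex_eq_of_le hS hDS (Nat.le_of_mul_le_mul_left h1 (pow_pos hp.out.pos 2)) e]
  have iZ : F.AInv E (zc D) := hi.centralizerIn hDE hi hDE
  obtain ⟨a₀, ha₀, ha₀'⟩ : ∃ a ∈ D, ⁅a, b⁆ ≠ 1 := by
    by_contra h
    push Not at h
    exact hbZ ⟨hb, fun a ha => commutatorElement_eq_one_iff_mul_comm.1 (h a ha)⟩
  have fixZ : ∀ σ : Ω → Ω, HomOn σ D → ∀ a ∈ D, ⁅a, b⁆ ≠ 1 → ∀ c d : ℤ, c * d ≡ 1 [ZMOD p] →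
      (b ^ c)⁻¹ * σ b ∈ zc D → (a ^ d)⁻¹ * σ a ∈ zc D → ∀ x ∈ zc D, σ x = x := by
    intro σ hσ a ha ha' c d hcd h1 h2 x hx
    have h3 := hm' a (hDE ha) b hb
    obtain ⟨k, rfl⟩ : x ∈ zpowers ⁅a, b⁆ :=
      (eq_of_card_prime (zpowers_le.2 h3) hZ (by simpa)).symm ▸ hx
    obtain ⟨m, hm⟩ := hcd.symm.dvd
    simp only
    rw [hσ.map_zpow h3.1, hσ.map_commutator ha hb, ← mul_inv_cancel_left (a ^ d) (σ a),
      ← mul_inv_cancel_left (b ^ c) (σ b), comm_mul_central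
        (h2.2 _ (D.mul_mem (D.zpow_mem hb c) h1.1)).symm (h1.2 _ (D.zpow_mem ha d)).symm,
      comm_zpow_left ((hm' a (hDE ha) _ (D.zpow_mem hb c)).2 a ha).symm,
      comm_zpow_right (h3.2 b hb).symm, ← zpow_mul ⁅a, b⁆ c, show c * d = 1 + p * m by omega,
      zpow_add, zpow_mul, zpow_natCast, he _ h3.1, one_zpow, mul_one, zpow_one]
  have sec : FSec F p E D (zc D) := ⟨hE, hDE, inf_le_left, hi, iZ, fun e he x hx => hm x hx e he,
    fun σ hσ h => (hE.isRadical hS).opStab_eq ▸ det_mem_opStab hS hD hDE hi inf_le_left iZ hσ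
      (fixZ σ (hσ.homOn.mono hDE) a₀ ha₀ ha₀' 1 1 (by simp) (by simpa using h b hb)
        (by simpa using h a₀ ha₀)) h⟩
  obtain ⟨g₀, hg₀, hg₀E⟩ := SetLike.exists_of_lt (lt_normalizerIn hS (hE.lt hF hS))
  obtain ⟨k₀, hgb⟩ := exists_adj hZ ha₀ hb (hm' _ (hDE ha₀) b hb) ha₀' (comm_mem_symm (hbN g₀ hg₀))
  have hg : (a₀ ^ k₀)⁻¹ * g₀ ∈ normalizerIn S E := mul_mem (Subgroup.inv_mem _
    (zpow_mem (le_normalizerIn hE.le (hDE ha₀)) k₀)) hg₀
  have hgE : (a₀ ^ k₀)⁻¹ * g₀ ∉ E := fun e =>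
    hg₀E ((mul_mem_cancel_left (E.inv_mem (E.zpow_mem (hDE ha₀) k₀))).1 e)
  generalize (a₀ ^ k₀)⁻¹ * g₀ = g at hgb hg hgE
  have hgZ : ∀ c ∈ zc D, g * c = c * g := fun c hc => by
    have := conj_mem_of_relIndex hS hg.1 (aInv_normalizer (aInv_bot F E) hE.le hg)
      (aInv_normalizer iZ hE.le hg) (by rw [relIndex_bot_left, hZ]) c hc
    rw [mem_bot, inv_mul_eq_one] at this
    exact mul_inv_eq_iff_eq_mul.1 this.symm
  have hgL : zc D ⊔ zpowers b ≤ centralizer {g} := sup_le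
    (fun c hc => mem_centralizer_singleton_iff.2 (hgZ c hc).symm)
    (zpowers_le.2 (mem_centralizer_singleton_iff.2 hgb.symm))
  obtain ⟨a, W, t⟩ := sec.exists_qTv hS hg.1 hg.2 hgE hb (he b hb ▸ one_mem _)
    (by simp [hgb]) (conj_mem_of_relIndex hS hg.1 (centralizer_le_normalizer _ fun x hx =>
      mem_centralizer_singleton_iff.1 (hgL hx)) (aInv_normalizer hi hE.le hg) hLi)
  have ha : a ∈ D := by obtain ⟨φ, hφ, rfl⟩ := t.conj; exact hi φ hφ b hb
  have haL : a ∉ zc D ⊔ zpowers b := fun e => t.ne (by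
    simp [← mem_centralizer_singleton_iff.1 (hgL e)])
  have hab : ⁅a, b⁆ ≠ 1 := fun e => haL (hC a (hDS ha) (he a ha) (fun c hc => hc.2 a ha)
    (commutatorElement_eq_one_iff_mul_comm.1 e))
  have hDeq : zc D ⊔ zpowers b ⊔ zpowers a = D := sup_zpowers_eq hLD
    (((Nat.dvd_prime hp.out).1 hLi).resolve_left fun e => haL (relIndex_eq_one.1 e ha)) ha haL
  have iC : F.AInv E (centralizerIn E D) := AInv.centralizerIn (fun _ hτ _ => hτ.mem) le_rfl hi hDE
  have hZC : zc D ≤ centralizerIn E D := inf_le_inf_right _ hDE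
  have hEZ : ∀ e ∈ E, ∀ c ∈ zc D, e * c = c * e := fun e he c hc => by
    have := fixZ (cj e) ((F.iso_cj hE.le (hE.le he) (le_normalizer he)).homOn.mono hDE) a ha hab 1 1
      (by simp) (by simpa using hm b hb e he) (by simpa using hm a ha e he) c hc
    exact mul_inv_eq_iff_eq_mul.1 this
  haveI cyc : IsCyclic (centralizerIn E D) := by
    have h1 : ∀ y : centralizerIn E D, y ^ p = 1 → (y : Ω) ∈ zc D := fun y hy =>
      ⟨hLD (hC y (hE.le y.2.1) (congrArg Subtype.val hy) (hEZ y y.2.1) (y.2.2 b hb).symm), y.2.2⟩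
    refine (H2.isCyclic_or_quaternion (G := centralizerIn E D)
      (isPGroup_of_le hS (inf_le_left.trans hE.le))
      fun x y hx hy => ?_).resolve_right fun e => by omega
    obtain ⟨k, hk⟩ : (y : Ω) ∈ zpowers (x : Ω) := (eq_of_card_prime (zpowers_le.2 (h1 x
      (hx ▸ pow_orderOf_eq_one x))) hZ (by
        rw [ne_eq, zpowers_eq_bot, OneMemClass.coe_eq_one]
        rintro rfl
        exact hp.out.one_lt.ne (by simpa using hx))).symm ▸ h1 y hy
    exact ⟨k, Subtype.ext hk⟩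
  have cC := comm_of_isMulCommutative (IsCyclic.isMulCommutative (α := centralizerIn E D))
  have cA := comm_sup_zpowers cC fun c hc => hc.2 b hb
  have hAE : centralizerIn E D ⊔ zpowers b ≤ E := sup_le inf_le_left (zpowers_le.2 (hDE hb))
  have memA : ∀ e ∈ E, e * b = b * e → e ∈ centralizerIn E D ⊔ zpowers b := fun e he h => by
    obtain ⟨k, hk⟩ := exists_adj hZ hb ha (hm' b (hDE hb) a ha)
      (by rwa [← commutatorElement_inv, ne_eq, inv_eq_one]) (hm' e he a ha)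
    have h1 := E.mul_mem (E.inv_mem (E.zpow_mem (hDE hb) k)) he
    have h2 : D ≤ centralizer {(b ^ k)⁻¹ * e} := hDeq ▸ sup_le (sup_le
      (fun c hc => mem_centralizer_singleton_iff.2 (hEZ _ h1 c hc).symm)
      (zpowers_le.2 (mem_centralizer_singleton_iff.2
        (((Commute.refl b).zpow_right k).inv_right.mul_right h.symm))))
      (zpowers_le.2 (mem_centralizer_singleton_iff.2 hk.symm))
    exact (mul_mem_cancel_left (Subgroup.inv_mem _ (zpow_mem (mem_sup_right (mem_zpowers b)) k))).1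
      (mem_sup_left ⟨h1, fun x hx => mem_centralizer_singleton_iff.1 (h2 hx)⟩)
  have hEC : E ≤ centralizer (centralizerIn E D : Set Ω) := fun e he => by
    obtain ⟨k, hk⟩ := exists_adj hZ ha hb (hm' a (hDE ha) b hb) hab (hm' e he b hb)
    refine (mul_mem_cancel_left (Subgroup.inv_mem _ (zpow_mem (fun c hc => (hc.2 a ha).symm) k))).1
      fun c hc => cA _ (mem_sup_left hc) _
        (memA _ (E.mul_mem (E.inv_mem (E.zpow_mem (hDE ha) k)) he) hk)
  obtain ⟨d, hd⟩ := exists_half (p := p) (by omega)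
  obtain ⟨τ, hτ, i1, i2, -, i3⟩ := t.torus 2 d hd
  obtain ⟨β, b1, b2, b3⟩ := exists_ext_of_conj hS hF hE.isCentric hg.1 hg.2 hτ i3
  have hgR : g ∈ E ⊔ zpowers g := mem_sup_right (mem_zpowers g)
  obtain ⟨j, hj⟩ : ∃ j : ℤ, ∀ c ∈ centralizerIn E D, τ c = c ^ j := by
    obtain ⟨c, hc⟩ := cyc.exists_generator
    obtain ⟨j, hj⟩ := hc ⟨τ c, iC τ hτ c c.2⟩
    refine ⟨j, fun y hy => ?_⟩
    obtain ⟨i, hi⟩ := hc ⟨y, hy⟩
    rw [← show (c : Ω) ^ i = y from congrArg Subtype.val hi, hτ.homOn.map_zpow c.2.1,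
      ← show (c : Ω) ^ j = τ c from congrArg Subtype.val hj, zpow_comm]
  have cop : ∀ k : ℤ, k ∣ 72 → IsCoprime k p := fun k hk => (((Nat.prime_iff_prime_int.1
    hp.out).coprime_iff_not_dvd.2 (not_dvd_small hp5 hk)).symm)
  have hgC : g ∈ centralizer (centralizerIn E D : Set Ω) := by
    refine mem_of_pow_mem_of_coprime (cop 3 (by norm_num)) (fun y hy => ?_)
      (by rw [zpow_natCast]; exact hEC t.gp)
    have h1 := iC _ hτ.symm y hy
    have h2 := conj_mem_of_mem_normalizer (aInv_normalizer iC hE.le hg) h1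
    have h3 := b1.homOn.map_conj hgR (mem_sup_left h1.1)
    rw [b2 _ h2.1, b2 _ h1.1, hj _ h2, conj_zpow, ← hj _ h1, ← mul_inv_cancel_left (g ^ (2 * 2 : ℤ))
      (β g), mul_assoc (g ^ _), ← hEC b3 _ (iC τ hτ _ h1)] at h3
    simp only [Perm.coe_inv, apply_symm_apply] at h3
    calc y * g ^ (3 : ℤ) = g⁻¹ * (g * y * g⁻¹) * g ^ (4 : ℤ) := by group
      _ = _ := by rw [h3]; group
  have hgA : ∀ x ∈ centralizerIn E D ⊔ zpowers b, g * x = x * g := fun x hx => by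
    have : centralizerIn E D ⊔ zpowers b ≤ centralizer {g} := sup_le
      (fun c hc => mem_centralizer_singleton_iff.2 (hgC c hc))
      (zpowers_le.2 (mem_centralizer_singleton_iff.2 hgb.symm))
    exact (mem_centralizer_singleton_iff.1 (this hx)).symm
  have hbA : b ∈ centralizerIn E D ⊔ zpowers b := mem_sup_right (mem_zpowers b)
  have hτb : τ b ∈ centralizerIn E D ⊔ zpowers b := (mul_mem_cancel_left
    (Subgroup.inv_mem _ (zpow_mem hbA 2))).1 (mem_sup_left (hZC i1))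
  have hA : ∀ x ∈ centralizerIn E D ⊔ zpowers b, β x ∈ centralizerIn E D ⊔ zpowers b :=
    fun x hx => b2 x (hAE hx) ▸ (hτ.homOn.mono hAE).mapsTo_sup
      (fun c hc => mem_sup_left (iC τ hτ c hc)) (by
        rintro _ ⟨k, rfl⟩
        rw [hτ.homOn.map_zpow (hDE hb)]
        exact zpow_mem hτb k) x hx
  have b4 : (g ^ (2 * 2 : ℤ))⁻¹ * β g ∈ centralizerIn E D ⊔ zpowers b := by
    refine memA _ b3 (mem_centralizer_singleton_iff.1 (mem_of_pow_mem_of_coprime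
      (cop 2 (by norm_num)) ?_ (by rw [zpow_natCast, he b hb]; exact one_mem _))).symm
    have h1 : Commute (β g) (τ b) := by
      rw [← b2 b (hDE hb), Commute, SemiconjBy, ← b1.homOn.map_mul hgR (mem_sup_left (hDE hb)),
        ← b1.homOn.map_mul (mem_sup_left (hDE hb)) hgR, hgb]
    have h2 := ((show Commute g (τ b) from hgA _ hτb).zpow_left (2 * 2)).inv_left.mul_left h1
    simpa using mem_centralizer_singleton_iff.2
      (h2.mul_right (show Commute _ _ from hEZ _ b3 _ (inv_mem i1))).symm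
  have hMR : centralizerIn E D ⊔ zpowers b ⊔ zpowers g ≤ E ⊔ zpowers g := sup_le_sup_right hAE _
  have hM : ∀ x ∈ centralizerIn E D ⊔ zpowers b ⊔ zpowers g,
      β x ∈ centralizerIn E D ⊔ zpowers b ⊔ zpowers g := fun x hx =>
    (b1.homOn.mono hMR).mapsTo_sup (fun c hc => mem_sup_left (hA c hc)) (by
      rintro _ ⟨k, rfl⟩
      rw [b1.homOn.map_zpow hgR]
      exact zpow_mem ((mul_mem_cancel_left (Subgroup.inv_mem _ (zpow_mem
        (mem_sup_right (mem_zpowers g)) _))).1 (mem_sup_left b4)) k) x hx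
  have hj1 : (p : ℤ) ∣ j - 1 := by
    have h1 := hm' a (hDE ha) b hb
    have h2 := fixZ τ (hτ.homOn.mono hDE) a ha hab 2 d hd i1 i2 _ h1
    rw [hj _ (hZC h1), ← mul_inv_eq_one, ← zpow_sub_one, ← orderOf_dvd_iff_zpow_eq_one,
      orderOf_eq_prime (he _ h1.1) hab] at h2
    exact h2
  have hstep : ∀ y ∈ centralizerIn E D ⊔ zpowers b, (y ^ (2 : ℤ))⁻¹ * β y ∈ centralizerIn E D := by
    intro y hy
    obtain ⟨c, hc, k, rfl⟩ := (mem_sup_zpowers (centralizer_le_normalizer _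
      fun c hc => (hc.2 b hb).symm)).1 hy
    have h4 : ∀ c ∈ centralizerIn E D, Commute c b := fun c hc => (hc.2 b hb).symm
    have h6 := mul_mem (Subgroup.inv_mem _ (zpow_mem hc (2 : ℤ))) (iC τ hτ c hc)
    rw [b2 _ (hAE hy), hτ.homOn.map_mul hc.1 (E.zpow_mem (hDE hb) k), hτ.homOn.map_zpow (hDE hb),
      ← mul_inv_cancel_left (b ^ (2 : ℤ)) (τ b), ((h4 _ (hZC i1)).symm.zpow_left 2).mul_zpow,
      ((h4 c hc).zpow_right k).mul_zpow, zpow_comm b, mul_inv_rev, mul_assoc, ← mul_assoc _ (τ c),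
      ← mul_assoc (_ * τ c), (((h4 _ h6).zpow_right 2).zpow_right k).eq, mul_assoc,
      inv_mul_cancel_left]
    exact mul_mem h6 (zpow_mem (hZC i1) k)
  obtain ⟨y, h1, h2, -, h3⟩ := eigen_step (comm_sup_zpowers cA hgA) (b1.homOn.mono hMR) hM hA
    le_sup_left (B' := ⊥) (ν := 2 * 2) (l := j) (fun e => not_dvd_small hp5 (k := 3) (by norm_num)
      (by simpa using dvd_add e hj1)) (fun y hy => by simp [b2 y hy.1, hj y hy])
    (eigen_step (comm_sup_zpowers cA hgA) (b1.homOn.mono hMR) hM hA le_rfl (l := 2)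
      (not_dvd_small hp5 (by norm_num)) hstep
      ⟨g, mem_sup_right (mem_zpowers g), fun e => hgE (hAE e), b4,
        memA _ t.gp ((show Commute g b from hgb).pow_left p)⟩)
  have h4 := comm_sup_zpowers cA hgA y h1
  exact h2 (sup_le_sup_right hZC _ (hC y (b1.le_left (hMR h1)) h3
      (fun c hc => h4 c (mem_sup_left (mem_sup_left (hZC hc)))) (h4 b (mem_sup_left hbA))))

theorem Rk2.essential (hr : Rk2 p S) (hS : IsPGroup p S) (hF : F.IsSaturated p) (hp5 : 5 ≤ p)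
    (hE : F.IsEssential p E) : IsElementaryAbelian p E ∧ Nat.card E = p ^ 2 := by
  obtain ⟨D, h1, h2, h3, h4, h5⟩ := hF.exists_crit hS hE.le
  rw [expo, if_neg (by omega)] at h3
  have h6 : IsElementaryAbelian p D :=
    ⟨hr.comm_of_crit hS hF hp5 hE h5 (h1.trans inf_le_left) h2 h3 h4, h3⟩
  obtain ⟨rfl, h7⟩ := hr.eq_of_comm hS hF hp5 hE h5 (h1.trans inf_le_left) h2 h6
  exact ⟨h6, h7⟩

theorem extStab_le_resStab_of_relIndex (h : A.relIndex S = p) (hA : A ≤ S) :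
    F.extStab A ≤ F.resStab S A := by
  refine (Subgroup.closure_le _).2 ?_
  rintro α ⟨h0, Q, hQ, β, h1, h3⟩
  obtain rfl := (eq_or_eq_of_relIndex hQ.le h1.le h).resolve_left hQ.ne'
  exact (mem_resStab le_rfl).2 ⟨β, h1.iso_self fun _ => h1.mem,
    mem_of_congr (fixP_le_setStab A) h0 h3, h3⟩

theorem Rk2.mem_map (hr : Rk2 p S) {L : Subgroup S} (hc : ⁅L, L⁆ = ⊥) (he : ∀ x ∈ L, x ^ p = 1) :
    Nat.card L ≤ p ^ 2 := by
  rw [← card_map_of_injective S.subtype_injective]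
  refine hr _ (map_subtype_le L) ⟨isMulCommutative_of_comm ?_, ?_⟩
  · rintro _ ⟨x, hx, rfl⟩ _ ⟨y, hy, rfl⟩
    exact congrArg Subtype.val ((commutatorElement_eq_one_iff_mul_comm (g₁ := x) (g₂ := y)).1
      (mem_bot.1 (hc ▸ commutator_mem_commutator hx hy)))
  · rintro _ ⟨x, hx, rfl⟩
    exact congrArg Subtype.val (he x hx)

theorem Rk2.lcs_three (hr : Rk2 p S) (hp5 : 5 ≤ p) {s : S} (h : Unif p s) : lcs S 3 = ⊥ := by
  by_contra hne
  classical
  have h1 := exists_lcs_eq_bot h.pg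
  obtain ⟨c, hc⟩ : ∃ c, Nat.find h1 = c + 4 := ⟨Nat.find h1 - 4, by
    have : ¬ Nat.find h1 ≤ 3 := fun e => hne (le_bot_iff.1 (Nat.find_spec h1 ▸ lcs_anti e))
    omega⟩
  have h2 : lcs S (c + 4) = ⊥ := hc ▸ Nat.find_spec h1
  have h3 : ∀ k ≤ c + 3, ¬ lcs S k ≤ lcs S (k + 1) := fun k hk => not_lcs_le h.pg fun e =>
    Nat.find_min h1 (show c + 3 < _ by omega) (le_bot_iff.1 (e ▸ lcs_anti hk))
  obtain ⟨y, hy, hy'⟩ := SetLike.not_le_iff_exists.1 (h3 (c + 1) (by omega))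
  have h4 := hr.mem_map (L := lcs S (c + 1)) (le_bot_iff.1 (h2 ▸ h.lcs_eq_sup hy hy' ▸
    commutator_sup_zpowers_le (normal_le_normalizer _ _) (normal_le_normalizer _ ⊤ trivial)
    (fun a ha b hb => lcs_anti (by omega) (lcs_comm _ _ (commutator_mem_commutator ha hb)))
    fun a ha => lcs_anti (by omega) (lcs_comm _ _ (commutator_mem_commutator hy ha))))
    fun x hx => mem_bot.1 (h2 ▸ lcs_anti (by omega) (h.pow_mem_lcs c x hx))
  have h5 := mul_card_le h.pg (lcs_anti (by omega)) (h3 (c + 1) (by omega))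
  have h6 := mul_card_le h.pg (lcs_anti (by omega)) (h3 (c + 2) (by omega))
  have h7 := mul_card_le h.pg (lcs_anti (by omega)) (h3 (c + 3) (by omega))
  rw [h2, card_bot, mul_one] at h7
  have h8 := (Nat.mul_le_mul_left p ((Nat.mul_le_mul_left p h7).trans h6)).trans (h5.trans h4)
  nlinarith

theorem Rk2.card_eq (hr : Rk2 p S) (hS : IsPGroup p S) (hF : F.IsSaturated p) (hp5 : 5 ≤ p)
    (hE : F.IsEssential p E) : Nat.card S = p ^ 3 ∧ Monoid.exponent S = p := by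
  haveI := finite_of_le hE.le
  obtain ⟨he, hc⟩ := hr.essential hS hF hp5 hE
  have hn := not_comm_of_essential hS hF hE
  have unif : ∀ s (hs : s ∈ E), s ∉ zc S → Unif p (⟨s, hE.le hs⟩ : S) := fun s hs =>
    pearl_unif_comm hS hF hE hc hs
  have hZE := centric_zc_le hE.isCentric
  obtain ⟨s, hs, hsZ⟩ : ∃ s ∈ E, s ∉ zc S := by
    by_contra hn
    push Not at hn
    exact (hE.lt hF hS).not_ge fun x hx => hE.isCentric.centralizerIn_le
      ⟨hx, fun y hy => ((hn y hy).2 x hx).symm⟩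
  have h := unif s hs hsZ
  have e3 := hr.lcs_three hp5 h
  have c2 := h.card_lcs_le 1
  have c1 := h.card_lcs_le 0
  have hZ : Nat.card (zc S) = p := by
    rw [← map_center_eq, card_map_of_injective S.subtype_injective, h.card_center]
  by_cases e2 : lcs S 2 = ⊥
  · rw [e2, card_bot, mul_one] at c1
    have h1 : Nat.card S = p ^ 3 := by
      refine le_antisymm (h.card_le_sq.trans (Nat.mul_le_mul_left _ c1)) ?_
      rw [← (center S).index_mul_card, h.card_center]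
      exact Nat.mul_le_mul_right _ (le_index_center hS (m := 0) h.ne)
    exact ⟨h1, ((cls2_of_card hS h1 hn).1.exponent_of_essential hZ (by omega) hF hE).2⟩
  exfalso
  rw [e3, card_bot, mul_one] at c2
  have hZ2 : lcs S 2 = center S := le_antisymm (fun x hx => mem_center_iff.2 fun y =>
    (commutatorElement_eq_one_iff_mul_comm.1 (mem_bot.1 (e3 ▸ comm_mem_lcs hx y))).symm)
    (h.center_le e2)
  have mZ : ∀ x : S, x ∈ lcs S 2 ↔ (x : Ω) ∈ zc S := fun x => by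
    rw [hZ2, ← map_center_eq]; exact (mem_map_iff_mem S.subtype_injective).symm
  obtain ⟨g, hg, hg'⟩ := SetLike.not_le_iff_exists.1 (not_lcs_le hS h.ne)
  have hgE : (g : Ω) ∉ E := fun e => (unif g e (mt (mZ g).2 hg')).not_mem hg
  have ht : ∀ x ∈ E, x⁻¹ * (g * x * (g : Ω)⁻¹) ∈ zc S := fun x hx => by
    simpa [commutatorElement_def, mul_assoc] using
      (mZ _).1 (comm_mem_symm (comm_mem_lcs hg ⟨x⁻¹, hE.le (E.inv_mem hx)⟩))
  have hgn : (g : Ω) ∈ normalizer (E : Set Ω) := mem_normalizer_of_finite fun x hx =>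
    (mul_mem_cancel_left (E.inv_mem hx)).1 (hZE (ht x hx))
  have cE := comm_of_isMulCommutative he.1
  have sec : FSec F p E E ⊥ := ⟨hE, le_rfl, bot_le, fun _ hτ _ => hτ.mem, aInv_bot F E,
    fun e he x hx => by simp [cE e he x hx], fun σ _ h => fixP_le_innS E E fun x hx =>
      (inv_mul_eq_one.1 (h x hx)).symm⟩
  obtain ⟨z, hzp, hz⟩ := exists_zpowers_of_card hZ
  have hzZ : z ∈ zc S := hz ▸ mem_zpowers z
  obtain ⟨a, W, t⟩ := sec.exists_qTv hS g.2 hgn hgE (hZE hzZ) hzp (by simp [hzZ.2 g g.2])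
    (by rwa [bot_sup_eq, ← hz])
  have ha : a ∈ E := by obtain ⟨φ, hφ, rfl⟩ := t.conj; exact hφ.mem (hZE hzZ)
  have haZ : a ∉ zc S := fun e => t.ne (by simp [e.2 g g.2])
  have u := unif a ha haZ
  obtain ⟨d, hd⟩ := exists_half (p := p) (by omega)
  obtain ⟨τ, hτ, i1, i2, -, i3⟩ := t.torus 2 d hd
  obtain ⟨β, b1, b2, b3⟩ := exists_ext_of_conj hS hF hE.isCentric g.2 hgn hτ i3
  have hN : Nat.card (E ⊔ zpowers (g : Ω) : Subgroup Ω) = p ^ 3 := by
    rw [← H8.card_mul_relIndex' le_sup_left, relIndex_sup_zpowers hgn hgE t.gp, hc, ← pow_succ]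
  have hS4 : Nat.card S = p ^ 4 := by
    refine le_antisymm (h.card_le_sq.trans ((Nat.mul_le_mul_left _ (c1.trans
      (Nat.mul_le_mul_left _ c2))).trans_eq (by ring))) ?_
    rw [← (center S).index_mul_card, h.card_center]
    exact Nat.mul_le_mul_right _ (le_index_center hS (m := 1) e2)
  have hNi : (E ⊔ zpowers (g : Ω)).relIndex S = p := by
    have := H8.card_mul_relIndex' b1.le_left
    rw [hN, hS4, pow_succ p 3] at this
    exact Nat.eq_of_mul_eq_mul_left (pow_pos hp.out.pos 3) this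
  obtain ⟨α, a1, -, a2⟩ := (mem_resStab le_rfl).1 (extStab_le_resStab_of_relIndex hNi b1.le_left
    (show β ∈ F.extStab _ by
      by_contra hβ
      have := (isEssential_iff_extStab_ne hF hS (lt_of_le_of_ne b1.le_left fun e =>
        hp.out.one_lt.ne' (by rw [← hNi, e, relIndex_self])) (F.isFullyNormalized_of_le_normalizer
        b1.le_left (le_normalizer_of_relIndex hS b1.le_left hNi))).2 fun e => hβ (e ▸ b1.mem_stab)
      have h1 := (hr.essential hS hF hp5 this).2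
      rw [hN] at h1
      exact absurd (Nat.pow_right_injective hp.out.two_le h1) (by norm_num)))
  have ra := resAut_apply a1.mem_autStab
  have a3 : ∀ y ∈ lcs S 2, resAut S α y = y ^ (2 : ℤ) := fun y hy => Subtype.ext (by
    obtain ⟨k, hk⟩ : (y : Ω) ∈ zpowers z := hz ▸ (mZ y).1 hy
    rw [ra, coe_zpow, ← hk, a1.homOn.map_zpow hzZ.1, a2 z (mem_sup_left (hZE hzZ)), b2 z (hZE hzZ),
      ← inv_mul_eq_one.1 i1, zpow_comm])
  have hA : ∀ k, ∀ y ∈ lcs S k, resAut S α y ∈ lcs S k := fun k y hy =>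
    (characteristic_iff_le_comap.1 inferInstance (resAut S α)) hy
  have a4 : (g ^ (4 : ℤ))⁻¹ * resAut S α g ∈ lcs S 2 := by
    rw [← a2 g (mem_sup_right (mem_zpowers _)), ← ra] at b3
    by_contra hn
    exact (unif _ b3 (mt (mZ ((g ^ (4 : ℤ))⁻¹ * resAut S α g)).2 hn)).not_mem
      (mul_mem (Subgroup.inv_mem _ (zpow_mem hg 4)) (hA 1 g hg))
  obtain ⟨x, h1, h2, h3⟩ := u.exists_pow_eq_one hp5 e2 e3 (resAut S α) hd (Subtype.ext (by
    rw [ra, a2 a (mem_sup_left ha), b2 a ha]; exact (inv_mul_eq_one.1 i2).symm)) (fun y hy => by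
      obtain ⟨c, hc, k, rfl⟩ := (mem_sup_zpowers (normal_le_normalizer _ ⊤ trivial)).1
        (h.lcs_eq_sup (k := 0) hg hg' ▸ hy)
      rw [← QuotientGroup.eq] at a4 ⊢
      have : ∀ c ∈ lcs S 2, (c : S ⧸ lcs S 2) = 1 := fun c hc => (QuotientGroup.eq_one_iff c).2 hc
      simp only [map_mul, map_zpow, QuotientGroup.mk_mul, QuotientGroup.mk_zpow, this c hc,
        this _ (hA 2 c hc), ← a4, one_mul]
      exact zpow_comm _ _ _) a3
  have h4 := (h.commutator_tsc_le e2).trans e3.le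
  have h5 : lcs S 1 ⊔ zpowers x ≤ tsc S := sup_le lcs_one_le_tsc (zpowers_le.2 h1)
  obtain ⟨h6, h7⟩ := elem_sup_zpowers (L := lcs S 1) ⟨isMulCommutative_of_comm fun a ha b hb =>
    commutatorElement_eq_one_iff_mul_comm.1 (h4 (commutator_mem_commutator (lcs_one_le_tsc ha)
      (lcs_one_le_tsc hb))), fun y hy => mem_bot.1 (e3 ▸ lcs_anti (by omega) (h.pow_mem_lcs 0 y hy))⟩
    h3 fun y hy => commutatorElement_eq_one_iff_mul_comm.1
      (h4 (commutator_mem_commutator h1 (lcs_one_le_tsc hy)))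
  have h8 := hr.mem_map (le_bot_iff.1 ((commutator_mono h5 h5).trans h4)) h6.2
  have h9 := (lcs S 1).index_mul_card
  rw [h7 h2] at h8
  rw [h.index_lcs_one, hS4, show p ^ 4 = p ^ 2 * p ^ 2 by ring] at h9
  rw [Nat.eq_of_mul_eq_mul_left (pow_pos hp.out.pos 2) h9] at h8
  nlinarith [hp.out.pos]

end Cfsg.Agent.H1
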