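import Cfsg.Agent.H1.Rank2
import Cfsg.Agent.H1.FusDown
import Cfsg.Agent.H8.Meta
import Cfsg.Agent.H8.EssSmall2

/-!
# Bounding the focal subgroup when essential subgroups carry transvections
-/

set_option autoImplicit false
set_option linter.unusedSectionVars false

namespace Cfsg.Agent.H1

open Equiv Cfsg.Fus Cfsg.FusionSystem Subgroup
open scoped commutatorElement

variable {Ω : Type*} [Group Ω] {S E R D K W Z M A B : Subgroup Ω} [Finite S] {F : FusionSystem S}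
  {p : ℕ} [hp : Fact p.Prime] {g a b x y : Ω} {σ τ z : Perm Ω}

/-- The Frattini subgroup of a subgroup, in the ambient group. -/
abbrev phiF (R : Subgroup Ω) : Subgroup Ω := (frattini R).map R.subtype

theorem phiF_le (R : Subgroup Ω) : phiF R ≤ R := map_subtype_le _

theorem aInv_phiF (F : FusionSystem S) (R : Subgroup Ω) : F.AInv R (phiF R) := by
  rintro τ hτ _ ⟨x, hx, rfl⟩
  exact ⟨resAut R τ x, characteristic_iff_le_comap.1 inferInstance (resAut R τ) hx,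
    resAut_apply hτ.mem_autStab x⟩

theorem commutator_le_phiF (hS : IsPGroup p S) (hR : R ≤ S) : ⁅R, R⁆ ≤ phiF R := by
  haveI := finite_of_le hR
  exact commutator_le.2 fun x hx y hy =>
    ⟨_, H8.comm_mem_frattini (isPGroup_of_le hS hR) ⟨x, hx⟩ ⟨y, hy⟩, rfl⟩

theorem pow_mem_phiF (hS : IsPGroup p S) (hR : R ≤ S) (hx : x ∈ R) : x ^ p ∈ phiF R := by
  haveI := finite_of_le hR
  exact H8.pow_mem_map_frattini (isPGroup_of_le hS hR) hx

theorem aInv_self (F : FusionSystem S) (R : Subgroup Ω) : F.AInv R R := fun _ hτ _ => hτ.mem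

theorem aInv_commutator (F : FusionSystem S) (R : Subgroup Ω) : F.AInv R ⁅R, R⁆ :=
  fun _ hτ _ => iso_mem_commutator hτ

theorem aInv_zc (F : FusionSystem S) (R : Subgroup Ω) : F.AInv R (zc R) :=
  fun _ hτ _ => iso_mem_zc hτ

theorem mem_opStab_three (hS : IsPGroup p S) (hσ : F.Iso R R σ) (hD : F.AInv R D) (hK : F.AInv R K)
    (h1 : ∀ x ∈ R, x⁻¹ * σ x ∈ D) (h2 : ∀ x ∈ D, x ∈ R → x⁻¹ * σ x ∈ K)
    (h3 : ∀ x ∈ K, x ∈ R → x⁻¹ * σ x ∈ phiF R) : σ ∈ F.opStab p R := by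
  haveI := hσ.isMap.finite
  have hR := isPGroup_of_le hS hσ.le_left
  have e : ∀ x : R, ((x⁻¹ * resAut R σ x : R) : Ω) = (x : Ω)⁻¹ * σ x := fun x => by
    rw [Subgroup.coe_mul, resAut_apply hσ.mem_autStab]; rfl
  have iD := H8.aInv_subgroupOf hσ.le_left hD
  have iK := H8.aInv_subgroupOf hσ.le_left hK
  refine H8.mem_opStab_iff.2 ⟨hσ.mem_autStab, H8.Stab.top_pCore (X := {resAut R σ})
    ((((H8.Stab.base (Set.singleton_subset_iff.2 hσ.resAut_mem) le_rfl).step hR (H8.char_inv _) iK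
      ?_).step hR iK iD ?_).step hR iD (H8.char_inv _) ?_) _ rfl⟩
  · rintro _ rfl x hx
    exact (mem_map_iff_mem R.subtype_injective).1 (by rw [coe_subtype, e]; exact h3 x hx x.2)
  · rintro _ rfl x hx
    exact mem_subgroupOf.2 (e x ▸ h2 x hx x.2)
  · rintro _ rfl x -
    exact mem_subgroupOf.2 (e x ▸ h1 x x.2)

theorem mem_opStab_two (hS : IsPGroup p S) (hσ : F.Iso R R σ) (hD : F.AInv R D)
    (h1 : ∀ x ∈ R, x⁻¹ * σ x ∈ D) (h2 : ∀ x ∈ D, x ∈ R → x⁻¹ * σ x ∈ phiF R) :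
    σ ∈ F.opStab p R :=
  mem_opStab_three hS hσ hD hD h1 (fun x hx _ => D.mul_mem (D.inv_mem hx) (hD σ hσ x hx)) h2

theorem inv_conj_mem_commutator (hg : g ∈ R) (hx : x ∈ R) : x⁻¹ * (g * x * g⁻¹) ∈ ⁅R, R⁆ :=
  inv_mul_conj_mem_commutator hg hx

theorem fSec_phiF (hS : IsPGroup p S) (hE : F.IsEssential p E) : FSec F p E E (phiF E) :=
  ⟨hE, le_rfl, phiF_le E, aInv_self F E, aInv_phiF F E,
    fun _ he _ hx => commutator_le_phiF hS hE.le (inv_conj_mem_commutator he hx),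
    fun _ hσ h => (hE.isRadical hS).opStab_eq ▸ H8.mem_opStab_of_frattini hS hσ h⟩

theorem exists_negSp (hz : F.Iso R R z) (hK : ⁅R, R⁆ ≤ K) :
    ∃ V : Subgroup Ω, ∀ x, x ∈ V ↔ x ∈ R ∧ x * z x ∈ K :=
  ⟨{ carrier := {x | x ∈ R ∧ x * z x ∈ K}
     one_mem' := ⟨one_mem _, by simp [hz.homOn.map_one]⟩
     mul_mem' := fun {x y} hx hy => ⟨R.mul_mem hx.1 hy.1, by
      rw [hz.homOn.map_mul hx.1 hy.1, show x * y * (z x * z y) =
        x * z x * ⁅(z x)⁻¹, y⁆ * (y * z y) by simp only [commutatorElement_def]; group]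
      exact K.mul_mem (K.mul_mem hx.2 (hK (commutator_mem_commutator
        (R.inv_mem (hz.mem hx.1)) hy.1))) hy.2⟩
     inv_mem' := fun {x} hx => ⟨R.inv_mem hx.1, by
      rw [hz.homOn.map_inv hx.1, show x⁻¹ * (z x)⁻¹ = (⁅z x, x⁆ * (x * z x))⁻¹ by
        simp only [commutatorElement_def]; group]
      exact K.inv_mem (K.mul_mem (hK (commutator_mem_commutator (hz.mem hx.1) hx.1)) hx.2)⟩ },
    fun _ => Iff.rfl⟩

/-- An automorphism inverting `R / W` and centralising `W / K` is central modulo `K`. -/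
theorem comm_inv (hS : IsPGroup p S) (hR : F.IsRadical p R) (hW : F.AInv R W) (hK : F.AInv R K)
    (hK1 : ⁅R, R⁆ ≤ K) (hK2 : K ≤ phiF R) (hz : F.Iso R R z) (h1 : ∀ x ∈ R, x * z x ∈ W)
    (h2 : ∀ w ∈ W, w ∈ R → w⁻¹ * z w ∈ K) (hτ : F.Iso R R τ) :
    ∀ x ∈ R, (τ (z x))⁻¹ * z (τ x) ∈ K := by
  have hρ := hz.trans hτ
  have hγ := (hτ.trans hz).trans hρ.symm
  have key : ∀ A, F.AInv R A → ∀ x ∈ R, x⁻¹ * ((τ * z)⁻¹ * (z * τ)) x ∈ A ↔
      (τ (z x))⁻¹ * z (τ x) ∈ A := fun A hA x hx => by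
    rw [← hA.mem_setStab hρ, hρ.homOn.map_mul (R.inv_mem hx) (hγ.mem hx), hρ.homOn.map_inv hx]
    simp
  have h3 := mem_opStab_two hS hγ hW (fun x hx => (key W hW x hx).2 (by
      have := W.mul_mem (W.inv_mem (hW τ hτ _ (h1 x hx))) (h1 _ (hτ.mem hx))
      rw [hτ.homOn.map_mul hx (hz.mem hx)] at this
      simpa [mul_assoc] using this)) fun w hw hwR => hK2 ((key K hK w hwR).2 (by
      have := K.mul_mem (K.inv_mem (hK τ hτ _ (h2 w hw hwR))) (h2 _ (hW τ hτ w hw) (hτ.mem hwR))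
      rw [hτ.homOn.map_mul (R.inv_mem hwR) (hz.mem hwR), hτ.homOn.map_inv hwR] at this
      simpa [mul_assoc] using this))
  obtain ⟨r, hr, e⟩ := mem_innS_self.1 (hR.opStab_eq ▸ h3)
  exact fun x hx => (key K hK x hx).1 (e x hx ▸ hK1 (inv_conj_mem_commutator hr hx))

/-- The map `σ` moves elements within cosets of `M`. -/
def FocP (M P : Subgroup Ω) (σ : Perm Ω) : Prop := ∀ x ∈ P, x⁻¹ * σ x ∈ M

theorem closed_focP (F : FusionSystem S) (M : Subgroup Ω) : H8.Closed F (FocP M) where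
  congr := fun _ h e x hx => e x hx ▸ h x hx
  mono := fun _ h hR x hx => h x (hR hx)
  mul := fun _ _ h h' e x hx => by simpa [mul_assoc] using M.mul_mem (h x hx) (h' _ (e x hx))
  inv := fun hσ h y hy => by
    obtain ⟨x, hx, rfl⟩ := hσ.mem_img.1 hy
    simpa using M.inv_mem (h x hx)

/-- Alperin induction over essential subgroups. -/
theorem closed_alperin_ess {M : Subgroup Ω → Perm Ω → Prop} (hM : H8.Closed F M)
    (hF : F.IsSaturated p) (hS : IsPGroup p S) (top : ∀ σ, F.Iso S S σ → M S σ)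
    (base : ∀ R σ, F.IsEssential p R → F.Iso R R σ → IH F M R → M R σ) :
    ∀ P (σ : Perm Ω), F.IsMap P σ → M P σ := by
  refine hM.alperin hF hS fun R σ hn hc hσ ih => ?_
  rcases hn.1.eq_or_lt with rfl | hlt
  · exact top σ hσ
  by_cases he : F.IsEssential p R
  · exact base R σ he hσ ih
  have h1 := not_not.1 (mt (isEssential_iff_extStab_ne hF hS hlt hn).2 he)
  have h2 : F.extStab R ≤ hM.sub R hn.1 (IH.of_ext hM ih hlt (F.isMap_one le_rfl)
      fun _ _ => rfl) := (Subgroup.closure_le _).2 fun τ ⟨h3, h4⟩ =>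
    ⟨h4.isMap.iso_of_setStab h3, by
      obtain ⟨Q, hQ, ρ, h5, h6⟩ := h4
      exact IH.of_ext hM ih hQ h5 fun x hx => (h6 x hx).symm⟩
  exact (h2 (h1 ▸ hσ.mem_stab)).2

/-- Some element of `S` acts as a transvection on the Frattini quotient of `R`. -/
def HasTv (S R : Subgroup Ω) : Prop :=
  ∃ g ∈ S, g ∈ normalizer (R : Set Ω) ∧ g ∉ R ∧ ∃ b ∈ R, b⁻¹ * (g * b * g⁻¹) ∈ phiF R ∧
    ∀ x ∈ R, x⁻¹ * (g * x * g⁻¹) ∈ phiF R ⊔ zpowers b

theorem mem_of_sq_mem (hS : IsPGroup p S) (hp2 : p ≠ 2) (hx : x ∈ S) (h : x ^ 2 ∈ M) : x ∈ M := by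
  obtain ⟨k, hk⟩ := hS ⟨x, hx⟩
  refine mem_of_pow_of_coprime (a := p ^ k) (b := 2) (Nat.Coprime.pow_left k
    ((Nat.coprime_primes hp.out Nat.prime_two).2 hp2)) ?_ h
  rw [show x ^ p ^ k = 1 from congrArg Subtype.val hk]
  exact one_mem _

theorem QTv.exists_inv (t : QTv F p E E Z g b a W) (hZ : ⁅E, E⁆ ≤ Z) (hb : b ∈ E) :
    ∃ z, F.Iso E E z ∧ b * z b ∈ Z ∧ a * z a ∈ Z ∧ (∀ w ∈ W, w⁻¹ * z w ∈ Z) ∧
      (∀ x ∈ E, x * z x ∈ W) ∧ (cj (g ^ (1 : ℤ)))⁻¹ * (z * cj g * z⁻¹) ∈ innS E E := by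
  obtain ⟨z, hz, h1, h2, h3, h4⟩ := t.torus (-1) (-1) (by simp)
  obtain ⟨V, hV⟩ := exists_negSp hz (hZ.trans t.le')
  have ha : a ∈ E := by obtain ⟨φ, hφ, rfl⟩ := t.conj; exact hφ.mem hb
  simp only [zpow_neg, zpow_one, inv_inv] at h1 h2
  refine ⟨z, hz, h1, h2, h3, fun x hx => ((hV x).1 ?_).2, by simpa using h4⟩
  obtain ⟨w, hw, i, j, rfl⟩ := t.decomp x hx
  exact V.mul_mem (V.mul_mem ((hV w).2 ⟨t.le hw, W.mul_mem hw (t.invW z hz w hw)⟩)
    (V.zpow_mem ((hV b).2 ⟨hb, t.le' h1⟩) i)) (V.zpow_mem ((hV a).2 ⟨ha, t.le' h2⟩) j)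

theorem focP_of_hasTv (hF : F.IsSaturated p) (hS : IsPGroup p S) (hp2 : p ≠ 2)
    (hR : F.IsEssential p R) (ht : HasTv S R) (hM : phiF R ≤ M) (ih : IH F (FocP M) R)
    (hσ : F.Iso R R σ) : FocP M R σ := by
  obtain ⟨g, hg, hn, hgR, b, hb, h1, h2⟩ := ht
  obtain ⟨a, W, t⟩ := (fSec_phiF hS hR).exists_qTv hS hg hn hgR hb (pow_mem_phiF hS hR.le hb) h1 h2
  have hc := commutator_le_phiF hS hR.le
  obtain ⟨z, hz, z1, -, z3, z4, z5⟩ := t.exists_inv hc hb
  obtain ⟨β, b1, b2, -⟩ := exists_ext_of_conj hS hF hR.isCentric hg hn hz z5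
  have h3 : FocP M R z := IH.of_ext (closed_focP F M) ih
    (left_lt_sup.2 fun e => hgR (e (mem_zpowers g))) b1.isMap fun x hx => (b2 x hx).symm
  obtain ⟨V, hV⟩ := exists_negSp hz hc
  have hVM : V ≤ M := fun x hx => mem_of_sq_mem hS hp2 (hR.le ((hV x).1 hx).1) (by
    simpa [mul_assoc, pow_two] using
      M.mul_mem (hM ((hV x).1 hx).2) (M.inv_mem (h3 x ((hV x).1 hx).1)))
  have hi : F.AInv R V := fun τ hτ x hx => by
    obtain ⟨x1, x2⟩ := (hV x).1 hx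
    have := mul_mem (aInv_phiF F R τ hτ _ x2) (comm_inv hS (hR.isRadical hS) t.invW (aInv_phiF F R)
      hc le_rfl hz z4 (fun w hw _ => z3 w hw) hτ x x1)
    rw [hτ.homOn.map_mul x1 (hz.mem x1)] at this
    exact (hV _).2 ⟨hτ.mem x1, by simpa [mul_assoc] using this⟩
  refine closed_of_core (closed_focP F M) hF hS hR.isFullyNormalized ih (K := trivOn V R)
    (fun u hu => ⟨fixP_le_autStab R hu, fun x hx => by simp [hu x hx]⟩)
    (fun τ hτ u hu _ => conj_mem_trivOn hu hτ.mem_autStab fun x hx _ => hi τ hτ x hx)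
    (fun u hu _ x hx => hVM (hu.2 x hx)) hg hn hgR ⟨cj_mem_autStab.2 hn, fun x hx => ?_⟩ hσ
  exact sup_le (fun y hy => (hV y).2 ⟨phiF_le R hy, mul_mem hy (aInv_phiF F R z hz y hy)⟩)
    (zpowers_le.2 ((hV b).2 ⟨hb, z1⟩)) (h2 x hx)

/-- If all essential subgroups carry transvections then the focal subgroup is controlled by the
automorphisms of `S` modulo the Frattini subgroup. -/
theorem le_of_hasTv (hF : F.IsSaturated p) (hS : IsPGroup p S) (hp2 : p ≠ 2)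
    (hfoc : S ≤ F.focalSubgroup) (ht : ∀ R, F.IsEssential p R → HasTv S R) (hM : M ≤ S)
    (top : ∀ σ, F.Iso S S σ → FocP M S σ) : S ≤ M := by
  have h1 := closed_alperin_ess (closed_focP F (M ⊔ phiF S)) hF hS
    (fun σ hσ x hx => mem_sup_left (top σ hσ x hx)) fun R σ hR hσ ih =>
      focP_of_hasTv hF hS hp2 hR (ht R hR) ((map_frattini_mono hS hR.le).trans le_sup_right) ih hσ
  have h2 : S ≤ M ⊔ phiF S := hfoc.trans (focalSubgroup_le_iff.2 fun P f hf x hx => by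
    obtain ⟨σ, hσ, e⟩ := hf.exists_perm
    exact e x hx ▸ h1 P σ hσ x hx)
  have h3 : M.subgroupOf S ⊔ frattini S = ⊤ := by
    refine map_injective S.subtype_injective (le_antisymm (map_mono le_top) ?_)
    rwa [Subgroup.map_sup, map_subgroupOf_eq_of_le hM, ← MonoidHom.range_eq_map, range_subtype]
  exact subgroupOf_eq_top.1 (frattini_nongenerating h3)

/-- The contradiction obtained from an automorphism inverting `S / D` when all automorphisms
centralise `D / [S, S]`. -/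
theorem le_commutator_of_inv (hF : F.IsSaturated p) (hS : IsPGroup p S) (hp2 : p ≠ 2)
    (hfoc : S ≤ F.focalSubgroup) (ht : ∀ R, F.IsEssential p R → HasTv S R) (hD : D ≤ S)
    (hi : F.AInv S D) (hz : F.Iso S S z) (h1 : ∀ x ∈ S, x * z x ∈ D)
    (h2 : ∀ σ, F.Iso S S σ → FocP ⁅S, S⁆ D σ) : D ≤ ⁅S, S⁆ := by
  obtain ⟨V, hV⟩ := exists_negSp hz le_rfl
  have h3 := le_of_hasTv hF hS hp2 hfoc ht (M := V) (fun x hx => ((hV x).1 hx).1) fun σ hσ s hs => by
    have h4 := comm_inv hS (hF.isRadical_top hS) hi (aInv_commutator F S) le_rfl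
      (commutator_le_phiF hS le_rfl) hz h1 (fun w hw _ => h2 z hz w hw) hσ s hs
    have h5 := h2 σ hσ _ (h1 s hs)
    have h6 := S.mul_mem (S.inv_mem hs) (hσ.mem hs)
    refine (hV _).2 ⟨h6, ?_⟩
    rw [hσ.homOn.map_mul hs (hz.mem hs)] at h5
    rw [hz.homOn.map_mul (S.inv_mem hs) (hσ.mem hs), hz.homOn.map_inv hs,
      show s⁻¹ * σ s * ((z s)⁻¹ * z (σ s)) = ⁅s⁻¹ * σ s, (z s)⁻¹⁆ *
        ((s * z s)⁻¹ * (σ s * σ (z s))) * ((σ (z s))⁻¹ * z (σ s)) by
          simp only [commutatorElement_def]; group]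
    exact mul_mem (mul_mem (commutator_mem_commutator h6 (S.inv_mem (hz.mem hs))) h5) h4
  exact fun d hd => mem_of_sq_mem hS hp2 (hD hd) (by
    simpa [mul_assoc, pow_two] using mul_mem ((hV d).1 (h3 (hD hd))).2 (inv_mem (h2 z hz d hd)))

/-- Automorphisms of a non-essential subgroup of index `p` in its normaliser extend. -/
theorem exists_ext_step (hF : F.IsSaturated p) (hS : IsPGroup p S) (hR : F.IsFullyNormalized R)
    (hne : ¬ F.IsEssential p R) (hi : R.relIndex (normalizerIn S R) = p) (hτ : F.Iso R R τ) :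
    ∃ β, F.Iso (normalizerIn S R) (normalizerIn S R) β ∧ ∀ x ∈ R, β x = τ x := by
  have hlt : R < S := lt_of_le_of_ne hR.1 fun e => hp.out.one_lt.ne' (by
    rw [← hi, relIndex_eq_one]; exact e ▸ normalizerIn_le _ _)
  have h1 := not_not.1 (mt (isEssential_iff_extStab_ne hF hS hlt hR).2 hne)
  have h2 : F.extStab R ≤ F.resStab (normalizerIn S R) R := by
    refine (Subgroup.closure_le _).2 ?_
    rintro α ⟨h0, h3⟩
    obtain ⟨Q, hQ, hQN, β, h4, h5⟩ := h3.exists_normalizer hS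
    obtain rfl := (eq_or_eq_of_relIndex hQ.le hQN hi).resolve_left hQ.ne'
    have h6 := mem_of_congr (fixP_le_setStab R) h0 h5
    refine (mem_resStab (normalizerIn_le S R)).2 ⟨β, h4.iso_self fun x hx => ?_, h6, h5⟩
    have := h4.mem_normalizerIn hQ.le hx hx.2
    rwa [(h4.homOn.mem_setStab_iff hQ.le).1 h6] at this
  obtain ⟨β, b1, -, b2⟩ := (mem_resStab (normalizerIn_le S R)).1 (h2 (h1 ▸ hτ.mem_stab))
  exact ⟨β, b1, b2⟩

theorem exists_ext_top (hF : F.IsSaturated p) (hS : IsPGroup p S) (hne : ¬ F.IsEssential p R)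
    (hi : R.relIndex S = p) (hτ : F.Iso R R τ) : ∃ β, F.Iso S S β ∧ ∀ x ∈ R, β x = τ x := by
  have hn := le_normalizer_of_relIndex hS hτ.le_left hi
  have e : normalizerIn S R = S := inf_eq_left.2 hn
  have := exists_ext_step hF hS (F.isFullyNormalized_of_le_normalizer hτ.le_left hn) hne
    (e.symm ▸ hi) hτ
  rwa [e] at this

theorem mem_normalizer_sup_zpowers (hA : A ≤ S) (hb : b ∈ S) (hg : g ∈ normalizer (A : Set Ω))
    (h : b⁻¹ * (g * b * g⁻¹) ∈ A) : g ∈ normalizer ((A ⊔ zpowers b : Subgroup Ω) : Set Ω) := by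
  haveI := finite_of_le (sup_le hA (zpowers_le.2 hb))
  refine mem_normalizer_of_finite ((homOn_cj g _).mapsTo_sup
    (fun x hx => mem_sup_left (conj_mem_of_mem_normalizer hg hx)) ?_)
  rintro _ ⟨k, rfl⟩
  rw [cj_apply, ← conj_zpow]
  exact zpow_mem ((mul_mem_cancel_left (inv_mem (mem_sup_right (mem_zpowers b)))).1
    (mem_sup_left h)) k

theorem relIndex_dvd_of_card (hS : IsPGroup p S) (hAB : A ≤ B) (hB : B ≤ S)
    (h : Nat.card B ≤ p * Nat.card A) : A.relIndex B ∣ p := by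
  by_cases hle : B ≤ A
  · rw [relIndex_eq_one.2 hle]; exact one_dvd _
  haveI := finite_of_le (hAB.trans hB)
  refine (relIndex_eq_of_le hS hB (Nat.le_of_mul_le_mul_left (c := Nat.card A) ?_ Nat.card_pos)
    hle).dvd
  rwa [H8.card_mul_relIndex' hAB, mul_comm]

theorem card_sup_zp (hx : x ∈ normalizer (A : Set Ω)) (hxA : x ∉ A) (hxp : x ^ p ∈ A) :
    Nat.card (A ⊔ zpowers x : Subgroup Ω) = p * Nat.card A := by
  rw [← H8.card_mul_relIndex' le_sup_left, relIndex_sup_zpowers hx hxA hxp, mul_comm]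

theorem hasTv_of_rank_two (hS : IsPGroup p S) (hlt : R < S)
    (h : Nat.card R ≤ p ^ 2 * Nat.card (phiF R)) : HasTv S R := by
  obtain ⟨g, hg, hgR⟩ := SetLike.exists_of_lt (lt_normalizerIn hS hlt)
  refine ⟨g, hg.1, hg.2, hgR, ?_⟩
  have hi := aInv_normalizer (aInv_phiF (innerFusionSystem S) R) hlt.le
  by_cases hle : R ≤ phiF R
  · exact ⟨1, one_mem _, by simp, fun x hx => mem_sup_left (hle (R.mul_mem (R.inv_mem hx)
      (conj_mem_of_mem_normalizer hg.2 hx)))⟩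
  obtain ⟨b, hb, h1, h2, h3⟩ := Fus.exists_central_mod (isPGroup_of_le hS (normalizerIn_le S R))
    (le_normalizerIn hlt.le) hi inf_le_right hle
  refine ⟨b, hb, h3 g hg, conj_mem_of_relIndex hS hg.1 (mem_normalizer_sup_zpowers
    ((phiF_le R).trans hlt.le) (hlt.le hb) (hi hg) (h3 g hg)) hg.2 (relIndex_dvd_of_card hS
    (sup_le (phiF_le R) (zpowers_le.2 hb)) hlt.le ?_)⟩
  rwa [card_sup_zp (hi (le_normalizerIn hlt.le hb)) h1 h2, ← mul_assoc, ← pow_two]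

theorem QTv.le_of_card (t : QTv F p E E Z g b a W) (hS : IsPGroup p S) (hE : E ≤ S)
    (hZ : F.AInv E Z) (hb : b ∈ E) (hp' : ∀ x ∈ E, x ^ p ∈ Z) (hc : ⁅E, E⁆ ≤ Z)
    (h : Nat.card E ≤ p ^ 2 * Nat.card Z) : W ≤ Z := by
  haveI := finite_of_le hE
  haveI := finite_of_le t.le
  obtain ⟨φ, hφ, rfl⟩ := t.conj
  have hn := t.invW.le_normalizer hE
  have h1 : b ∉ W := fun e => t.nmem (by simpa using (t.indep 1 0 (by simpa using e)).1)
  have h2 : φ b ∉ W ⊔ zpowers b := fun e => by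
    obtain ⟨w, hw, k, e⟩ := (mem_sup_zpowers (hn hb)).1 e
    have := conj_inv_mem_of_mem_normalizer (hn (E.zpow_mem hb k)) hw
    rw [mul_assoc, ← e, ← zpow_neg] at this
    exact t.nmem ((hZ.mem_setStab hφ b).1 (by simpa using (t.indep (-k) 1 (by simpa using this)).2))
  have h3 := card_sup_zp (hn hb) h1 (t.le' (hp' b hb))
  have h4 := card_sup_zp (A := W ⊔ zpowers b) (mem_normalizer_sup_zpowers (t.le.trans hE) (hE hb)
    (hn (hφ.mem hb)) (t.le' (hc (inv_conj_mem_commutator (hφ.mem hb) hb)))) h2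
    (mem_sup_left (t.le' (hp' _ (hφ.mem hb))))
  have h5 := card_le_of_le (sup_le (sup_le t.le (zpowers_le.2 hb)) (zpowers_le.2 (hφ.mem hb)))
  rw [h4, h3, ← mul_assoc, ← pow_two] at h5
  exact (eq_of_le_of_card_ge t.le' (Nat.le_of_mul_le_mul_left (h5.trans h)
    (pow_pos hp.out.pos 2))).ge

end Cfsg.Agent.H1
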