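import Cfsg.Agent.H1.DStar
import Cfsg.Agent.H2.ZJ

/-!
The Thompson subgroup in fusion systems; the closure of a central subgroup under `Aut_F(U)`.
-/

set_option autoImplicit false

namespace Cfsg.Agent.H1

open Equiv Cfsg.Fus Cfsg.FusionSystem Cfsg.Agent.H8
open scoped commutatorElement

variable {Ω : Type*} [Group Ω] {S : Subgroup Ω} {F : FusionSystem S} {p : ℕ}
  {A B P Q R R' T U V Z : Subgroup Ω} {σ τ φ : Perm Ω}

theorem thompsonA_eq_map (R : Subgroup Ω) :
    thompsonSubgroupAOf R = (thompsonSubgroupAOf (⊤ : Subgroup R)).map R.subtype := by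
  rw [H2.thompsonA_top]; rfl

theorem img_thompsonA {Ω' : Type*} [Group Ω'] {f : Ω → Ω'} (hf : HomOn f R) (hi : Set.InjOn f R) :
    img f (thompsonSubgroupAOf R) = thompsonSubgroupAOf (img f R) := by
  have hinj : Function.Injective hf.toHom := fun a b h => Subtype.ext (hi a.2 b.2 h)
  rw [← map_subgroupOf_eq_img (H2.thompsonA_le R) hf.toHom fun _ => rfl,
    img_eq_range hf.toHom fun _ => rfl, MonoidHom.range_eq_map, ← H2.map_thompsonA _ hinj,
    thompsonA_eq_map R, Subgroup.subgroupOf, Subgroup.comap_map_eq_self_of_injective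
      R.subtype_injective]

theorem iso_thompsonA (h : F.Iso R R' φ) :
    F.Iso (thompsonSubgroupAOf R) (thompsonSubgroupAOf R') φ :=
  (h.isMap.mono (H2.thompsonA_le R)).iso_of_img
    (by rw [img_thompsonA h.homOn h.isMap.injOn, h.img_eq])

/-- Thompson's replacement theorem inside a finite `p`-subgroup of the ambient group. -/
theorem exists_maxAb_quad' [Fact p.Prime] [Finite T] (hT : IsPGroup p T) (hV : V ≤ T)
    (hn : T ≤ Subgroup.normalizer (V : Set Ω)) (hc : IsMulCommutative V)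
    (hJ : ¬ thompsonSubgroupAOf T ≤ Subgroup.centralizer (V : Set Ω)) :
    ∃ A, H2.MaxAb T A ∧ ¬ A ≤ Subgroup.centralizer (V : Set Ω) ∧
      V ≤ Subgroup.normalizer (A : Set Ω) := by
  let P : Sylow p T := ⟨⊤, hT.to_subgroup ⊤, fun _ h => top_le_iff.1 h⟩
  haveI : (V.subgroupOf T).Normal := (Subgroup.normal_subgroupOf_iff_le_normalizer hV).2 hn
  have hc' : IsMulCommutative (V.subgroupOf T) := inferInstance
  have hcen : ∀ A : Subgroup T, A ≤ Subgroup.centralizer ((V.subgroupOf T : Subgroup T) : Set T) ↔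
      A.map T.subtype ≤ Subgroup.centralizer (V : Set Ω) := by
    intro A
    constructor
    · rintro h _ ⟨a, ha, rfl⟩ v hv
      exact congrArg Subtype.val (h ha ⟨v, hV hv⟩ hv)
    · exact fun h a ha v hv => Subtype.ext (h ⟨a, ha, rfl⟩ v hv)
  obtain ⟨A, h1, h2, h3⟩ := H2.exists_maxAb_quad P (V := V.subgroupOf T) (hT.to_subgroup _) hc'
    le_rfl fun h => hJ (by rw [thompsonA_eq_map]; exact (hcen _).1 h)
  refine ⟨A.map T.subtype, ?_, fun h => h2 ((hcen _).2 h), fun v hv => ?_⟩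
  · have := h1.map T.subtype_injective
    rwa [show ((P : Subgroup T).map T.subtype) = T from by
      rw [← MonoidHom.range_eq_map, Subgroup.range_subtype]] at this
  · exact Subgroup.le_normalizer_map T.subtype ⟨⟨v, hV hv⟩, h3 (x := ⟨v, hV hv⟩) hv, rfl⟩

/-- The closure of `Z` under `Aut_F(U)`. -/
def orbCl (F : FusionSystem S) (U Z : Subgroup Ω) : Subgroup Ω :=
  Subgroup.closure {y | ∃ τ z, F.Iso U U τ ∧ z ∈ Z ∧ y = τ z}

theorem apply_mem_orbCl (hτ : F.Iso U U τ) {z : Ω} (hz : z ∈ Z) : τ z ∈ orbCl F U Z :=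
  Subgroup.subset_closure ⟨τ, z, hτ, hz, rfl⟩

theorem le_orbCl (hU : U ≤ S) : Z ≤ orbCl F U Z := fun _ hz => apply_mem_orbCl (F.iso_one hU) hz

theorem orbCl_le (hZ : Z ≤ A) (h : ∀ τ, F.Iso U U τ → ∀ x ∈ A, τ x ∈ A) : orbCl F U Z ≤ A := by
  rw [orbCl, Subgroup.closure_le]
  rintro _ ⟨τ, z, hτ, hz, rfl⟩
  exact h τ hτ z (hZ hz)

theorem orbCl_le_zc (hZ : Z ≤ zc U) : orbCl F U Z ≤ zc U :=
  orbCl_le hZ fun _ hτ _ hx => iso_mem_zc hτ hx

theorem orbCl_le_self (hZ : Z ≤ U) : orbCl F U Z ≤ U :=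
  orbCl_le hZ fun _ hτ _ hx => hτ.mem hx

theorem iso_mem_orbCl (hZ : Z ≤ U) (hσ : F.Iso U U σ) :
    ∀ x ∈ orbCl F U Z, σ x ∈ orbCl F U Z := by
  refine HomOn.mapsTo_closure (hσ.homOn.mono (orbCl_le_self hZ)) ?_
  rintro _ ⟨τ, z, hτ, hz, rfl⟩
  exact apply_mem_orbCl (hτ.trans hσ) hz

theorem iso_orbCl [Finite S] (hZ : Z ≤ U) (hσ : F.Iso U U σ) :
    F.Iso (orbCl F U Z) (orbCl F U Z) σ :=
  (hσ.isMap.mono (orbCl_le_self hZ)).iso_self (iso_mem_orbCl hZ hσ)

theorem normalizerIn_le_normalizer_orbCl [Finite S] (hU : U ≤ S) (hZ : Z ≤ U) :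
    normalizerIn S U ≤ Subgroup.normalizer ((orbCl F U Z : Subgroup Ω) : Set Ω) := fun _ hg =>
  cj_mem_setStab.1 (iso_orbCl hZ (F.iso_cj hU hg.1 hg.2)).mem_setStab

/-- `Aut_F(U)` induces on the closure of a subgroup of `Z(S)` a group without normal
`p`-subgroups. -/
theorem le_fixP_orbCl [Fact p.Prime] [Finite S] (hU : F.IsFullyAutomized p U) (hZ : Z ≤ U)
    (hZS : Z ≤ Subgroup.centralizer (S : Set Ω)) {D : Subgroup (Perm Ω)} (hD : D ≤ F.stab U)
    (hn : ∀ τ, F.Iso U U τ → ∀ u ∈ D, τ * u * τ⁻¹ ∈ D) (hp : IsPMod p (fixP (orbCl F U Z)) D) :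
    D ≤ fixP (orbCl F U Z) := by
  have hle := orbCl_le_self (F := F) hZ
  have hsyl := hU.sylMod.of_le (F.finMod_stab hU.le) (fixP_anti hle) fun u hu =>
    setStab_le_normalizer_fixP _ (iso_orbCl hZ ((mem_stab hU.le).1 hu)).mem_setStab
  obtain ⟨χ, hχ, h⟩ := hsyl.conj D hD hp
  have hχ' := (mem_stab hU.le).1 hχ
  have key : ∀ u ∈ D, u ∈ fixP Z := by
    intro u hu z hz
    obtain ⟨v, hv, hv'⟩ := h _ (hn _ hχ'.symm u hu)
    obtain ⟨s, hs, -, he⟩ := mem_innS.1 hv
    have := inv_mul_mem_fixP.1 hv' z (le_orbCl hU.le hz)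
    simp only [inv_inv, mul_assoc, mul_inv_cancel_left, mul_inv_cancel, mul_one] at this
    rw [this, he z (hZ hz), hZS hz s hs, mul_inv_cancel_right]
  intro u hu
  refine mem_fixP_closure (((mem_stab hU.le).1 (hD hu)).homOn.mono hle) ?_
  rintro _ ⟨τ, z, hτ, hz, rfl⟩
  have := key _ (hn _ hτ.symm u hu) z hz
  simp only [inv_inv, Perm.mul_apply] at this
  rw [← perm_apply_inv_self τ (u (τ z)), this]

theorem HomOn.map_pow_comm {f : Ω → Ω} (hf : HomOn f V) (hm : ∀ x ∈ V, f x ∈ V)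
    (hc : ∀ a ∈ V, ∀ b ∈ V, a * b = b * a) {x : Ω} (hx : x ∈ V) (n : ℕ) :
    (x⁻¹ * f x) ^ n = (x ^ n)⁻¹ * f (x ^ n) := by
  rw [Commute.mul_pow (hc _ (V.inv_mem hx) _ (hm x hx)), inv_pow, hf.map_pow hx]

theorem pow_apply_of_fix (hσ : σ ∈ autStab V) {x : Ω} (hx : x ∈ V)
    (h : σ (x⁻¹ * σ x) = x⁻¹ * σ x) (n : ℕ) : (σ ^ n) x = x * (x⁻¹ * σ x) ^ n := by
  have hc : x⁻¹ * σ x ∈ V := V.mul_mem (V.inv_mem hx) ((hσ.2 x).2 hx)
  induction n with
  | zero => simp
  | succ n ih =>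
    rw [pow_succ', Perm.mul_apply, ih, hσ.1 hx (V.pow_mem hc n), hσ.1.map_pow hc, h, pow_succ',
      ← mul_assoc, mul_inv_cancel_left]

/-- An automorphism of an abelian group fixing the elements of order `p` is a `p`-element on the
`p`-part. -/
theorem pow_apply_eq_of_omega (hσ : σ ∈ autStab V) (hc : ∀ a ∈ V, ∀ b ∈ V, a * b = b * a)
    (h : ∀ x ∈ V, x ^ p = 1 → σ x = x) (k : ℕ) :
    ∀ x ∈ V, x ^ p ^ (k + 1) = 1 → (σ ^ p ^ k) x = x := by
  induction k with
  | zero => simpa using h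
  | succ k ih =>
    intro x hx hxk
    have he : σ ^ p ^ k ∈ autStab V := Subgroup.pow_mem _ hσ _
    have hcV : x⁻¹ * (σ ^ p ^ k) x ∈ V := V.mul_mem (V.inv_mem hx) ((he.2 x).2 hx)
    have h1 : (x⁻¹ * (σ ^ p ^ k) x) ^ p = 1 := by
      rw [HomOn.map_pow_comm he.1 (fun y hy => (he.2 y).2 hy) hc hx,
        ih _ (V.pow_mem hx p) (by rw [← pow_mul, ← pow_succ', hxk]), inv_mul_cancel]
    rw [pow_succ, pow_mul, pow_apply_of_fix he hx
      (ih _ hcV (by rw [pow_succ', pow_mul, h1, one_pow])), h1, mul_one]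

/-- The permutations fixing the elements of order `p` of `V`. -/
def fixOm (p : ℕ) (V : Subgroup Ω) : Subgroup (Perm Ω) where
  carrier := {σ | ∀ x ∈ V, x ^ p = 1 → σ x = x}
  one_mem' := fun _ _ _ => rfl
  mul_mem' := fun ha hb x hx h => by rw [Perm.mul_apply, hb x hx h, ha x hx h]
  inv_mem' := fun {σ} ha x hx h => by rw [Perm.inv_eq_iff_eq, ha x hx h]

/-- An element of `Aut_F(U)` fixing the elements of order `p` of the closure `V` of a subgroup of
`Z(S)` fixes `V`. -/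
theorem mem_fixP_orbCl_of_omega [Fact p.Prime] [Finite S] (hS : IsPGroup p S)
    (hU : F.IsFullyAutomized p U) (hZ : Z ≤ zc U) (hZS : Z ≤ Subgroup.centralizer (S : Set Ω))
    (hσ : F.Iso U U σ) (h : σ ∈ fixOm p (orbCl F U Z)) : σ ∈ fixP (orbCl F U Z) := by
  have hZU : Z ≤ U := hZ.trans inf_le_left
  have hVz := orbCl_le_zc (F := F) hZ
  obtain ⟨k, hk⟩ := exists_pow_eq_one_of_isPGroup hS
  refine le_fixP_orbCl hU hZU hZS (D := F.stab U ⊓ fixOm p (orbCl F U Z)) inf_le_left ?_ ?_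
    ⟨hσ.mem_stab, h⟩
  · rintro τ hτ u ⟨h1, h2⟩
    refine ⟨(hτ.conj ((mem_stab hU.le).1 h1)).mem_stab, fun x hx hxp => ?_⟩
    have h3 := (iso_orbCl hZU hτ).symm
    simp only [Perm.mul_apply]
    rw [h2 _ (h3.mem hx) (by rw [← h3.homOn.map_pow hx, hxp, h3.homOn.map_one]),
      perm_apply_inv_self]
  · rintro u ⟨h1, h2⟩
    exact ⟨k, fun x hx => pow_apply_eq_of_omega
      (iso_orbCl hZU ((mem_stab hU.le).1 h1)).mem_autStab
      (fun a ha b hb => (hVz hb).2 a (hVz ha).1) h2 k x hx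
      (by rw [pow_succ, pow_mul, hk x (hU.le (hVz hx).1), one_pow])⟩

/-- A quadratic element of `Aut_F(U)` centralizes the `p`-th powers in the closure of a subgroup
of `Z(S)`. -/
theorem QuadOn.mem_fixP_powerClosure [Fact p.Prime] [Finite S] (hS : IsPGroup p S)
    (hU : F.IsFullyAutomized p U) (hZ : Z ≤ zc U) (hZS : Z ≤ Subgroup.centralizer (S : Set Ω))
    (hσ : F.Iso U U σ) (hq : QuadOn (orbCl F U Z) σ) :
    σ ∈ fixP (powerClosure p 1 (orbCl F U Z)) := by
  have hZU : Z ≤ U := hZ.trans inf_le_left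
  have hVz := orbCl_le_zc (F := F) hZ
  have hV := iso_orbCl hZU hσ
  have hc : ∀ a ∈ orbCl F U Z, ∀ b ∈ orbCl F U Z, a * b = b * a :=
    fun a ha b hb => (hVz hb).2 a (hVz ha).1
  have key : ∀ x ∈ orbCl F U Z, (σ ^ p) x = x * ((x ^ p)⁻¹ * σ (x ^ p)) := fun x hx => by
    rw [pow_apply_of_fix hV.mem_autStab hx (hq x hx),
      HomOn.map_pow_comm hV.homOn (fun _ h => hV.mem h) hc hx]
  have h1 := mem_fixP_orbCl_of_omega hS hU hZ hZS (hσ.pow p) fun x hx hxp => by
    rw [key x hx, hxp, hV.homOn.map_one]; simp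
  refine mem_fixP_closure (hV.homOn.mono (powerClosure_le p 1 _)) ?_
  rintro _ ⟨x, hx, rfl⟩
  have := key x hx
  rw [h1 x hx, left_eq_mul, inv_mul_eq_one] at this
  rw [pow_one, ← this]

theorem zc_le_zc_thompsonA [Finite S] (hc : F.IsCentric R) : zc S ≤ zc (thompsonSubgroupAOf R) :=
  haveI := finite_of_le hc.le
  fun _ hx => ⟨H2.center_le_thompsonA R (zc_le_zc_of_centric hc hx),
    fun y hy => hx.2 y (hc.le (H2.thompsonA_le R hy))⟩

theorem quadOn_cj_of_le_normalizer (hA : IsMulCommutative A)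
    (hV : V ≤ Subgroup.normalizer (A : Set Ω)) {a : Ω} (ha : a ∈ A) : QuadOn V (cj a) := by
  intro v hv
  have h1 : v⁻¹ * cj a v ∈ A := by
    have := A.mul_mem (conj_inv_mem_of_mem_normalizer (hV hv) ha) (A.inv_mem ha)
    simpa [mul_assoc] using this
  rw [cj_apply a (_ * _), H2.comm_of_isMulCommutative hA ha h1, mul_inv_cancel_right]

/-- If `J(N_S(J(R))) ≤ R` then `J(R) = J(S)`. -/
theorem thompsonA_eq_of_normalizerIn [Fact p.Prime] [Finite S] (hS : IsPGroup p S) (hR : R ≤ S)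
    (h : thompsonSubgroupAOf (normalizerIn S (thompsonSubgroupAOf R)) ≤ R) :
    thompsonSubgroupAOf R = thompsonSubgroupAOf S := by
  have h1 := H2.thompsonA_eq_of_le (P := normalizerIn S (thompsonSubgroupAOf R))
    (le_inf hR (Subgroup.le_normalizer.trans (H2.normalizer_le_normalizer_thompsonA R))) h
  have h4 : normalizerIn S (thompsonSubgroupAOf R) = S := by
    refine eq_top_of_normalizerIn_le hS inf_le_left fun g hg => ⟨hg.1, ?_⟩
    have := H2.normalizer_le_normalizer_thompsonA _ hg.2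
    rwa [← h1] at this
  rwa [h4] at h1

/-- `F` is generated by `C_F(℧¹ Z(S))` and `N_F(J(S))`. -/
theorem closed_of_agemo_thompson [Fact p.Prime] [Finite S] (hF : F.IsSaturated p)
    (hS : IsPGroup p S) {M : Subgroup Ω → Perm Ω → Prop} (hM : Closed F M)
    (hC : ∀ P (σ : Perm Ω), F.CMap (powerClosure p 1 (zc S)) P σ → M P σ)
    (hN : ∀ P (σ : Perm Ω), F.NMap (thompsonSubgroupAOf S) P σ → M P σ) :
    ∀ P (σ : Perm Ω), F.IsMap P σ → M P σ := by
  refine closed_alperin_functor hM hF hS thompsonSubgroupAOf (fun R _ => H2.thompsonA_le R)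
    (fun R R' φ hφ => (iso_thompsonA hφ).img_eq) fun R σ hn hc hr hW hσ ih => ?_
  haveI := finite_of_le hn.le
  set U := thompsonSubgroupAOf R with hU
  have hUR : U ≤ R := H2.thompsonA_le R
  have hZ : zc S ≤ zc U := zc_le_zc_thompsonA hc
  have hZU : zc S ≤ U := hZ.trans inf_le_left
  have hVz := orbCl_le_zc (F := F) hZ
  have hVU := orbCl_le_self (F := F) hZU
  have ha := hW.isFullyAutomized hF hS
  set V := orbCl F U (zc S) with hV
  haveI : Finite (powerClosure p 1 V) := finite_of_le ((powerClosure_le p 1 V).trans (hVU.trans hUR))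
  have hst : ∀ τ, F.Iso U U τ → τ ∈ setStab (powerClosure p 1 V) := fun τ hτ =>
    mem_setStab_of_finite (HomOn.mem_powerClosure (hτ.homOn.mono hVU) (iso_mem_orbCl hZU hτ) p 1)
  have hRN : R ≤ normalizerIn S U :=
    le_inf hn.le (Subgroup.le_normalizer.trans (H2.normalizer_le_normalizer_thompsonA R))
  by_cases hY : normalizerIn S U ⊓ Subgroup.centralizer (powerClosure p 1 V : Set Ω) ≤ R
  · have hJ : U = thompsonSubgroupAOf S := by
      refine thompsonA_eq_of_normalizerIn hS hn.le ?_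
      by_cases hJC : thompsonSubgroupAOf (normalizerIn S U) ≤ Subgroup.centralizer (V : Set Ω)
      · exact le_trans (le_inf (H2.thompsonA_le _)
          (hJC.trans (Subgroup.centralizer_le (powerClosure_le p 1 V)))) hY
      obtain ⟨A, hA, hAC, hVA⟩ := exists_maxAb_quad' (isPGroup_of_le hS (normalizerIn_le S U))
        (hVU.trans (hUR.trans hRN)) (normalizerIn_le_normalizer_orbCl hW.le hZU)
        (H2.isMulCommutative_of_le (zc_isMulCommutative U) hVz) hJC
      have hAR : A ≤ R := fun a haA => hY ⟨hA.le haA, cj_mem_fixP.1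
        ((quadOn_cj_of_le_normalizer hA.comm hVA haA).mem_fixP_powerClosure hS ha hZ inf_le_right
          (F.iso_cj hW.le (hA.le haA).1 (hA.le haA).2))⟩
      exact absurd (fun a haA v hv => ((hVz hv).2 a ((hA.of_le hRN hAR).le_thompson haA)).symm) hAC
    refine hN R σ (nMap_of_le hσ.isMap (hJ ▸ hUR) (hJ ▸ hRN.trans inf_le_right) fun x hx => ?_)
    rw [← hJ] at hx ⊢
    exact (iso_thompsonA hσ).mem hx
  · obtain ⟨g, hg, hgn, hgR⟩ := exists_mem_normalizer_of_not_le hS hn.le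
      (inf_le_left.trans (normalizerIn_le S U)) (fun r hr => mem_normalizer_inf'
        (Subgroup.le_normalizer (hRN hr)) (mem_normalizer_centralizer'
          (cj_mem_setStab.1 (hst _ (F.iso_cj hW.le (hRN hr).1 (hRN hr).2))))) hY
    refine closed_of_core hM hF hS hn ih (K := fixP (powerClosure p 1 V))
      (fixP_anti ((powerClosure_le p 1 V).trans (hVU.trans hUR)))
      (fun τ hτ u hu _ => conj_mem_fixP (hst τ (iso_thompsonA hτ)) hu) (fun u hu hu' => ?_)
      hg.1.1 hgn hgR (cj_mem_fixP.2 hg.2) hσ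
    exact hC R u (cMap_of_le hu'.isMap ((powerClosure_le p 1 _).trans (hZU.trans hUR))
      (fun r hr x hx => ((powerClosure_le p 1 _ hx).2 r (hn.le hr)).symm)
      fun x hx => hu x (powerClosure_mono p 1 (le_orbCl hW.le) hx))

end Cfsg.Agent.H1
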