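import Cfsg.Agent.H1.Wt

/-!
# Pearls in groups of order `p ^ 5`
-/

set_option autoImplicit false
set_option linter.unusedSectionVars false

namespace Cfsg.Agent.H1

open Equiv Cfsg.Fus Cfsg.FusionSystem Subgroup
open scoped commutatorElement

variable {Ω : Type*} [Group Ω] {S E R N Q A B : Subgroup Ω} [Finite S] {F : FusionSystem S}
  {p : ℕ} [hp : Fact p.Prime] {g a b x y : Ω} {σ τ α β : Perm Ω} {c d : ℤ}

/-- The filtration of a subgroup, in the ambient group. -/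
abbrev fltS (S : Subgroup Ω) (r : ℕ) : Subgroup Ω := (flt S r).map S.subtype

theorem mem_fltS {r : ℕ} (x : S) : (x : Ω) ∈ fltS S r ↔ x ∈ flt S r :=
  mem_map_iff_mem S.subtype_injective

theorem fltS_le (S : Subgroup Ω) (r : ℕ) : fltS S r ≤ S := map_subtype_le _

theorem fltS_one (S : Subgroup Ω) : fltS S 1 = ⁅S, S⁆ := map_subtype_commutator S

theorem fltS_anti (S : Subgroup Ω) {r s : ℕ} (h : r ≤ s) : fltS S s ≤ fltS S r :=
  map_mono (flt_anti h)

theorem conj_mem_fltS {r : ℕ} (hx : x ∈ fltS S r) (hg : g ∈ S) :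
    x⁻¹ * (g * x * g⁻¹) ∈ fltS S (r + 1) := by
  obtain ⟨x, hx, rfl⟩ := hx
  simpa [commutatorElement_def, mul_assoc] using
    (mem_fltS _).2 (comm_mem_flt (inv_mem hx) ⟨g, hg⟩)

theorem conj_mem_fltS' {r : ℕ} (hg : g ∈ fltS S r) (hx : x ∈ S) :
    x⁻¹ * (g * x * g⁻¹) ∈ fltS S (r + 1) := by
  obtain ⟨g, hg, rfl⟩ := hg
  simpa [commutatorElement_def, mul_assoc] using
    (mem_fltS _).2 (comm_mem_symm (comm_mem_flt hg (⟨x, hx⟩ : S)⁻¹))

theorem wt_resAut (hα : F.Iso S S α) {N : Subgroup S} (x : S) :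
    Wt (resAut S α) N x c ↔ ((x : Ω) ^ c)⁻¹ * α x ∈ N.map S.subtype := by
  rw [Wt, ← mem_map_iff_mem S.subtype_injective, ← resAut_apply hα.mem_autStab]; rfl

theorem mul_card_le' (hS : IsPGroup p S) (hAB : A ≤ B) (hB : B ≤ S) (h : ¬ B ≤ A) :
    p * Nat.card A ≤ Nat.card B := by
  rw [← H8.card_mul_relIndex' hAB, mul_comm]
  exact Nat.mul_le_mul_left _ (le_relIndex' hS hB h)

theorem relIndex_eq_of_card_eq (hAB : A ≤ B) {m n : ℕ} (hA : Nat.card A = p ^ m)
    (hB : Nat.card B = p ^ (m + n)) : A.relIndex B = p ^ n := by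
  have := H8.card_mul_relIndex' hAB
  rw [hA, hB, pow_add] at this
  exact Nat.eq_of_mul_eq_mul_left (pow_pos hp.out.pos m) this

theorem card_eq_of_between (hS : IsPGroup p S) (hA : A < B) (hB : B < S) {m : ℕ}
    (h1 : Nat.card A = p ^ m) (h2 : Nat.card S = p ^ (m + 2)) : Nat.card B = p ^ (m + 1) := by
  have h3 := mul_card_le' hS hA.le hB.le hA.not_ge
  have h4 := mul_card_le' hS hB.le le_rfl hB.not_ge
  rw [h2, pow_succ'] at h4
  rw [h1, ← pow_succ'] at h3
  exact le_antisymm (Nat.le_of_mul_le_mul_left h4 hp.out.pos) h3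

theorem commutator_le_of_relIndex_sq (hn : S ≤ normalizer (A : Set Ω))
    (h : A.relIndex S = p ^ 2) : ⁅S, S⁆ ≤ A := by
  haveI := normal_subgroupOf_of_le_normalizer hn
  haveI := IsPGroup.isMulCommutative_of_card_eq_prime_sq (G := S ⧸ A.subgroupOf S) h
  exact commutator_le.2 fun x hx y hy => (comm_mem_iff_mk (D := A.subgroupOf S) (x := ⟨x, hx⟩)
    (y := ⟨y, hy⟩)).2 (mul_comm' _ _)

namespace MC5

variable (h : MC5 p S)
include h

theorem card_fltS {r : ℕ} (hr : r ≤ 4) : Nat.card (fltS S r) = p ^ (4 - r) := by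
  rw [card_map_of_injective S.subtype_injective, h.card_flt hr]

theorem fltS_four : fltS S 4 = ⊥ := card_eq_one.1 (h.card_fltS le_rfl)

theorem fltS_three : fltS S 3 = zc S := by
  rw [← map_center_eq]
  refine congrArg _ (le_antisymm (fun x hx => mem_center_iff.2 fun y => ?_)
    (h.ex.choose_spec.center_le h.ne3))
  exact (commutatorElement_eq_one_iff_mul_comm.1 (mem_bot.1 (h.lcs4 ▸ comm_mem_lcs hx y))).symm

theorem comm_one (hx : x ∈ fltS S 1) (hy : y ∈ fltS S 1) : x * y = y * x := by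
  obtain ⟨x, hx, rfl⟩ := hx
  obtain ⟨y, hy, rfl⟩ := hy
  exact congrArg Subtype.val (commutatorElement_eq_one_iff_mul_comm.1 (h.comm_lcs_one hx hy))

theorem exists_mem {r : ℕ} (hr : r ≤ 3) : ∃ x ∈ fltS S r, x ∉ fltS S (r + 1) :=
  SetLike.not_le_iff_exists.1 fun e => by
    haveI := finite_of_le (fltS_le S (r + 1))
    have := card_le_of_le e
    rw [h.card_fltS (by omega), h.card_fltS (by omega),
      Nat.pow_le_pow_iff_right hp.out.one_lt] at this
    omega

theorem relIndex_fltS {r : ℕ} (hr : r ≤ 3) : (fltS S (r + 1)).relIndex (fltS S r) = p := by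
  rw [relIndex_map_map_of_injective _ _ S.subtype_injective, h.relIndex hr]

theorem relIndex_zero : (fltS S 0).relIndex S = p := by
  simpa using relIndex_eq_of_card_eq (n := 1) (fltS_le S 0) (h.card_fltS (by omega)) h.card

/-- A maximal subgroup other than the two-step centraliser is not essential. -/
theorem not_essential (hi : N.relIndex S = p) (ha : a ∈ N) (ha' : a ∉ fltS S 0) :
    ¬ F.IsEssential p N := fun hN => by
  have hS := h.pg
  have h1 : fltS S 1 ≤ N := fltS_one S ▸ commutator_le_of_relIndex hS hN.le hi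
  have hne : ¬ S ≤ N := fun e => hp.out.one_lt.ne' (hi.symm.trans (relIndex_eq_one.2 e))
  have h2 : fltS S 0 ⊓ N = fltS S 1 := (eq_or_eq_of_relIndex (le_inf (fltS_anti S (by omega)) h1)
    inf_le_left (h.relIndex_fltS (by omega))).resolve_right fun e => hne (by
      rw [← sup_zpowers_eq (fltS_le S 0) h.relIndex_zero (hN.le ha) ha']
      exact sup_le (inf_eq_left.1 e) (zpowers_le.2 ha))
  have h3 : F.AInv N (fltS S 1) := fun τ hτ x hx => by
    have m := hτ.mem (h1 hx)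
    refine h2 ▸ ⟨by_contra fun e => ?_, m⟩
    have h4 := (h.unif (mt (mem_fltS (r := 0) ⟨_, hN.le m⟩).2 e)).card
    have h5 := (hτ.isMap.mono h1).img_le
    have h6 : (img τ (fltS S 1)).subgroupOf S ≤ centralizer {(⟨_, hN.le m⟩ : S)} := fun y hy => by
      obtain ⟨u, hu, e⟩ := (hτ.isMap.mono h1).mem_img.1 hy
      refine mem_centralizer_singleton_iff.2 (Subtype.ext ?_)
      rw [coe_mul, coe_mul, show (y : Ω) = τ u from e.symm, ← hτ.homOn.map_mul (h1 hu) (h1 hx),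
        ← hτ.homOn.map_mul (h1 hx) (h1 hu), h.comm_one hu hx]
    have h7 := (card_le_of_le h6).trans h4
    rw [card_subgroupOf_of_le h5, (hτ.isMap.mono h1).card_img, h.card_fltS (by omega),
      Nat.pow_le_pow_iff_right hp.out.one_lt] at h7
    omega
  refine hne fun g hg => hN.isCentric.mem_of_cj_mem_opStab (hN.isRadical hS) hg (mem_opStab_two hS
    (F.iso_cj hN.le hg (le_normalizer_of_relIndex hS hN.le hi hg)) h3
    (fun x hx => fltS_one S ▸ inv_conj_mem_commutator hg (hN.le hx)) fun x hx _ =>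
      commutator_le_phiF hS hN.le ?_)
  obtain ⟨c, hc, e⟩ := conj_mem_fltS hx hg
  obtain ⟨y, hy, rfl⟩ := (h.unif (mt (mem_fltS (r := 0) ⟨_, hN.le ha⟩).2 ha')).surj 1 c hc
  exact e ▸ commutator_mem_commutator (h1 ((mem_fltS y).2 hy)) ha

theorem card_normalizerIn (hQ : Q ≤ S) (hc : Nat.card Q = p ^ 3) (hn : ¬ IsMulCommutative Q) :
    Nat.card (normalizerIn S Q) = p ^ 4 := by
  haveI := finite_of_le hQ
  have hlt : Q < S := lt_of_le_of_ne hQ fun e => by
    rw [e, h.card] at hc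
    exact absurd (Nat.pow_right_injective hp.out.two_le hc) (by norm_num)
  refine card_eq_of_between h.pg (lt_normalizerIn h.pg hlt) (lt_of_le_of_ne (normalizerIn_le S Q)
    fun e => hn ?_) hc h.card
  have h1 := commutator_le_of_relIndex_sq (inf_eq_left.1 e) (relIndex_eq_of_card_eq hQ hc h.card)
  rw [← fltS_one] at h1
  rw [← eq_of_le_of_card_ge h1 (by rw [hc, h.card_fltS (by omega)])]
  exact isMulCommutative_of_comm fun x hx y hy => h.comm_one hx hy

theorem ext_four (hF : F.IsSaturated p) (hc : Nat.card N = p ^ 4) (ha : a ∈ N) (ha' : a ∉ fltS S 0)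
    (hτ : F.Iso N N τ) : ∃ α, F.Iso S S α ∧ ∀ x ∈ N, α x = τ x := by
  have hi : N.relIndex S = p := by simpa using relIndex_eq_of_card_eq (n := 1) hτ.le_left hc h.card
  exact exists_ext_top hF h.pg (h.not_essential hi ha ha') hi hτ

theorem ext_three (hF : F.IsSaturated p) (hc : Nat.card Q = p ^ 3) (hn : ¬ IsMulCommutative Q)
    (hne : ¬ F.IsEssential p Q) (ha : a ∈ Q) (ha' : a ∉ fltS S 0) (hτ : F.Iso Q Q τ) :
    ∃ α, F.Iso S S α ∧ ∀ x ∈ Q, α x = τ x := by
  have hQ := hτ.le_left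
  have h1 := h.card_normalizerIn hQ hc hn
  obtain ⟨β, b1, b2⟩ := exists_ext_step hF h.pg ⟨hQ, fun Q' hQ' => by
    obtain ⟨φ, hφ⟩ := hQ'.exists_iso
    rw [h1, h.card_normalizerIn hφ.le_right (hφ.card_eq ▸ hc) fun e => hn
      (isMulCommutative_of_comm fun x hx y hy => φ.injective (by
        rw [hφ.homOn.map_mul hx hy, hφ.homOn.map_mul hy hx,
          comm_of_isMulCommutative e _ (hφ.mem hx) _ (hφ.mem hy)]))]⟩ hne
    (by simpa using relIndex_eq_of_card_eq (n := 1) (le_normalizerIn hQ) hc h1) hτ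
  obtain ⟨α, a1, a2⟩ := h.ext_four hF h1 (le_normalizerIn hQ ha) ha' b1
  exact ⟨α, a1, fun x hx => (a2 x (le_normalizerIn hQ hx)).trans (b2 x hx)⟩

/-- The torus of a pearl. -/
theorem torus (hF : F.IsSaturated p) {r : ℕ} (hr : r ≤ 1) (sec : FSec F p E E (fltS S (r + 3)))
    (h1 : fltS S (r + 2) ≤ E) (h2 : ¬ fltS S (r + 1) ≤ E) :
    ∃ (N : Subgroup Ω) (a : Ω), a ∈ N ∧ a ∉ fltS S 0 ∧ Nat.card N = p * Nat.card E ∧ ¬ IsMulCommutative N ∧
      ∀ c d : ℤ, c * d ≡ 1 [ZMOD p] → ∃ β, F.Iso N N β ∧ ∀ α, F.Iso S S α → (∀ x ∈ N, α x = β x) →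
        (a ^ d)⁻¹ * α a ∈ fltS S 0 ∧ d ^ (r + 4) ≡ c [ZMOD p] := by
  have hE := sec.ess.le
  haveI := finite_of_le hE
  obtain ⟨g, hg, hgE⟩ := SetLike.not_le_iff_exists.1 h2
  obtain ⟨b, hb, hb'⟩ := h.exists_mem (r := r + 2) (by omega)
  have hgS := fltS_le S _ hg
  have hgn : g ∈ normalizer (E : Set Ω) := mem_normalizer_of_finite fun x hx =>
    (mul_mem_cancel_left (E.inv_mem hx)).1 (h1 (conj_mem_fltS' hg (hE hx)))
  have hbp : (⟨b, hE (h1 hb)⟩ : S) ^ p ∈ flt S (r + 3) :=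
    h.pow_mem (by omega) ((mem_fltS _).1 hb)
  obtain ⟨a, W, t⟩ := sec.exists_qTv h.pg hgS hgn hgE (h1 hb) ((mem_fltS _).2 hbp)
    (conj_mem_fltS hb hgS) fun x hx => by
      rw [sup_zpowers_eq (fltS_anti S (by omega)) (h.relIndex_fltS (by omega)) hb hb']
      exact conj_mem_fltS' hg (hE hx)
  have ha : a ∈ E := by obtain ⟨φ, hφ, rfl⟩ := t.conj; exact hφ.mem (h1 hb)
  have ha' : a ∉ fltS S 0 := fun e => t.ne (by
    simpa [commutatorElement_def, mul_assoc] using (mem_fltS _).2 (comm_mem_symm (h.hK _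
      (commutator_mem_commutator ((mem_fltS ⟨g, hgS⟩).1 hg)
        (inv_mem ((mem_fltS ⟨a, hE ha⟩).1 e))))))
  refine ⟨E ⊔ zpowers g, a, mem_sup_left ha, ha', card_sup_zp hgn hgE t.gp, fun e => t.ne (by
    simp [comm_of_isMulCommutative e g (mem_sup_right (mem_zpowers g)) a (mem_sup_left ha)]),
    fun c d hcd => ?_⟩
  obtain ⟨τ, hτ, i1, i2, -, i3⟩ := t.torus c d hcd
  obtain ⟨β, b1, b2, -⟩ := exists_ext_of_conj h.pg hF sec.ess.isCentric hgS hgn hτ i3
  refine ⟨β, b1, fun α hα e => ?_⟩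
  rw [← b2 _ ha, ← e _ (mem_sup_left ha)] at i2
  rw [← b2 _ (h1 hb), ← e _ (mem_sup_left (h1 hb))] at i1
  have h3 := fltS_anti S (Nat.zero_le _) i2
  exact ⟨h3, (h.wt (mt (mem_fltS (r := 0) ⟨a, hE ha⟩).2 ha') ((wt_resAut hα _).2 h3) (by omega)
    ((mem_fltS ⟨b, hE (h1 hb)⟩).1 hb)).uniq ((wt_resAut hα _).2 i1) (mt (mem_fltS _).2 hb') hbp⟩

theorem not_extraspecial (hF : F.IsSaturated p) (hp2 : p ≠ 2) (hc : Nat.card E = p ^ 3)
    (hn : ¬ IsMulCommutative E) : ¬ F.IsEssential p E := fun hE => by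
  haveI := finite_of_le hE.le
  have hS := h.pg
  obtain ⟨c, hz⟩ := cls2_of_card (isPGroup_of_le hS hE.le) hc hn
  have hZ : fltS S 3 = zc E := eq_of_card_prime (h.fltS_three ▸ zc_le_zc_of_centric hE.isCentric)
    hz fun e => by
      have := h.card_fltS (r := 3) (by omega)
      rw [e, card_bot] at this
      exact hp.out.one_lt.ne (by simpa using this)
  have hC : ⁅E, E⁆ = zc E := eq_of_card_prime c.commutator_le hz fun e =>
    hn (isMulCommutative_of_comm fun x hx y hy => commutatorElement_eq_one_iff_mul_comm.1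
      (mem_bot.1 (e ▸ commutator_mem_commutator hx hy)))
  have h1 : fltS S 2 ≤ E := fun g hg => mem_of_comm_mem_zc hS hE (fltS_le S 2 hg)
    (by rw [← hZ, h.fltS_three]) fun y hy => by
      simpa [hZ, commutatorElement_def, mul_assoc] using conj_mem_fltS' hg (hE.le (E.inv_mem hy))
  obtain ⟨N, a, ha, ha', h2, -, h3⟩ := h.torus hF (r := 0) (E := E) (by omega) (by
    rw [hZ, ← hC]
    exact ⟨hE, le_rfl, hC ▸ inf_le_left, aInv_self F E, aInv_commutator F E,
      fun _ he _ hx => inv_conj_mem_commutator he hx, fun σ hσ e => (fSec_phiF hS hE).ker σ hσ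
        fun x hx => commutator_le_phiF hS hE.le (e x hx)⟩) h1 fun e => hn (by
    rw [← eq_of_le_of_card_ge e (by rw [hc, h.card_fltS (by omega)])]
    exact isMulCommutative_of_comm fun x hx y hy => h.comm_one hx hy)
  obtain ⟨β, b1, b2⟩ := h3 (-1) (-1) (by simp)
  obtain ⟨α, a1, a2⟩ := h.ext_four hF (by rw [h2, hc, ← pow_succ']) ha ha' b1
  exact not_neg_one_modEq hp2 (by simpa using (b2 α a1 a2).2.symm)

theorem abelian_pearl (hF : F.IsSaturated p) (hp2 : p ≠ 2) (hE : F.IsEssential p E)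
    (hc : Nat.card E = p ^ 2) : ∃ a ∈ S, a ∉ fltS S 0 ∧ ∀ c d : ℤ, c * d ≡ 1 [ZMOD p] →
      ∃ α, F.Iso S S α ∧ (a ^ d)⁻¹ * α a ∈ fltS S 0 ∧ d ^ 5 ≡ c [ZMOD p] := by
  haveI := finite_of_le hE.le
  have cE := comm_of_isMulCommutative (IsPGroup.isMulCommutative_of_card_eq_prime_sq hc)
  obtain ⟨N, a, ha, ha', h2, h3, h4⟩ := h.torus hF (r := 1) (E := E) le_rfl (by
    rw [h.fltS_four]
    exact ⟨hE, le_rfl, bot_le, aInv_self F E, aInv_bot F E, fun e he x hx => by simp [cE e he x hx],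
      fun σ _ h => fixP_le_innS E E fun x hx => (inv_mul_eq_one.1 (h x hx)).symm⟩)
    (h.fltS_three ▸ centric_zc_le hE.isCentric) fun e => by
      have h1 := eq_of_le_of_card_ge e (by rw [hc, h.card_fltS (by omega)])
      obtain ⟨x, hx, hx'⟩ := h.exists_mem (r := 1) (by omega)
      exact hx' (h1 ▸ hE.isCentric.centralizerIn_le ⟨fltS_le S 1 hx, fun y hy =>
        h.comm_one (fltS_anti S (by omega) (h1 ▸ hy :)) hx⟩)
  rw [hc, ← pow_succ'] at h2
  obtain ⟨β, b1, -⟩ := h4 1 1 (by simp)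
  refine ⟨a, b1.le_left ha, ha', fun c d hcd => ?_⟩
  obtain ⟨β, b1, b2⟩ := h4 c d hcd
  obtain ⟨α, a1, a2⟩ := h.ext_three hF h2 h3 (h.not_extraspecial hF hp2 h2 h3) ha ha' b1
  exact ⟨α, a1, b2 α a1 a2⟩

theorem not_pearl (hF : F.IsSaturated p) (hp2 : p ≠ 2) (hp7 : p ≠ 7) (hfoc : S ≤ F.focalSubgroup)
    (hc : Nat.card E = p ^ 2) : ¬ F.IsEssential p E := fun hE => by
  have hS := h.pg
  obtain ⟨a, ha, ha', h1⟩ := h.abelian_pearl hF hp2 hE hc
  obtain rfl : p = 3 := by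
    obtain ⟨c, hc⟩ := exists_half hp2
    obtain ⟨-, -, -, h2⟩ := h1 c 2 (mul_comm 2 c ▸ hc)
    have h3 : p ∣ 3 * 3 * 7 := by
      have : (p : ℤ) ∣ 63 := ((h2.mul_left 2).trans hc).symm.dvd
      exact_mod_cast this
    rcases (Nat.Prime.dvd_mul hp.out).1 h3 with e | e
    · exact (Nat.prime_dvd_prime_iff_eq hp.out Nat.prime_three).1
        (((Nat.Prime.dvd_mul hp.out).1 e).elim id id)
    · exact absurd ((Nat.prime_dvd_prime_iff_eq hp.out (by norm_num)).1 e) hp7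
  obtain ⟨z, hz, z1, -⟩ := h1 (-1) (-1) (by simp)
  have hi : F.AInv S (fltS S 0) := by
    rintro τ hτ _ ⟨x, hx, rfl⟩
    exact ⟨_, map_mem_flt (resAut S τ) 0 x hx, resAut_apply hτ.mem_autStab x⟩
  have ha0 := mt (mem_fltS (r := 0) ⟨a, ha⟩).2 ha'
  obtain ⟨V, hV⟩ := exists_negSp hz (fltS_one S ▸ fltS_anti S (Nat.zero_le 1))
  obtain ⟨x, hx, hx'⟩ := h.exists_mem (r := 0) (by omega)
  refine hx' (fltS_one S ▸ le_commutator_of_inv hF hS hp2 hfoc (fun R hR => hasTv_of_rank_two hS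
    (hR.lt hF hS) ?_) (fltS_le S 0) hi hz (fun x hx => ((hV x).1 ?_).2) (fun σ hσ y hy => ?_) hx)
  · have := h.ex.choose_spec.card_le_frattini_three h.ne3 (R.subgroupOf S)
    rwa [card_subgroupOf_of_le hR.le, card_map_of_injective (subtype_injective _),
      ← card_map_of_injective (f := (subgroupOfEquivOfLe hR.le : R.subgroupOf S →* R))
        (subgroupOfEquivOfLe hR.le).injective, map_equiv_frattini,
      ← card_map_of_injective R.subtype_injective] at this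
  · rw [← sup_zpowers_eq (fltS_le S 0) h.relIndex_zero ha ha'] at hx
    exact sup_le (fun y hy => (hV y).2 ⟨fltS_le S 0 hy, mul_mem hy (hi z hz y hy)⟩)
      (zpowers_le.2 ((hV a).2 ⟨ha, by simpa using z1⟩)) hx
  · obtain ⟨y, hy, rfl⟩ := hy
    obtain ⟨c, hc⟩ := exists_wt (α := resAut S σ) (N := tsc S) (x := ⟨a, ha⟩)
      (h.sup_top ha0 ▸ mem_top _)
    have := (h.wt ha0 hc (Nat.zero_le 3) hy).congr (h.pow_mem (Nat.zero_le 3) hy)
      (sq_modEq_one_three (hc.not_dvd (map_mem_flt _ 0) ha0 (h.pow_mem_tsc _)))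
    simpa [← fltS_one] using (wt_resAut hσ y).1 this

end MC5

end Cfsg.Agent.H1
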