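import Cfsg.Agent.H1.Wt

/-!
# Groups of order `p ^ 5` with a non-normal elementary abelian subgroup of order `p ^ 3`
-/

set_option autoImplicit false
set_option linter.unusedSectionVars false

namespace Cfsg.Agent.H1

open Cfsg.Fus Subgroup
open scoped commutatorElement

variable {G : Type*} [Group G] {p : ℕ} [hp : Fact p.Prime] {α : G ≃* G}
  {Y D N : Subgroup G} {t a w b x y : G} {c d : ℤ}

theorem normal_of_comm_mem (h : ∀ x ∈ N, ∀ g, ⁅x, g⁆ ∈ N) : N.Normal := ⟨fun x hx g => by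
  simpa [commutatorElement_def, mul_assoc] using N.mul_mem (comm_mem_symm (h x hx g)) hx⟩

theorem comm_sup_zp [D.Normal] (h1 : ∀ a ∈ N, ⁅a, t⁆ ∈ D) (h2 : ⁅x, t⁆ ∈ D) :
    ∀ s ∈ N ⊔ zpowers x, ⁅s, t⁆ ∈ D :=
  comm_mem_of_sup_zpowers (normal_le_normalizer _ _) (normal_le_normalizer _ ⊤ trivial) h1 h2

theorem map_mem_sup_zp (h1 : ∀ x ∈ N, α x ∈ D) (h2 : α x ∈ D) : ∀ s ∈ N ⊔ zpowers x, α s ∈ D :=
  fun _ hs => (sup_le h1 (zpowers_le.2 h2) : N ⊔ zpowers x ≤ D.comap (α : G →* G)) hs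

theorem relIndex_sup_zp [N.Normal] (hx : x ∉ N) (hxp : x ^ p ∈ N) :
    N.relIndex (N ⊔ zpowers x) = p :=
  relIndex_sup_zpowers (normal_le_normalizer _ ⊤ trivial) hx hxp

/-- The structure of the group. -/
structure TI (p : ℕ) (Y D N : Subgroup G) (t a w b : G) : Prop where
  pg : IsPGroup p G
  b1 : b ≠ 1
  bp : b ^ p = 1
  bz : b ∈ center G
  eY : zpowers b ⊔ zpowers w = Y
  w1 : w ∉ zpowers b
  wp : w ^ p = 1
  cY : ∀ y ∈ Y, ∀ g, ⁅y, g⁆ ∈ zpowers b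
  cYN : ∀ y ∈ Y, ∀ n ∈ N, ⁅y, n⁆ = 1
  eD : Y ⊔ zpowers ⁅t, a⁆ = D
  g1 : ⁅t, a⁆ ∉ Y
  cD : ∀ d ∈ D, ∀ g, ⁅d, g⁆ ∈ Y
  eN : D ⊔ zpowers a = N
  a1 : a ∉ D
  ap : a ^ p = 1
  cN : ∀ n ∈ N, ∀ g, ⁅n, g⁆ ∈ D
  cNN : ∀ n ∈ N, ∀ m ∈ N, ⁅n, m⁆ ∈ zpowers b
  top : N ⊔ zpowers t = ⊤
  t1 : t ∉ N
  tp : t ^ p ∈ N
  ne : ⁅⁅t, a⁆, a⁆ ≠ 1

namespace TI

variable [Finite G] (h : TI p Y D N t a w b)
include h

theorem cB (hx : x ∈ zpowers b) (g : G) : ⁅x, g⁆ = 1 :=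
  commutatorElement_eq_one_iff_mul_comm.2 (mem_center_iff.1 (zpowers_le.2 h.bz hx) g).symm

theorem BY : zpowers b ≤ Y := h.eY ▸ le_sup_left
theorem YD : Y ≤ D := h.eD ▸ le_sup_left
theorem DN : D ≤ N := h.eN ▸ le_sup_left
theorem wY : w ∈ Y := h.eY ▸ mem_sup_right (mem_zpowers w)
theorem gD : ⁅t, a⁆ ∈ D := h.eD ▸ mem_sup_right (mem_zpowers _)
theorem aN : a ∈ N := h.eN ▸ mem_sup_right (mem_zpowers a)
theorem nB : (zpowers b).Normal := normal_of_comm_mem fun _ hx g => h.cB hx g ▸ one_mem _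
theorem nY : Y.Normal := normal_of_comm_mem fun x hx g => h.BY (h.cY x hx g)
theorem nD : D.Normal := normal_of_comm_mem fun x hx g => h.YD (h.cD x hx g)
theorem nN : N.Normal := normal_of_comm_mem fun x hx g => h.DN (h.cN x hx g)

theorem powB (hx : x ∈ zpowers b) : x ^ p = 1 := by
  obtain ⟨k, rfl⟩ := hx
  rw [← zpow_natCast, zpow_comm, zpow_natCast, h.bp, one_zpow]

theorem cardB : Nat.card (zpowers b) = p := by
  rw [Nat.card_zpowers, orderOf_eq_prime h.bp h.b1]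

theorem gp : ⁅t, a⁆ ^ p ∈ zpowers b := by
  haveI := h.nB
  have mk : ∀ u v : G, ((⁅u, v⁆ : G) : G ⧸ zpowers b) = ⁅(u : G ⧸ zpowers b), (v : G ⧸ zpowers b)⁆ :=
    fun u v =>
    map_commutatorElement (QuotientGroup.mk' _) u v
  rw [← QuotientGroup.eq_one_iff, QuotientGroup.mk_pow, mk, ← zpow_natCast,
    ← comm_zpow_right (mk t a ▸ comm_mem_iff_mk.1 (h.cNN _ (h.DN h.gD) _ h.aN)), zpow_natCast,
    ← QuotientGroup.mk_pow, h.ap]
  simp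

theorem wtB (hc : Wt α ⊥ x c) (hx : x ∈ zpowers b) (h1 : x ≠ 1) (hy : y ∈ zpowers b) :
    Wt α ⊥ y c := by
  obtain ⟨k, rfl⟩ := exists_zpow_eq_of_prime h.bp hx h1 hy
  exact hc.zpow k

theorem uniqB (hc : Wt α ⊥ x c) (hd : Wt α ⊥ y d) (hx : x ∈ zpowers b) (h1 : x ≠ 1)
    (hy : y ∈ zpowers b) (h2 : y ≠ 1) : c ≡ d [ZMOD p] :=
  (h.wtB hc hx h1 hy).uniq hd h2 (h.powB hy)

theorem wts (h1 : α b = b ^ c) (h2 : α a = a ^ d) (h3 : α w = w) :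
    ∃ e, e * d * d ≡ c [ZMOD p] ∧ (⁅⁅t, a⁆, t⁆ ∉ zpowers b → e * d * e ≡ 1 [ZMOD p]) ∧
      (⁅w, t⁆ ≠ 1 → e ≡ c [ZMOD p]) := by
  haveI := h.nB; haveI := h.nY; haveI := h.nN
  have iB : ∀ x ∈ zpowers b, α x ∈ zpowers b := by
    rintro _ ⟨k, rfl⟩
    rw [map_zpow, h1]; exact zpow_mem (zpow_mem_zpowers b c) k
  obtain ⟨e, he⟩ := exists_wt (α := α) (N := N) (x := t) (h.top ▸ mem_top _)
  have w1 : Wt α Y ⁅t, a⁆ (e * d) := he.comm (B := ⊥) (wt_of_eq h2) (mem_top t) h.aN bot_le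
    (fun x hx y hy => h.BY (h.cNN x hx y hy)) (fun u _ y hy => by simp [mem_bot.1 hy])
    fun u _ g => h.cD _ (comm_mem_symm (h.cN a h.aN u)) g
  have w2 : Wt α ⊥ ⁅⁅t, a⁆, a⁆ (e * d * d) := w1.comm (B := ⊥) (wt_of_eq h2) (h.DN h.gD) h.aN
    bot_le h.cYN (fun u _ y hy => by simp [mem_bot.1 hy]) fun u hu g => h.cB (h.cNN u hu a h.aN) g
  have wb : Wt α ⊥ b c := wt_of_eq h1
  have ww : α w = w ^ (1 : ℤ) := by rwa [zpow_one]
  refine ⟨e, h.uniqB w2 wb (h.cNN _ (h.DN h.gD) a h.aN) h.ne (mem_zpowers b) h.b1, fun hn => ?_,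
    fun hn => ?_⟩
  · have m := h.cD _ h.gD t
    have w3 : Wt α (zpowers b) ⁅⁅t, a⁆, t⁆ (e * d * e) := w1.comm he h.gD (mem_top t) le_top
      (fun y hy v _ => h.cY y hy v) (fun u hu n hn => h.cNN u (h.DN hu) n hn)
      fun u hu g => h.cY _ (h.cD u hu t) g
    refine w3.uniq ((wt_of_eq ww).of_mem iB (h.eY ▸ m)) hn (pow_mem_of_relIndex
      (normal_le_normalizer _ _) (relIndex_sup_zp h.w1 (h.wp ▸ one_mem _)) (h.eY ▸ m))
  · have w4 : Wt α ⊥ ⁅w, t⁆ (1 * e) := (wt_of_eq (N := ⊥) ww).comm he h.wY (mem_top t) le_top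
      (fun y hy v _ => by simp [mem_bot.1 hy]) h.cYN fun u hu g => h.cB (h.cY u hu t) g
    simpa using h.uniqB w4 wb (h.cY w h.wY t) hn (mem_zpowers b) h.b1

theorem cDB (hg : ⁅⁅t, a⁆, t⁆ ∈ zpowers b) : ∀ d ∈ D, ∀ g, ⁅d, g⁆ ∈ zpowers b := fun d hd g => by
  haveI := h.nB
  exact comm_sup_zp (fun y hy => h.cY y hy g) (comm_mem_symm (comm_sup_zp (fun n hn => h.cNN n hn _
    (h.DN h.gD)) (comm_mem_symm hg) g (h.top ▸ mem_top g))) d (h.eD ▸ hd)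

theorem aC : a ∉ centralizer {⁅t, a⁆} := fun e =>
  h.ne (commutatorElement_eq_one_iff_mul_comm.2 (mem_centralizer_singleton_iff.1 e).symm)

theorem DC : D ≤ centralizer {⁅t, a⁆} := h.eD ▸ sup_le (fun y hy => mem_centralizer_singleton_iff.2
  (commutatorElement_eq_one_iff_mul_comm.1 (h.cYN y hy _ (h.DN h.gD))))
  (zpowers_le.2 (mem_centralizer_singleton_iff.2 rfl))

theorem cDD (hx : x ∈ D) (hy : y ∈ D) : x * y = y * x :=
  comm_sup_zpowers (A := Y) (fun x hx y hy => commutatorElement_eq_one_iff_mul_comm.1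
    (h.cYN x hx y (h.DN (h.YD hy)))) (fun y hy => (commutatorElement_eq_one_iff_mul_comm.1
    (h.cYN y hy _ (h.DN h.gD))).symm) x (h.eD ▸ hx) y (h.eD ▸ hy)

theorem idxN : N.index = p := by
  haveI := h.nN
  rw [← relIndex_top_right, ← h.top, relIndex_sup_zp h.t1 h.tp]

theorem idxD : D.relIndex N = p := by
  haveI := h.nD
  rw [← h.eN, relIndex_sup_zp h.a1 (h.ap ▸ one_mem _)]

theorem idxC (hD : ∀ d ∈ D, ∀ g, ⁅d, g⁆ ∈ zpowers b) : (centralizer {⁅t, a⁆}).index = p ∧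
    ∃ u, u ∉ D ∧ u ∉ N ∧ D ⊔ zpowers u = centralizer {⁅t, a⁆} := by
  have h1 : (centralizer {⁅t, a⁆}).index = p := by
    rw [← relIndex_top_right]
    exact relIndex_eq_of_le (h.pg.to_subgroup ⊤) le_rfl ((comm_count fun y _ =>
      comm_mem_symm (hD _ h.gD y)).1.trans h.cardB.le) fun e => h.aC (e trivial)
  have h2 := relIndex_mul_index h.DC
  rw [← relIndex_mul_index h.DN, h.idxN, h.idxD, h1] at h2
  have h3 := Nat.eq_of_mul_eq_mul_right hp.out.pos h2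
  obtain ⟨u, hu, hu'⟩ := SetLike.not_le_iff_exists.1 fun e =>
    hp.out.one_lt.ne' (h3.symm.trans (relIndex_eq_one.2 e))
  exact ⟨h1, u, hu', fun e => h.aC (sup_le h.DC (zpowers_le.2 hu)
    ((sup_zpowers_eq h.DN h.idxD e hu').ge h.aN)), sup_zpowers_eq h.DC h3 hu hu'⟩

theorem main (hp2 : p ≠ 2) (hno : ∀ A : Subgroup G, (∀ x ∈ A, ∀ y ∈ A, x * y = y * x) → A.index ≠ p)
    (tor : ∀ c d : ℤ, c * d ≡ 1 [ZMOD p] → ∃ α : G ≃* G, α b = b ^ c ∧ α a = a ^ d ∧ α w = w) :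
    p = 3 ∧ (∀ d ∈ D, ∀ g, ⁅d, g⁆ ∈ zpowers b) ∧ ⁅w, t⁆ ≠ 1 := by
  have h1 : ⁅⁅t, a⁆, t⁆ ∈ zpowers b := by
    by_contra hn
    obtain ⟨α, a1, a2, a3⟩ := tor (-1) (-1) (by simp)
    obtain ⟨e, e1, e2, -⟩ := h.wts a1 a2 a3
    have e3 : e ≡ -1 [ZMOD p] := by simpa using e1
    exact not_neg_one_modEq hp2 (by simpa using ((e3.mul_right (-1)).mul e3).symm.trans (e2 hn))
  have hD := h.cDB h1
  have h2 : ⁅w, t⁆ ≠ 1 := fun e => by
    obtain ⟨h3, u, -, -, h4⟩ := h.idxC hD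
    have h5 : ⁅w, u⁆ = 1 := mem_bot.1 (comm_mem_symm (comm_sup_zp (D := ⊥) (fun n hn =>
      comm_mem_symm (h.cYN w h.wY n hn)) (comm_mem_symm e) u (h.top ▸ mem_top u)))
    refine hno _ (h4 ▸ comm_sup_zpowers (fun x hx y hy => h.cDD hx hy) fun d hd =>
      (commutatorElement_eq_one_iff_mul_comm.1 (mem_bot.1 ?_)).symm) h3
    exact comm_sup_zp (D := ⊥) (h.eY ▸ comm_sup_zp (D := ⊥) (fun x hx => h.cB hx u) h5)
      (commutatorElement_eq_one_iff_mul_comm.2 (mem_centralizer_singleton_iff.1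
        (h4.le (mem_sup_right (mem_zpowers u)))).symm) d (h.eD ▸ hd)
  refine ⟨?_, hD, h2⟩
  obtain ⟨d, hd⟩ := exists_half hp2
  obtain ⟨α, a1, a2, a3⟩ := tor 2 d hd
  obtain ⟨e, e1, -, e2⟩ := h.wts a1 a2 a3
  have e3 : d ≡ 2 [ZMOD p] := by
    simpa using (hd.mul_right d).symm.trans ((((e2 h2).mul_right d).mul_right d).symm.trans e1)
  have e4 : (p : ℤ) ∣ 3 := ((e3.mul_left 2).symm.trans hd).symm.dvd
  exact (Nat.prime_dvd_prime_iff_eq hp.out Nat.prime_three).1 (by exact_mod_cast e4)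

section Three

variable (hD : ∀ d ∈ D, ∀ g, ⁅d, g⁆ ∈ zpowers b) (hw : ⁅w, t⁆ ≠ 1)
include hD

theorem not_comm (hx : x ∉ N) : ⁅x, a⁆ ∉ zpowers b := fun e => by
  haveI := h.nB
  exact h.g1 (h.BY (comm_sup_zp (fun n hn => h.cNN n hn a h.aN) e t
    ((sup_zpowers_eq le_top (by rw [relIndex_top_right, h.idxN]) trivial hx).ge trivial)))

theorem lcs_eq : lcs G 1 = zpowers b ⊔ zpowers ⁅t, a⁆ := by
  have hle : zpowers b ⊔ zpowers ⁅t, a⁆ ≤ D := sup_le (h.BY.trans h.YD) (zpowers_le.2 h.gD)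
  haveI : (zpowers b ⊔ zpowers ⁅t, a⁆).Normal :=
    normal_of_comm_mem fun x hx g => mem_sup_left (hD x (hle hx) g)
  refine le_antisymm ?_ (sup_le (fun x hx => ?_) (zpowers_le.2 (comm_mem_lcs (k := 0) trivial a)))
  · show ⁅(⊤ : Subgroup G), ⊤⁆ ≤ _
    rw [← h.top]
    refine commutator_sup_zpowers_le (normal_le_normalizer _ _) (normal_le_normalizer _ ⊤ trivial)
      (fun x hx y hy => mem_sup_left (h.cNN x hx y hy)) fun n hn => comm_mem_symm ?_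
    exact comm_sup_zp (fun d hd => mem_sup_left (hD d hd t))
      (comm_mem_symm (mem_sup_right (mem_zpowers _))) n (h.eN ▸ hn)
  · obtain ⟨k, rfl⟩ := exists_zpow_eq_of_prime h.bp (hD _ h.gD a) h.ne hx
    exact zpow_mem (comm_mem_lcs (k := 0) trivial a) k

theorem idxK : (zpowers b).relIndex (lcs G 1) = p := by
  haveI := h.nB
  rw [h.lcs_eq hD, relIndex_sup_zp (fun e => h.g1 (h.BY e)) h.gp]

theorem BK : zpowers b ≤ lcs G 1 := h.lcs_eq hD ▸ le_sup_left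

theorem KD : lcs G 1 ≤ D := h.lcs_eq hD ▸ sup_le (h.BY.trans h.YD) (zpowers_le.2 h.gD)

theorem wK : w ∉ lcs G 1 := fun e => h.g1 (h.eY ▸ (sup_zpowers_eq (h.BK hD) (h.idxK hD) e h.w1).ge
  (comm_mem_lcs (k := 0) trivial a))

theorem eD' : lcs G 1 ⊔ zpowers w = D := by
  rw [h.lcs_eq hD, sup_right_comm, h.eY, h.eD]

theorem cKC (hx : x ∈ lcs G 1) (hy : y ∈ centralizer {⁅t, a⁆}) : ⁅x, y⁆ = 1 :=
  comm_sup_zp (D := ⊥) (fun x hx => h.cB hx y) (commutatorElement_eq_one_iff_mul_comm.2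
    (mem_centralizer_singleton_iff.1 hy).symm) x (h.lcs_eq hD ▸ hx)

theorem invC (α : G ≃* G) : ∀ x ∈ centralizer {⁅t, a⁆}, α x ∈ centralizer {⁅t, a⁆} := fun x hx => by
  have := congrArg α (h.cKC hD (char_mem _ α.symm _ (comm_mem_lcs (k := 0) (mem_top t) a)) hx)
  rw [map_commutatorElement, α.apply_symm_apply, map_one] at this
  exact mem_centralizer_singleton_iff.2 (commutatorElement_eq_one_iff_mul_comm.1 this).symm

include hw

theorem center_eq : center G = zpowers b := by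
  haveI := h.nB
  refine (eq_or_eq_of_relIndex (zpowers_le.2 h.bz) (fun x hx => ?_) (h.eY ▸ relIndex_sup_zp h.w1
    (h.wp ▸ one_mem _))).resolve_right fun e => hw (commutatorElement_eq_one_iff_mul_comm.2
      (mem_center_iff.1 (e ▸ h.wY) t).symm)
  have hx' : ∀ g : G, ⁅x, g⁆ = 1 := fun g =>
    commutatorElement_eq_one_iff_mul_comm.2 (mem_center_iff.1 hx g).symm
  have h1 : x ∈ N := by_contra fun e => h.not_comm hD e (hx' a ▸ one_mem _)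
  have h2 : x ∈ D := by_contra fun e => h.aC (sup_le h.DC (zpowers_le.2
    (mem_centralizer_singleton_iff.2 (mem_center_iff.1 hx _).symm))
    ((sup_zpowers_eq h.DN h.idxD h1 e).ge h.aN))
  haveI := h.nY
  by_contra e
  exact h.ne (comm_sup_zp (D := ⊥) (fun y hy => h.cYN y hy a h.aN) (hx' a) _
    ((sup_zpowers_eq h.YD (h.eD ▸ relIndex_sup_zp h.g1 (h.BY h.gp)) h2 e).ge h.gD))

theorem invD (α : G ≃* G) : ∀ x ∈ D, α x ∈ D := fun x hx => by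
  haveI := h.nB
  have h1 : ∀ g, ⁅α x, g⁆ ∈ zpowers b := fun g => by
    have := char_mem (center G) α _ (h.center_eq hD hw ▸ hD x hx (α.symm g))
    rwa [map_commutatorElement, α.apply_symm_apply, h.center_eq hD hw] at this
  have h2 : α x ∈ N := by_contra fun e => h.not_comm hD e (h1 a)
  by_contra e
  exact h.g1 (h.BY (comm_mem_symm (comm_sup_zp (fun d hd => hD d hd t) (h1 t) a
    ((sup_zpowers_eq h.DN h.idxD h2 e).ge h.aN))))

theorem wts' (α : G ≃* G) : ∃ u, ∃ l m n : ℤ, D ⊔ zpowers u ⊔ zpowers a = ⊤ ∧ Wt α D u l ∧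
    Wt α (centralizer {⁅t, a⁆}) a m ∧ Wt α (lcs G 1) w n ∧ ¬ (p : ℤ) ∣ m ∧ n ≡ m ^ 2 [ZMOD p] ∧
    Wt α ⊥ b (l * m ^ 2) ∧ (centralizer {⁅t, a⁆}).Normal ∧ a ^ p = 1 ∧ u ^ p ∈ D := by
  haveI := h.nB; haveI := h.nD
  obtain ⟨h1, u, u1, u2, u3⟩ := h.idxC hD
  have h1' : (centralizer {⁅t, a⁆}).relIndex ⊤ = p := by rwa [relIndex_top_right]
  have uC := u3.le (mem_sup_right (mem_zpowers u))
  haveI nC : (centralizer {⁅t, a⁆}).Normal := normal_of_comm_mem fun x _ g =>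
    h.DC (h.KD hD (comm_mem_lcs (k := 0) trivial g))
  have h2 := sup_zpowers_eq le_top h1' trivial h.aC
  have up : u ^ p ∈ D := by
    have := relIndex_mul_index h.DC
    rw [← relIndex_mul_index h.DN, h.idxN, h.idxD, h1] at this
    exact pow_mem_of_relIndex (normal_le_normalizer _ _)
      (Nat.eq_of_mul_eq_mul_right hp.out.pos this) uC
  obtain ⟨l, hl⟩ := exists_wt (α := α) (N := D) (x := u) (u3 ▸ h.invC hD α u uC)
  obtain ⟨m, hm⟩ := exists_wt (α := α) (N := centralizer {⁅t, a⁆}) (x := a) (h2 ▸ mem_top _)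
  obtain ⟨n, hn⟩ := exists_wt (α := α) (N := lcs G 1) (x := w)
    (h.eD' hD ▸ h.invD hD hw α w (h.YD h.wY))
  have g1 : ⁅u, a⁆ ∈ lcs G 1 := comm_mem_lcs (k := 0) trivial a
  have w1 : Wt α (zpowers b) ⁅u, a⁆ (l * m) := hl.comm hm uC (mem_top a) le_top
    (fun d hd v _ => hD d hd v) (fun x hx y hy => commutator_sup_zpowers_le
      (normal_le_normalizer _ _) (normal_le_normalizer _ ⊤ trivial) (fun d hd v _ => hD d hd v)
      (fun d hd => comm_mem_symm (hD d hd u)) (commutator_mem_commutator (u3 ▸ hx) (u3 ▸ hy)))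
    fun x _ g => hD _ (h.KD hD (comm_mem_lcs (k := 0) trivial a)) g
  have w2 : Wt α ⊥ ⁅⁅u, a⁆, a⁆ (l * m * m) := w1.comm hm g1 (mem_top a) le_top
    (fun x hx v _ => h.cB hx v) (fun x hx y hy => h.cKC hD hx hy)
    fun x hx g => h.cB (hD x (h.KD hD hx) a) g
  have w3 : Wt α ⊥ ⁅w, u⁆ (n * l) := hn.comm hl (h.YD h.wY) uC h.DC
    (fun x hx y hy => h.cKC hD hx hy)
    (fun x hx y hy => commutatorElement_eq_one_iff_mul_comm.2 (h.cDD hx hy))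
    fun x hx g => h.cB (hD x hx u) g
  have n2 : ⁅⁅u, a⁆, a⁆ ≠ 1 := fun e => h.ne (comm_sup_zp (D := ⊥) (fun x hx => h.cB hx a) e _
    ((sup_zpowers_eq (h.BK hD) (h.idxK hD) g1 (h.not_comm hD u2)).ge
      (comm_mem_lcs (k := 0) trivial a)))
  have n3 : ⁅w, u⁆ ≠ 1 := fun e => hw (mem_bot.1 (comm_mem_symm (comm_sup_zp (D := ⊥)
    (fun n hn => comm_mem_symm (h.cYN w h.wY n hn)) (comm_mem_symm e) t
    ((sup_zpowers_eq le_top (by rw [relIndex_top_right, h.idxN]) trivial u2).ge trivial))))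
  have m2 := hD _ (h.KD hD g1) a
  refine ⟨u, l, m, n, u3 ▸ h2, hl, hm, hn, hm.not_dvd (h.invC hD α) h.aC (h.ap ▸ one_mem _),
    modEq_cancel (hl.not_dvd (h.invD hD hw α) u1 up) ?_, ?_, nC, h.ap, up⟩
  · convert h.uniqB w3 w2 (hD w (h.YD h.wY) u) n3 m2 n2 using 1; ring
  · convert h.wtB w2 m2 n2 (mem_zpowers b) using 1; ring

theorem wt_neg (h1 : α b = b ^ (-1 : ℤ)) (h2 : α a = a ^ (-1 : ℤ)) (x : G) : x * α x ∈ D := by
  haveI := h.nD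
  obtain ⟨u, l, m, n, e, hl, hm, -, -, -, hb, _, -, up⟩ := h.wts' hD hw α
  have e1 : m ≡ -1 [ZMOD p] := hm.uniq (wt_of_eq h2) h.aC (h.ap ▸ one_mem _)
  have e2 : l ≡ -1 [ZMOD p] := by
    simpa using ((e1.pow 2).mul_left l).symm.trans (hb.uniq (wt_of_eq h1) h.b1 h.bp)
  haveI : (D ⊔ zpowers u).Normal := normal_of_comm_mem fun x _ g =>
    mem_sup_left (h.KD hD (comm_mem_lcs (k := 0) trivial g))
  obtain ⟨y, hy, k, rfl⟩ := (mem_sup_zpowers (normal_le_normalizer _ ⊤ trivial)).1 (e.ge (mem_top x))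
  simpa [Wt] using ((hl.congr up e2).of_mem (h.invD hD hw α) hy).mul ((wt_of_eq h2).zpow k)
    (h.KD hD (comm_mem_lcs (k := 0) trivial _))

end Three

theorem wt_one [Fact (Nat.Prime 3)] (h : TI 3 Y D N t a w b)
    (hD : ∀ d ∈ D, ∀ g, ⁅d, g⁆ ∈ zpowers b) (hw : ⁅w, t⁆ ≠ 1) (α : G ≃* G) (hx : x ∈ D) :
    x⁻¹ * α x ∈ lcs G 1 := by
  obtain ⟨u, l, m, n, -, -, -, hn, h1, h2, -⟩ := h.wts' hD hw α
  simpa [Wt] using (hn.congr (h.wp ▸ one_mem _) (h2.trans (sq_modEq_one_three h1))).of_mem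
    (char_mem _ α) (h.eD' hD ▸ hx)

end TI

end Cfsg.Agent.H1
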