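import Cfsg.Agent.H1.P5a
import Cfsg.Agent.H1.P5b

/-!
# Fusion systems over groups of order `p ^ 5`
-/

set_option autoImplicit false
set_option linter.unusedSectionVars false

namespace Cfsg.Agent.H1

open Equiv Cfsg.Fus Cfsg.FusionSystem Subgroup
open scoped commutatorElement

theorem TI.exists_conj {G : Type*} [Group G] [Finite G] {p : ℕ} [Fact p.Prime] {Y D N : Subgroup G}
    {t a w b q : G} (h : TI p Y D N t a w b) (hq : q ∈ N) (hq' : q ∉ D) :
    ∃ s : G, s * a * s⁻¹ ∈ Y ⊔ zpowers q := by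
  haveI := h.nY; haveI := h.nD
  obtain ⟨d, hd, k, e⟩ := (mem_sup_zpowers (normal_le_normalizer _ ⊤ trivial)).1
    ((sup_zpowers_eq h.DN h.idxD hq hq').ge h.aN)
  obtain ⟨y, hy, j, rfl⟩ := (mem_sup_zpowers (normal_le_normalizer _ ⊤ trivial)).1 (h.eD.ge hd)
  have mk : ∀ u v : G, ((⁅u, v⁆ : G) : G ⧸ Y) = ⁅(u : G ⧸ Y), (v : G ⧸ Y)⁆ :=
    fun u v => map_commutatorElement (QuotientGroup.mk' _) u v
  have h1 : (q ^ k)⁻¹ * (⁅t ^ (-j), a⁆ * a) ∈ Y := by
    rw [← QuotientGroup.eq, QuotientGroup.mk_mul, mk, QuotientGroup.mk_zpow Y t,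
      comm_zpow_left (mk t a ▸ comm_mem_iff_mk.1 (h.cD _ h.gD t)), ← mk]
    nth_rw 2 [e]
    simp [mk_eq_one_of_mem hy]
  refine ⟨t ^ (-j), ?_⟩
  simpa [commutatorElement_def, mul_assoc] using
    mul_mem (mem_sup_right (zpow_mem_zpowers q k)) (mem_sup_left h1)

variable {Ω : Type*} [Group Ω] {S E R N Q A B D : Subgroup Ω} [Finite S] {F : FusionSystem S}
  {p : ℕ} [hp : Fact p.Prime] {g a b x y t : Ω} {σ τ α β : Perm Ω} {c d : ℤ}

theorem relIndex_commMod_le [Finite B] (hS : S ≤ normalizer (D : Set Ω))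
    (ht : t ∈ normalizer (D : Set Ω)) (h : ∀ s ∈ S, ⁅s, t⁆ ∈ B) :
    (commMod D t).relIndex S ≤ D.relIndex B := by
  let f : S ⧸ (commMod D t).subgroupOf S → B ⧸ D.subgroupOf B :=
    fun q => QuotientGroup.mk ⟨⁅(q.out : Ω), t⁆, h _ q.out.2⟩
  refine Nat.card_le_card_of_injective f fun q q' e => ?_
  rw [← q.out_eq', ← q'.out_eq', QuotientGroup.eq, mem_subgroupOf]
  refine ⟨hS (q.out⁻¹ * q'.out).2, ?_⟩
  have := conj_mem_of_mem_normalizer ht (conj_inv_mem_of_mem_normalizer (mul_mem ht (hS q.out.2))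
    (mem_subgroupOf.1 (QuotientGroup.eq.1 e)))
  simpa [commutatorElement_def, mul_assoc] using this

theorem inv_conj_eq (x g : Ω) : x⁻¹ * (g * x * g⁻¹) = ⁅x⁻¹, g⁆ := by
  simp [commutatorElement_def, mul_assoc]

theorem comm_mem_of_conj (hx : x ∈ normalizer (D : Set Ω)) (h : x⁻¹ * (g * x * g⁻¹) ∈ D) :
    ⁅x, g⁆ ∈ D := by
  simpa [commutatorElement_def, mul_assoc] using conj_mem_of_mem_normalizer hx (D.inv_mem h)

theorem subgroupOf_sup_zp (hA : A ≤ S) (hx : x ∈ S) :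
    A.subgroupOf S ⊔ zpowers ⟨x, hx⟩ = (A ⊔ zpowers x).subgroupOf S := by
  refine map_injective S.subtype_injective ?_
  rw [Subgroup.map_sup, map_subgroupOf_eq_of_le hA, MonoidHom.map_zpowers,
    map_subgroupOf_eq_of_le (sup_le hA (zpowers_le.2 hx))]
  rfl

theorem zpowers_mk (hx : x ∈ S) : zpowers (⟨x, hx⟩ : S) = (zpowers x).subgroupOf S := by
  ext y; exact H8.mem_zpowers_coe

theorem card_zpowers_of_pow (h1 : x ≠ 1) (h : x ^ p = 1) : Nat.card (zpowers x) = p := by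
  rw [Nat.card_zpowers, orderOf_eq_prime h h1]

theorem not_le_of_card [Finite B] {m n : ℕ} (hA : Nat.card A = p ^ m) (hB : Nat.card B = p ^ n)
    (h : n < m) : ¬ A ≤ B := fun e => by
  have := card_le_of_le e
  rw [hA, hB, Nat.pow_le_pow_iff_right hp.out.one_lt] at this
  omega

theorem elem_qTv (hS : IsPGroup p S) (hE : F.IsEssential p E) (he : IsElementaryAbelian p E)
    (hg : g ∈ S) (hgE : g ∉ E) (hb : b ∈ E) (hgb : g * b = b * g)
    (ht : ∀ x ∈ E, ⁅x, g⁆ ∈ zpowers b) : HasTv S E ∧ normalizerIn S E = E ⊔ zpowers g ∧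
      ∃ a W, QTv F p E E ⊥ g b a W := by
  haveI := finite_of_le hE.le
  have cE := comm_of_isMulCommutative he.1
  have h1 : ∀ x ∈ E, x⁻¹ * (g * x * g⁻¹) ∈ zpowers b := fun x hx =>
    inv_conj_eq x g ▸ ht _ (E.inv_mem hx)
  have hn : g ∈ normalizer (E : Set Ω) := mem_normalizer_of_finite fun x hx =>
    (mul_mem_cancel_left (E.inv_mem hx)).1 (zpowers_le.2 hb (h1 x hx))
  have sec : FSec F p E E ⊥ := ⟨hE, le_rfl, bot_le, aInv_self F E, aInv_bot F E,
    fun e he x hx => by simp [cE e he x hx],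
    fun σ _ h => fixP_le_innS E E fun x hx => (inv_mul_eq_one.1 (h x hx)).symm⟩
  obtain ⟨a, W, t⟩ := sec.exists_qTv hS hg hn hgE hb (he.2 b hb) (by simp [hgb])
    fun x hx => mem_sup_right (h1 x hx)
  refine ⟨⟨g, hg, hn, hgE, b, hb, by simp [hgb], fun x hx => mem_sup_right (h1 x hx)⟩,
    le_antisymm (fun s hs => ?_) (sup_le (le_normalizerIn hE.le) (zpowers_le.2 ⟨hg, hn⟩)), a, W, t⟩
  obtain ⟨k, hk⟩ := t.norm s hs.1 hs.2
  simpa using mul_mem (mem_sup_right (zpow_mem_zpowers g k)) (mem_sup_left hk)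

theorem elem_not_normal (hS : IsPGroup p S) (hc : Nat.card S = p ^ 5) (hE : F.IsEssential p E)
    (he : IsElementaryAbelian p E) (hcE : Nat.card E = p ^ 3) : ¬ S ≤ normalizer (E : Set Ω) := by
  intro hn
  haveI := finite_of_le hE.le
  have cE := comm_of_isMulCommutative he.1
  obtain ⟨b, hb, b1, -, b2⟩ := Fus.exists_central_mod hS hE.le (A := ⊥)
    (le_normalizer_of_le_zc bot_le) hn (not_le_of_card (n := 0) hcE (by simp) (by omega))
  have bZ : b ∈ zc S := ⟨hE.le hb, fun g hg => mul_inv_eq_iff_eq_mul.1 (inv_mul_eq_one.1 (b2 g hg)).symm⟩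
  have nB := le_normalizer_of_le_zc (zpowers_le.2 bZ)
  have cB := card_zpowers_of_pow b1 (he.2 b hb)
  haveI := finite_of_le (zpowers_le.2 hb)
  obtain ⟨x, hx, x1, x2, x3⟩ := Fus.exists_central_mod hS hE.le nB hn
    (not_le_of_card (n := 1) hcE (by rwa [pow_one]) (by omega))
  have l2 : zpowers b ⊔ zpowers x ≤ E := sup_le (zpowers_le.2 hb) (zpowers_le.2 hx)
  haveI := finite_of_le l2
  have nB2 : S ≤ normalizer ((zpowers b ⊔ zpowers x : Subgroup Ω) : Set Ω) := fun g hg =>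
    mem_normalizer_sup_zpowers (zpowers_le.2 bZ.1) (hE.le hx) (nB hg) (x3 g hg)
  have c2 := card_sup_zp (nB (hE.le hx)) x1 x2
  rw [cB, ← pow_two] at c2
  obtain ⟨a, ha, a1, a2, a3⟩ := Fus.exists_central_mod hS hE.le nB2 hn
    (not_le_of_card hcE c2 (by omega))
  have h1 := relIndex_commMod_le nB (nB (hE.le ha)) fun s hs =>
    comm_mem_symm (comm_mem_of_conj (nB2 (hE.le ha)) (a3 s hs))
  rw [relIndex_sup_zpowers (nB (hE.le hx)) x1 x2] at h1
  obtain ⟨g, hg, hgE⟩ : ∃ g ∈ commMod (zpowers b) a ⊓ S, g ∉ E := SetLike.not_le_iff_exists.1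
    fun e => by
      have := relIndex_le_of_le_left e (relIndex_ne_zero_of_finite (le_refl S))
      rw [inf_relIndex_right, relIndex_eq_of_card_eq (n := 2) hE.le hcE hc] at this
      nlinarith [hp.out.two_le]
  obtain ⟨-, h2, _, _, t⟩ := elem_qTv hS hE he hg.2 hgE hb (bZ.2 g hg.2) fun y hy => by
    rw [← sup_zpowers_eq l2 (by simpa using relIndex_eq_of_card_eq (n := 1) l2 c2 hcE) ha a1] at hy
    exact comm_mem_of_sup_zpowers (l2.trans (hE.le.trans nB)) (nB (hE.le ha))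
      (comm_mem_of_sup_zpowers le_normalizer (nB (hE.le hx)) (fun y hy => by
        rw [commutatorElement_eq_one_iff_mul_comm.2 ((zpowers_le.2 bZ hy).2 g hg.2).symm]
        exact one_mem _) (comm_mem_of_conj (nB (hE.le hx)) (x3 g hg.2))) (comm_mem_symm hg.1.2) y hy
  have h3 := card_sup_zp (hn hg.2) hgE t.gp
  rw [← h2, show normalizerIn S E = S from inf_eq_left.2 hn, hc, hcE, ← pow_succ'] at h3
  exact absurd (Nat.pow_right_injective hp.out.two_le h3) (by norm_num)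

theorem exists_typeI (hS : IsPGroup p S) (hF : F.IsSaturated p) (hc : Nat.card S = p ^ 5)
    (hE : F.IsEssential p E) (he : IsElementaryAbelian p E) (hcE : Nat.card E = p ^ 3) :
    HasTv S E ∧ ∃ (Y D N : Subgroup S) (t a w b : S), TI p Y D N t a w b ∧
      ∀ c d : ℤ, c * d ≡ 1 [ZMOD p] → ∃ α, F.Iso S S α ∧ α b = (b : Ω) ^ c ∧ α a = (a : Ω) ^ d ∧
        α w = w := by
  haveI := finite_of_le hE.le
  have cE := comm_of_isMulCommutative he.1
  obtain ⟨t, ht, htE⟩ := SetLike.not_le_iff_exists.1 (elem_not_normal hS hc hE he hcE)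
  obtain ⟨N, hN⟩ : ∃ N, N = normalizerIn S E := ⟨_, rfl⟩
  have NS : N ≤ S := hN ▸ normalizerIn_le S E
  haveI := finite_of_le NS
  have pN := isPGroup_of_le hS NS
  have EN : E ≤ N := hN ▸ le_normalizerIn hE.le
  have tN : t ∉ N := fun e => htE (hN ▸ e :).2
  have cN : Nat.card N = p ^ 4 := card_eq_of_between hS (hN ▸ lt_normalizerIn hS (hE.lt hF hS))
    (lt_of_le_of_ne NS fun e => tN (e ▸ ht)) hcE hc
  have iN : N.relIndex S = p := by simpa using relIndex_eq_of_card_eq (n := 1) NS cN hc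
  have nN := le_normalizer_of_relIndex hS NS iN
  have iE : E.relIndex N = p := by simpa using relIndex_eq_of_card_eq (n := 1) EN hcE cN
  have m := (F.isMap_cj hE.le ht).iso
  obtain ⟨E', hE'⟩ : ∃ E', E' = img (cj t) E := ⟨_, rfl⟩
  rw [← hE'] at m
  have E'N : E' ≤ N := hE' ▸ img_le_iff.2 fun x hx => conj_mem_of_mem_normalizer (nN ht) (EN hx)
  haveI := finite_of_le E'N
  have iE' : E'.relIndex N = p := by
    simpa using relIndex_eq_of_card_eq (n := 1) E'N (m.card_eq ▸ hcE) cN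
  have cE' : ∀ x ∈ E', ∀ y ∈ E', x * y = y * x := fun x hx y hy => by
    obtain ⟨x, hx', rfl⟩ := m.exists_eq hx
    obtain ⟨y, hy', rfl⟩ := m.exists_eq hy
    rw [← m.homOn.map_mul hx' hy', ← m.homOn.map_mul hy' hx', cE x hx' y hy']
  have ne : E' ≠ E := fun e => htE (img_cj_eq_iff.1 (hE' ▸ e))
  obtain ⟨g, hg, hgE⟩ := SetLike.not_le_iff_exists.1 fun e : E' ≤ E =>
    ne (eq_of_le_of_card_ge e m.card_eq.le)
  obtain ⟨u, hu, huE⟩ := SetLike.not_le_iff_exists.1 fun e : E ≤ E' =>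
    ne (eq_of_le_of_card_ge e m.card_eq.ge).symm
  obtain ⟨Y, hY⟩ : ∃ Y, Y = E' ⊓ E := ⟨_, rfl⟩
  have YE : Y ≤ E := hY ▸ inf_le_right
  haveI := finite_of_le YE
  have iY : Y.relIndex E = p := by
    rw [hY, inf_relIndex_right]
    exact relIndex_eq_of_le hS hE.le ((relIndex_le_of_le_right EN
      (relIndex_ne_zero_of_finite NS)).trans iE'.le) fun e => huE (e hu)
  have cY : Nat.card Y = p ^ 2 := by
    have := H8.card_mul_relIndex' YE
    rw [iY, hcE, pow_succ p 2] at this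
    exact Nat.eq_of_mul_eq_mul_right hp.out.pos this
  obtain ⟨b, hb⟩ : ∃ b, b = ⁅u, g⁆ := ⟨_, rfl⟩
  have bN : b ∈ ⁅N, N⁆ := hb ▸ commutator_mem_commutator (EN hu) (E'N hg)
  have bY : b ∈ Y := hY ▸ ⟨commutator_le_of_relIndex pN E'N iE' bN,
    commutator_le_of_relIndex pN EN iE bN⟩
  have gY : ∀ y ∈ Y, g * y = y * g := fun y hy => cE' g hg y (hY ▸ hy :).1
  have nB : E ≤ normalizer (zpowers b : Set Ω) := le_normalizer_of_le_zc
    (zpowers_le.2 ⟨YE bY, fun x hx => cE x hx b (YE bY)⟩)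
  have tv : ∀ x ∈ E, ⁅x, g⁆ ∈ zpowers b := fun x hx => by
    rw [← sup_zpowers_eq YE iY hu fun e => huE (hY ▸ e :).1] at hx
    exact comm_mem_of_sup_zpowers (YE.trans nB) (nB hu) (fun y hy => by
      rw [commutatorElement_eq_one_iff_mul_comm.2 (gY y hy).symm]; exact one_mem _)
      (hb ▸ mem_zpowers _) x hx
  obtain ⟨h1, h2, a, W, q⟩ := elem_qTv hS hE he (NS (E'N hg)) hgE (YE bY) (gY b bY) tv
  refine ⟨h1, ?_⟩
  rw [← hN] at h2
  have cen : ∀ y ∈ E, g * y = y * g → y ∈ zc N := fun y hy e => ⟨EN hy, fun n hn =>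
    mem_centralizer_singleton_iff.1 ((sup_le (fun x hx => mem_centralizer_singleton_iff.2
      (cE x hx y hy)) (zpowers_le.2 (mem_centralizer_singleton_iff.2 e)) :
        E ⊔ zpowers g ≤ centralizer {y}) (h2 ▸ hn))⟩
  have zN : zc N = Y := le_antisymm (fun x hx => hY ▸ ⟨hE.isCentric.2 E' m.isConj
    ⟨NS hx.1, fun y hy => hx.2 y (E'N hy)⟩, hE.isCentric.centralizerIn_le
    ⟨NS hx.1, fun y hy => hx.2 y (EN hy)⟩⟩) fun y hy => cen y (YE hy) (gY y hy)
  have cNN : ⁅N, N⁆ = zpowers b := le_antisymm (h2 ▸ commutator_sup_zpowers_le nB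
    (le_normalizer_of_le_zc (zpowers_le.2 (zN.ge bY)) (E'N hg)) (fun x hx y hy => by
      rw [commutatorElement_eq_one_iff_mul_comm.2 (cE x hx y hy)]; exact one_mem _)
    fun x hx => comm_mem_symm (tv x hx)) (zpowers_le.2 bN)
  have bp := he.2 b (YE bY)
  have bZ : b ∈ zc S := ⟨hE.le (YE bY), mem_centralizer_of_normal_zpowers hS (hE.le (YE bY)) bp
    fun s hs => cNN ▸ iso_mem_commutator (F.iso_cj NS hs (nN hs)) bN⟩
  have nB' := le_normalizer_of_le_zc (zpowers_le.2 bZ)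
  have nY : S ≤ normalizer (Y : Set Ω) := zN ▸ nN.trans (normalizer_le_normalizer_zc N)
  have iB : (zpowers b).relIndex Y = p := by
    simpa using relIndex_eq_of_card_eq (m := 1) (n := 1) (zpowers_le.2 bY)
      (by simpa using card_zpowers_of_pow q.nmem bp) cY
  have ha : a ∈ E := by obtain ⟨φ, hφ, rfl⟩ := q.conj; exact hφ.mem (YE bY)
  have aY : a ∉ Y := fun e => q.ne (by simp [gY a e])
  have eE := sup_zpowers_eq YE iY ha aY
  obtain ⟨w, hw, w1⟩ : ∃ w ∈ W, w ∉ (⊥ : Subgroup Ω) := SetLike.not_le_iff_exists.1 fun e => by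
    have h3 : E ≤ zpowers b ⊔ zpowers a := fun x hx => by
      obtain ⟨w, hw, i, j, rfl⟩ := q.decomp x hx
      exact mul_mem (mul_mem (bot_le (a := zpowers b ⊔ zpowers a) (e hw))
        (mem_sup_left (zpow_mem_zpowers b i))) (mem_sup_right (zpow_mem_zpowers a j))
    have h4 := card_sup_zp (nB ha) (fun e => aY (zpowers_le.2 bY e)) (he.2 a ha ▸ one_mem _)
    rw [card_zpowers_of_pow q.nmem bp, ← pow_two] at h4
    haveI := finite_of_le (sup_le (zpowers_le.2 (YE bY)) (zpowers_le.2 ha))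
    exact not_le_of_card hcE h4 (by omega) h3
  have wY : w ∈ Y := zN ▸ cen w (q.le hw) (mul_inv_eq_iff_eq_mul.1
    (inv_mul_eq_one.1 (q.fix w hw)).symm)
  have wB : w ∉ zpowers b := fun ⟨k, hk⟩ => w1 (by
    simpa [show b ^ k = w from hk] using (q.indep k 0 (by simpa [show b ^ k = w from hk])).1)
  obtain ⟨x, hx, x1, x2, x3⟩ := Fus.exists_central_mod hS NS nY nN
    (not_le_of_card cN cY (by omega))
  obtain ⟨D, hD⟩ : ∃ D, D = Y ⊔ zpowers x := ⟨_, rfl⟩
  have DN : D ≤ N := hD ▸ sup_le (YE.trans EN) (zpowers_le.2 hx)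
  haveI := finite_of_le DN
  have cD : Nat.card D = p ^ 3 := by rw [hD, card_sup_zp (nY (NS hx)) x1 x2, cY, ← pow_succ']
  have iD : D.relIndex N = p := by simpa using relIndex_eq_of_card_eq (n := 1) DN cD cN
  have nD : S ≤ normalizer (D : Set Ω) := fun s hs =>
    hD ▸ mem_normalizer_sup_zpowers (YE.trans hE.le) (NS hx) (nY hs) (x3 s hs)
  have c1 : ∀ n ∈ N, ∀ s ∈ S, ⁅n, s⁆ ∈ D := fun n hn s hs => comm_mem_of_conj (nD (NS hn))
    (conj_mem_of_relIndex hS hs (nD hs) (nN hs) iD.dvd n hn)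
  have c3 : ∀ y ∈ Y, ∀ s ∈ S, ⁅y, s⁆ ∈ zpowers b := fun y hy s hs => comm_mem_of_conj
    (nB (YE hy)) (conj_mem_of_relIndex hS hs (nB' hs) (nY hs) iB.dvd y hy)
  have c2 : ∀ d ∈ D, ∀ s ∈ S, ⁅d, s⁆ ∈ Y := fun d hd s hs => comm_mem_of_sup_zpowers le_normalizer
    (nY (NS hx)) (fun y hy => zpowers_le.2 bY (c3 y hy s hs)) (comm_mem_of_conj (nY (NS hx))
      (x3 s hs)) d (hD ▸ hd)
  have gD : ⁅t, a⁆ ∈ D := comm_mem_symm (c1 a (EN ha) t ht)
  have gE : ⁅t, a⁆ ∉ E := fun e => htE (mem_normalizer_of_finite (eE ▸ (homOn_cj t _).mapsTo_sup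
    (fun y hy => mem_sup_left (conj_mem_of_mem_normalizer (nY ht) hy)) (by
      rintro _ ⟨k, rfl⟩
      rw [cj_apply, ← conj_zpow, eE]
      exact zpow_mem ((mul_mem_cancel_right (E.inv_mem ha)).1 e) k)))
  have YD : Y ≤ D := hD ▸ le_sup_left
  have eD := sup_zpowers_eq YD (hD ▸ relIndex_sup_zpowers (nY (NS hx)) x1 x2) gD (mt (@YE _) gE)
  have aD : a ∉ D := fun e => gE ((eq_of_le_of_card_ge (eE ▸ sup_le YD (zpowers_le.2 e) : E ≤ D)
    (by rw [hcE, cD])).ge gD)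
  have YS := YE.trans hE.le
  have ti : TI p (Y.subgroupOf S) (D.subgroupOf S) (N.subgroupOf S) ⟨t, ht⟩ ⟨a, hE.le ha⟩
      ⟨w, YS wY⟩ ⟨b, YS bY⟩ := by
    refine ⟨hS, fun e => q.nmem (congrArg Subtype.val e), Subtype.ext bp,
      mem_center_iff.2 fun s => Subtype.ext (bZ.2 s s.2), ?_, mt H8.mem_zpowers_coe.1 wB,
      Subtype.ext (he.2 w (YE wY)), fun y hy s => H8.mem_zpowers_coe.2 (c3 y hy s s.2),
      fun y hy n hn => Subtype.ext (commutatorElement_eq_one_iff_mul_comm.2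
        ((zN.ge hy).2 n hn).symm), (subgroupOf_sup_zp YS (NS (DN gD))).trans (by rw [eD]),
      mt (@YE _) gE, fun d hd s => c2 d hd s s.2, ?_, aD, Subtype.ext (he.2 a ha),
      fun n hn s => c1 n hn s s.2, fun n hn m hm => H8.mem_zpowers_coe.2
        (cNN ▸ commutator_mem_commutator hn hm), ?_, tN, pow_mem_of_relIndex nN iN ht,
      fun e => gE (hE.isCentric.centralizerIn_le ⟨NS (DN gD), fun y hy => ?_⟩)⟩
    · rw [zpowers_mk, subgroupOf_sup_zp (zpowers_le.2 (YS bY)),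
        sup_zpowers_eq (zpowers_le.2 bY) iB wY wB]
    · rw [subgroupOf_sup_zp (DN.trans NS), sup_zpowers_eq DN iD (EN ha) aD]
    · rw [subgroupOf_sup_zp NS, sup_zpowers_eq NS iN ht tN, subgroupOf_self]
    · exact mem_centralizer_singleton_iff.1 ((sup_le (fun y hy => mem_centralizer_singleton_iff.2
        ((zN.ge hy).2 _ (DN gD)).symm) (zpowers_le.2 (mem_centralizer_singleton_iff.2
        (commutatorElement_eq_one_iff_mul_comm.1 (congrArg Subtype.val e)).symm)) :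
          Y ⊔ zpowers a ≤ centralizer {⁅t, a⁆}) (eE ▸ hy))
  have aiY : F.AInv N Y := zN ▸ aInv_zc F N
  have aiD : F.AInv N D := fun τ hτ => eD ▸ (hτ.homOn.mono (eD ▸ DN)).mapsTo_sup
    (fun y hy => mem_sup_left (aiY τ hτ y hy)) (by
      rintro _ ⟨k, rfl⟩
      rw [hτ.homOn.map_zpow (DN gD), eD]
      refine zpow_mem (by_contra fun e => ?_) k
      obtain ⟨s, hs⟩ := ti.exists_conj (q := ⟨_, NS (hτ.mem (DN gD))⟩) (hτ.mem (DN gD)) e
      rw [subgroupOf_sup_zp YS] at hs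
      have l1 : Y ⊔ zpowers (τ ⁅t, a⁆) ≤ img τ D := sup_le (fun y hy =>
        (hτ.homOn.mono DN).mem_img_perm.2 (YD (aiY _ hτ.symm y hy)))
        (zpowers_le.2 (mem_img_of_mem τ gD))
      have l2 : ∀ y ∈ E, cj (s : Ω) y ∈ img τ D := eE ▸ (homOn_cj _ _).mapsTo_sup
        (fun y hy => l1 (mem_sup_left (conj_mem_of_mem_normalizer (nY s.2) hy))) (by
          rintro _ ⟨k, rfl⟩
          rw [cj_apply, ← conj_zpow]
          exact zpow_mem (l1 hs) k)
      have r := hτ.restrict DN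
      haveI := finite_of_le r.le_right
      have h3 := hE.isFullyNormalized.2 D (((F.isMap_cj hE.le s.2).iso_of_card l2
        (by rw [← r.card_eq, cD, hcE])).trans r.symm).isConj
      rw [← hN, show normalizerIn S D = S from inf_eq_left.2 nD, hc, cN,
        Nat.pow_le_pow_iff_right hp.out.one_lt] at h3
      omega)
  have nE : ¬ F.IsEssential p N := fun e => tN (e.isCentric.mem_of_cj_mem_opStab (e.isRadical hS) ht
    (mem_opStab_three hS (F.iso_cj NS ht (nN ht)) aiD aiY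
      (fun x hx => by rw [cj_apply, inv_conj_eq]; exact c1 _ (inv_mem hx) t ht)
      (fun x hx _ => by rw [cj_apply, inv_conj_eq]; exact c2 _ (inv_mem hx) t ht)
      fun x hx _ => by
        rw [cj_apply, inv_conj_eq]
        exact commutator_le_phiF hS NS (cNN ▸ c3 _ (inv_mem hx) t ht)))
  refine ⟨_, _, _, _, _, _, _, ti, fun c d hcd => ?_⟩
  obtain ⟨τ, hτ, i1, i2, i3, i4⟩ := q.torus c d hcd
  obtain ⟨β, b1, b2, -⟩ := exists_ext_of_conj hS hF hE.isCentric (NS (E'N hg))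
    (hN ▸ E'N hg :).2 hτ i4
  rw [← h2] at b1
  obtain ⟨α, a1, a2⟩ := exists_ext_top hF hS nE iN b1
  have a3 : ∀ x ∈ E, α x = τ x := fun x hx => (a2 x (EN hx)).trans (b2 x hx)
  exact ⟨α, a1, (a3 b (YE bY)).trans (inv_mul_eq_one.1 i1).symm,
    (a3 a ha).trans (inv_mul_eq_one.1 i2).symm,
    (a3 w (YE wY)).trans (inv_mul_eq_one.1 (i3 w hw)).symm⟩

end Cfsg.Agent.H1
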