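import Cfsg.Agent.H1.P5c

/-!
# Fusion systems over groups of order `p ^ 5`, conclusion
-/

set_option autoImplicit false
set_option linter.unusedSectionVars false

namespace Cfsg.Agent.H1

open Equiv Cfsg.Fus Cfsg.FusionSystem Subgroup
open scoped commutatorElement

variable {Ω : Type*} [Group Ω] {S E R : Subgroup Ω} [Finite S] {F : FusionSystem S}
  {p : ℕ} [hp : Fact p.Prime]

theorem zc_le_commutator_of_card (hS : IsPGroup p S) (hZ : Nat.card (zc S) = p) (hR : R ≤ S)
    (hn : S ≤ normalizer (R : Set Ω)) (hab : ¬ IsMulCommutative R) : zc S ≤ ⁅R, R⁆ := by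
  obtain ⟨x, hx, x1, -, x2⟩ := Fus.exists_central_mod hS (A := ⊥) (B := ⁅R, R⁆)
    ((commutator_le_self R).trans hR) (le_normalizer_of_le_zc bot_le)
    (fun s hs => aInv_normalizer (aInv_commutator (innerFusionSystem S) R) hR ⟨hs, hn hs⟩)
    fun e => hab (isMulCommutative_of_comm fun x hx y hy =>
      commutatorElement_eq_one_iff_mul_comm.1 (e (commutator_mem_commutator hx hy)))
  exact inf_eq_left.1 (eq_of_card_prime inf_le_left hZ fun e => x1 (e ▸ ⟨⟨hR (commutator_le_self R hx),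
    fun g hg => mul_inv_eq_iff_eq_mul.1 (inv_mul_eq_one.1 (x2 g hg)).symm⟩, hx⟩))

theorem Cls2.card_commutator_le (h : Cls2 p S) : Nat.card (⁅S, S⁆ : Subgroup Ω) ≤ p := by
  obtain ⟨x, hx, hxZ⟩ := h.exists_not_mem
  obtain ⟨a, h1⟩ := h.abIdx hx hxZ
  have h2 := a.card_zc_inf
  rw [inf_eq_right.2 h.commutator_le] at h2
  rw [h2, ← h1]
  exact relIndex_le_of_le_right inf_le_right (relIndex_ne_zero_of_finite a.le)

theorem aInv_zc_of_card (hS : IsPGroup p S) (hc : F.IsCentric R) (hcR : Nat.card R = p ^ 4)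
    (hn : S ≤ normalizer (R : Set Ω)) (hab : ¬ IsMulCommutative R) : F.AInv R (zc S) := by
  have hZ := zc_le_zc_of_centric hc
  by_cases e : zc R ≤ zc S
  · exact le_antisymm e hZ ▸ aInv_zc F R
  haveI := finite_of_le hc.le
  haveI := finite_of_le (inf_le_left : zc R ≤ R)
  have h0 := le_card_zc hS (by rintro rfl; exact hab (le_bot_iff.1 hc.le ▸ inferInstance))
  have h1 := mul_card_le' hS hZ (inf_le_left.trans hc.le) e
  have h2 := H8.card_mul_relIndex' (inf_le_left : zc R ≤ R)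
  have c : Cls2 p R := ⟨isPGroup_of_le hS hc.le, Nat.le_of_mul_le_mul_left (c := p * p)
    ((Nat.mul_le_mul_right _ ((Nat.mul_le_mul_left p h0).trans h1)).trans
      (by rw [h2, hcR]; exact le_of_eq (by ring))) (Nat.mul_pos hp.out.pos hp.out.pos), hab⟩
  rw [c.relIndex_eq, hcR, show p ^ 4 = p * p * p ^ 2 by ring] at h2
  rw [Nat.eq_of_mul_eq_mul_right (pow_pos hp.out.pos 2) h2] at h1
  have h3 := le_antisymm (Nat.le_of_mul_le_mul_left h1 hp.out.pos) h0
  haveI := finite_of_le (commutator_le_self R)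
  rw [eq_of_le_of_card_ge (zc_le_commutator_of_card hS h3 hc.le hn hab)
    (h3.symm ▸ c.card_commutator_le)]
  exact aInv_commutator F R

theorem essential_card_cases (hS : IsPGroup p S) (hF : F.IsSaturated p) (hc : Nat.card S = p ^ 5)
    (hE : F.IsEssential p E) : (Nat.card E = p ^ 2 ∨ (Nat.card E = p ^ 3 ∧ ¬ IsMulCommutative E)) ∨
      (Nat.card E = p ^ 3 ∧ IsElementaryAbelian p E) ∨ Nat.card E = p ^ 4 := by
  haveI := finite_of_le hE.le
  have hE' := isPGroup_of_le hS hE.le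
  obtain ⟨n, hn⟩ := hE'.exists_card_eq
  have h1 := (H8.essAut_of_isEssential hE).not_stab
  obtain ⟨k, d, h2, h3, -⟩ := H8.card_frattini_cases hE' h1 hn
  have h4 := card_lt_of_lt_of_finite (hE.lt hF hS)
  rw [hn, hc, Nat.pow_lt_pow_iff_right hp.out.one_lt] at h4
  obtain rfl | rfl | rfl : n = 2 ∨ n = 3 ∨ n = 4 := by omega
  · exact Or.inl (Or.inl hn)
  · by_cases e : IsMulCommutative E
    · refine Or.inr (Or.inl ⟨hn, e, fun a ha => ?_⟩)
      rcases H8.card_cube_cases hE' h1 hn with h | h | ⟨-, ⟨f⟩⟩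
      · exact congrArg Subtype.val (h.2 ⟨a, ha⟩)
      · exact congrArg Subtype.val (h.2.2 ⟨a, ha⟩)
      · have := congrArg f (e.1.1 (f.symm (QuaternionGroup.a 1)) (f.symm (QuaternionGroup.xa 0)))
        simp only [map_mul, f.apply_symm_apply] at this
        exact absurd this (by decide)
    · exact Or.inl (Or.inr ⟨hn, e⟩)
  · exact Or.inr (Or.inr hn)

theorem exists_abelian_index (hS : IsPGroup p S) (hF : F.IsSaturated p) (hp2 : p ≠ 2) (hp7 : p ≠ 7)
    (hc : Nat.card S = p ^ 5) (hcore : F.core = ⊥) (hfoc : S ≤ F.focalSubgroup) :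
    ∃ A : Subgroup Ω, A ≤ S ∧ IsMulCommutative A ∧ (A.subgroupOf S).index = p := by
  by_contra hno
  have hno' : ∀ A : Subgroup S, (∀ x ∈ A, ∀ y ∈ A, x * y = y * x) → A.index ≠ p := fun A h1 h2 =>
    hno ⟨A.map S.subtype, map_subtype_le A, isMulCommutative_of_comm (by
      rintro _ ⟨x, hx, rfl⟩ _ ⟨y, hy, rfl⟩
      exact congrArg Subtype.val (h1 x hx y hy)), by
        rwa [subgroupOf, comap_map_eq_self_of_injective S.subtype_injective]⟩
  have np : ∀ E, F.IsEssential p E →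
      ¬ (Nat.card E = p ^ 2 ∨ (Nat.card E = p ^ 3 ∧ ¬ IsMulCommutative E)) := fun E hE e => by
    obtain ⟨s, hs⟩ := pearl_unif hS hF hE e
    have h : MC5 p S := ⟨⟨s, hs⟩, hc, fun e => hno' (tsc S) (fun x hx y hy =>
      commutatorElement_eq_one_iff_mul_comm.1 (e (commutator_mem_commutator hx hy)))
      (hs.index_cMod (k := 0) fun e => hs.lcs_ne_bot hc (by norm_num)
        (le_bot_iff.1 (e ▸ lcs_anti (by norm_num)))).2⟩
    exact e.elim (fun e => h.not_pearl hF hp2 hp7 hfoc e hE)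
      fun e => h.not_extraspecial hF hp2 e.1 e.2 hE
  have i4 : ∀ R, F.IsEssential p R → Nat.card R = p ^ 4 →
      R.relIndex S = p ∧ ¬ IsMulCommutative R := fun R hR e => by
    have : R.relIndex S = p := by simpa using relIndex_eq_of_card_eq (n := 1) hR.le e hc
    exact ⟨this, fun e => hno ⟨R, hR.le, e, this⟩⟩
  by_cases h3 : ∃ E, F.IsEssential p E ∧ Nat.card E = p ^ 3 ∧ IsElementaryAbelian p E
  · obtain ⟨E, hE, e1, e2⟩ := h3
    obtain ⟨-, Y, D, N, t, a, w, b, h, tor⟩ := exists_typeI hS hF hc hE e2 e1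
    have tor' : ∀ c d : ℤ, c * d ≡ 1 [ZMOD p] → ∃ α, F.Iso S S α ∧ resAut S α b = b ^ c ∧
        resAut S α a = a ^ d ∧ resAut S α w = w := fun c d hcd => by
      obtain ⟨α, a1, a2, a3, a4⟩ := tor c d hcd
      have ra := resAut_apply a1.mem_autStab
      exact ⟨α, a1, Subtype.ext ((ra b).trans a2), Subtype.ext ((ra a).trans a3),
        Subtype.ext ((ra w).trans a4)⟩
    obtain ⟨rfl, hD, hw⟩ := h.main hp2 hno' fun c d hcd => by
      obtain ⟨α, -, h⟩ := tor' c d hcd
      exact ⟨_, h⟩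
    obtain ⟨z, hz, z1, z2, -⟩ := tor' (-1) (-1) (by simp)
    have mK : ∀ x : S, (x : Ω) ∈ ⁅S, S⁆ ↔ x ∈ lcs S 1 := fun x => fltS_one S ▸ mem_fltS (r := 1) x
    have eZ : zc S = zpowers (b : Ω) := by
      rw [← map_center_eq, h.center_eq hD hw, MonoidHom.map_zpowers]; rfl
    refine h.wK hD ((mK w).1 (le_commutator_of_inv hF hS hp2 hfoc (fun R hR => ?_)
      (map_subtype_le D) ?_ hz (fun x hx => ?_) ?_ (mem_map_of_mem _ (h.YD h.wY))))
    · rcases (essential_card_cases hS hF hc hR).resolve_left (np R hR) with e | e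
      · exact (exists_typeI hS hF hc hR e.2 e.1).1
      obtain ⟨i1, i2⟩ := i4 R hR e
      have hn := le_normalizer_of_relIndex hS hR.le i1
      obtain ⟨g, hg, hgR⟩ := SetLike.exists_of_lt (hR.lt hF hS)
      have h1 : zpowers (b : Ω) ≤ phiF R := eZ ▸ (zc_le_commutator_of_card hS (by
        rw [← map_center_eq, card_map_of_injective S.subtype_injective, h.center_eq hD hw,
          h.cardB]) hR.le hn i2).trans (commutator_le_phiF hS hR.le)
      refine ⟨g, hg, hn hg, hgR, (⁅t, a⁆ : S), commutator_le_of_relIndex hS hR.le i1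
        (commutator_mem_commutator t.2 a.2), ?_, fun x hx => ?_⟩
      · rw [inv_conj_eq]
        exact h1 (H8.mem_zpowers_coe.1 (hD _ (inv_mem h.gD) ⟨g, hg⟩))
      · have := mem_map_of_mem S.subtype (h.lcs_eq hD ▸ (mK ⟨_, commutator_le_self S
          (inv_conj_mem_commutator hg (hR.le hx))⟩).1 (inv_conj_mem_commutator hg (hR.le hx)))
        rw [Subgroup.map_sup, MonoidHom.map_zpowers, MonoidHom.map_zpowers] at this
        exact sup_le_sup_right h1 _ this
    · rintro τ hτ _ ⟨x, hx, rfl⟩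
      exact ⟨_, h.invD hD hw (resAut S τ) x hx, resAut_apply hτ.mem_autStab x⟩
    · exact ⟨_, h.wt_neg hD hw z1 z2 ⟨x, hx⟩, congrArg (x * ·) (resAut_apply hz.mem_autStab _)⟩
    · rintro σ hσ _ ⟨x, hx, rfl⟩
      have := (mK _).2 (h.wt_one h hD hw (resAut S σ) hx)
      rwa [coe_mul, resAut_apply hσ.mem_autStab] at this
  · refine zc_ne_bot' hS (fun e => ?_) (le_bot_iff.1 (hcore ▸ IsNormal.le_core
      (hF.isNormal_of_essential hS ?_)))
    · rw [e, card_bot] at hc
      exact (Nat.one_lt_pow (by norm_num) hp.out.one_lt).ne hc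
    rintro R (rfl | hR)
    · exact ⟨inf_le_left, aInv_zc F R⟩
    have e := ((essential_card_cases hS hF hc hR).resolve_left (np R hR)).resolve_left
      fun e => h3 ⟨R, hR, e⟩
    obtain ⟨i1, i2⟩ := i4 R hR e
    exact ⟨centric_zc_le hR.isCentric, aInv_zc_of_card hS hR.isCentric e
      (le_normalizer_of_relIndex hS hR.le i1) i2⟩

end Cfsg.Agent.H1
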