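import Cfsg.Agent.H1.QuadPair

/-!
A sharper form of the theorem on two quadratic elements: the relations of `SL₂(p)` hold on an
invariant subgroup.
-/

set_option autoImplicit false

namespace Cfsg.Agent.H1

open Matrix Polynomial
open scoped MatrixGroups

variable {Γ : Type*} [Group Γ]

theorem exists_plane_of_not_nilpotent {K W : Type*} [Field K] [IsAlgClosed K] {p : ℕ}
    [Fact p.Prime] [CharP K p] (hp2 : p ≠ 2) [AddCommGroup W] [Module K W]
    [FiniteDimensional K W] [Finite Γ] (ρ : Γ →* Module.End K W) {x y : Γ}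
    {a b : Module.End K W} (hx : ρ x = 1 + a) (hy : ρ y = 1 + b) (ha : a * a = 0)
    (hb : b * b = 0) (hn : ¬ IsNilpotent (a * b + b * a)) :
    ∃ c d : Γ, ∃ v w : W, v ≠ 0 ∧ ρ c v = v ∧ ρ c w = v + w ∧ ρ d w = w ∧ ρ d v = v + w ∧
      ∀ u ∈ Submodule.span K {v, w}, ρ x u ∈ Submodule.span K {v, w} ∧
        ρ y u ∈ Submodule.span K {v, w} := by
  classical
  obtain ⟨l, u, hl, hu, htu⟩ := exists_eigenvector_of_not_nilpotent hn
  have haa : ∀ v, a (a v) = 0 := fun v => by rw [← Module.End.mul_apply, ha]; rfl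
  have hbb : ∀ v, b (b v) = 0 := fun v => by rw [← Module.End.mul_apply, hb]; rfl
  simp only [LinearMap.add_apply, Module.End.mul_apply] at htu
  obtain ⟨v, hv0, hv1, hv2⟩ : ∃ v, v ≠ 0 ∧ a v = 0 ∧ a (b v) = l • v := by
    by_cases h : a u = 0
    · exact ⟨u, hu, h, by simpa [h] using htu⟩
    · refine ⟨a u, h, haa u, ?_⟩
      have := congrArg a htu
      simpa [haa] using this
  let Φ : (Fin 2 → K) →ₗ[K] W := (LinearMap.proj 0 : (Fin 2 → K) →ₗ[K] K).smulRight v +
    (LinearMap.proj 1 : (Fin 2 → K) →ₗ[K] K).smulRight (b v)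
  have hΦ : ∀ z, Φ z = z 0 • v + z 1 • b v := fun _ => rfl
  have hinj : Function.Injective Φ := by
    rw [injective_iff_map_eq_zero]
    intro z hz
    have h1 := congrArg a hz
    rw [hΦ, map_add, map_smul, map_smul, hv1, hv2, smul_zero, zero_add, map_zero, smul_smul,
      smul_eq_zero] at h1
    have h2 : z 1 = 0 := (mul_eq_zero.1 (h1.resolve_right hv0)).resolve_right hl
    rw [hΦ, h2, zero_smul, add_zero, smul_eq_zero] at hz
    ext i
    fin_cases i
    exacts [hz.resolve_right hv0, h2]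
  let G : Subgroup (Γ × SL(2, K)) :=
    { carrier := {g | ∀ z, ρ g.1 (Φ z) = Φ (slMat K g.2 *ᵥ z)}
      one_mem' := fun z => by simp
      mul_mem' := fun {g g'} h h' z => by
        rw [Prod.fst_mul, Prod.snd_mul, map_mul, map_mul, Module.End.mul_apply, h', h,
          mulVec_mulVec]
      inv_mem' := fun {g} h z => by
        have := h (slMat K g.2⁻¹ *ᵥ z)
        rw [mulVec_mulVec, ← map_mul, mul_inv_cancel, map_one, one_mulVec] at this
        rw [Prod.fst_inv, Prod.snd_inv, ← this, ← Module.End.mul_apply, ← map_mul, inv_mul_cancel,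
          map_one, Module.End.one_apply] }
  haveI : Finite G := Finite.of_injective (fun g : G => g.1.1) fun g g' h =>
    Subtype.ext (Prod.ext h (slMat_injective (Matrix.ext_of_mulVec_single fun i => hinj
      ((g.2 _).symm.trans ((congrArg (fun s => ρ s (Φ _)) h).trans (g'.2 _))))))
  haveI : Finite (G.map (MonoidHom.snd _ _)) :=
    Finite.of_surjective _ ((MonoidHom.snd _ _).subgroupMap_surjective G)
  let X : SL(2, K) := ⟨!![1, l; 0, 1], by simp [det_fin_two]⟩
  let Y : SL(2, K) := ⟨!![1, 0; 1, 1], by simp [det_fin_two]⟩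
  have hX : slMat K X = !![1, l; 0, 1] := rfl
  have hY : slMat K Y = !![1, 0; 1, 1] := rfl
  have hxG : (x, X) ∈ G := fun z => by
    rw [hX, mulVec_fin_two, hΦ, hΦ, hx]
    simp [hv1, hv2, smul_smul]
    module
  have hyG : (y, Y) ∈ G := fun z => by
    rw [hY, mulVec_fin_two, hΦ, hΦ, hy]
    simp [hbb]
    module
  obtain ⟨_, ⟨c, hc, rfl⟩, _, ⟨d, hd, rfl⟩, v', w', h0, h1, h2, h3, h4⟩ :=
    dickson_pair hp2 (G.map (MonoidHom.snd _ _)) ⟨_, hxG, rfl⟩ ⟨_, hyG, rfl⟩ hl hX hY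
  have hli : LinearIndependent K ![v', w'] := LinearIndependent.pair_iff.2 fun s t hst => by
    have h5 := congrArg (fun z => slMat K ((MonoidHom.snd _ _) c) *ᵥ z) hst
    simp only [mulVec_add, mulVec_smul, h1, h2, mulVec_zero, smul_add] at h5
    have h6 : t • v' = 0 := by linear_combination (exp := 1) h5 - hst
    have ht : t = 0 := (smul_eq_zero.1 h6).resolve_right h0
    rw [ht, zero_smul, add_zero] at hst
    exact ⟨(smul_eq_zero.1 hst).resolve_right h0, ht⟩
  have hsp : Submodule.span K {Φ v', Φ w'} = LinearMap.range Φ := by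
    have := hli.span_eq_top_of_card_eq_finrank (by simp)
    rw [LinearMap.range_eq_map, ← this, Submodule.map_span]
    congr 1
    ext z
    simp [eq_comm, or_comm]
  refine ⟨c.1, d.1, Φ v', Φ w', fun h => h0 (hinj (h.trans (map_zero Φ).symm)), ?_, ?_, ?_, ?_, ?_⟩
  · exact (hc _).trans (congrArg Φ h1)
  · exact (hc _).trans ((congrArg Φ h2).trans (map_add _ _ _))
  · exact (hd _).trans (congrArg Φ h3)
  · exact (hd _).trans ((congrArg Φ h4).trans (map_add _ _ _))
  · rw [hsp]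
    rintro _ ⟨z, rfl⟩
    exact ⟨⟨_, (hxG z).symm⟩, ⟨_, (hyG z).symm⟩⟩

theorem plane_relations {K W : Type*} [Field K] [AddCommGroup W] [Module K W]
    (ρ : Γ →* Module.End K W) {c d : Γ} {v w : W} (h1 : ρ c v = v) (h2 : ρ c w = v + w)
    (h3 : ρ d w = w) (h4 : ρ d v = v + w) {u : W} (hu : u ∈ Submodule.span K {v, w}) :
    ρ c (ρ c u - u) = ρ c u - u ∧ ρ ((c * d⁻¹ * c) ^ 2) u = -u ∧
      ρ (c * d⁻¹ * c) u = ρ (d⁻¹ * c * d⁻¹) u := by
  have hi : ∀ z, ρ d⁻¹ (ρ d z) = z := fun z => by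
    rw [← Module.End.mul_apply, ← map_mul, inv_mul_cancel, map_one, Module.End.one_apply]
  have h5 : ρ d⁻¹ w = w := by rw [← h3, hi, h3]
  have h6 : ρ d⁻¹ v = v - w := by
    have := hi v
    rw [h4, map_add, h5] at this
    exact eq_sub_of_add_eq this
  obtain ⟨s, t, rfl⟩ := Submodule.mem_span_pair.1 hu
  simp only [pow_two, map_mul, Module.End.mul_apply, map_add, map_sub, map_smul, h1, h2, h5, h6]
  refine ⟨?_, ?_, ?_⟩ <;> module

/-- Two quadratic elements acting on a finite elementary abelian `p`-group, `p` odd. -/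
theorem exists_rel_of_quadratic {V : Type*} [AddCommGroup V] [Finite V] {p : ℕ}
    [hp : Fact p.Prime] (hp2 : p ≠ 2) (hV : ∀ v : V, p • v = 0) [Finite Γ]
    (ρ : Γ →* AddMonoid.End V) {x y : Γ} (hx : ∀ v, ρ x (ρ x v - v) = ρ x v - v)
    (hy : ∀ v, ρ y (ρ y v - v) = ρ y v - v) :
    (∀ g ∈ Subgroup.closure {x, y}, ∃ k : ℕ, ρ (g ^ p ^ k) = 1) ∨
    ∃ c d : Γ, ∃ U : AddSubgroup V, U ≠ ⊥ ∧ ∀ u ∈ U, ρ x u ∈ U ∧ ρ y u ∈ U ∧
      ρ c (ρ c u - u) = ρ c u - u ∧ ρ ((c * d⁻¹ * c) ^ 2) u = -u ∧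
      ρ (c * d⁻¹ * c) u = ρ (d⁻¹ * c * d⁻¹) u := by
  classical
  haveI : Module (ZMod p) V := AddCommGroup.zmodModule hV
  let f : Γ → Module.End (ZMod p) V := fun g =>
    { toFun := ρ g, map_add' := map_add _, map_smul' := ZMod.map_smul (ρ g) }
  have hf1 : f 1 = 1 := LinearMap.ext fun v => show ρ 1 v = v by simp
  have hf2 : ∀ g h, f (g * h) = f g * f h := fun g h =>
    LinearMap.ext fun v => show ρ (g * h) v = ρ g (ρ h v) by rw [map_mul]; rfl
  let ρ₁ : Γ →* Module.End (ZMod p) V := ⟨⟨f, hf1⟩, hf2⟩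
  have hρ₁ : ∀ (g : Γ) (v : V), (ρ₁ g : V →ₗ[ZMod p] V) v = ρ g v := fun _ _ => rfl
  have hsq : ∀ z : Γ, (∀ v, ρ z (ρ z v - v) = ρ z v - v) → (ρ₁ z - 1) * (ρ₁ z - 1) = 0 :=
    fun z hz => by
      ext v
      simp only [Module.End.mul_apply, LinearMap.sub_apply, Module.End.one_apply, hρ₁, hz, sub_self,
        LinearMap.zero_apply]
  by_cases hn : IsNilpotent ((ρ₁ x - 1) * (ρ₁ y - 1) + (ρ₁ y - 1) * (ρ₁ x - 1))
  · left
    obtain ⟨n, hn⟩ := hn
    intro g hg
    have h1 := unipotent_of_nilpotent ρ₁ (add_sub_cancel _ _).symm (add_sub_cancel _ _).symm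
      (hsq x hx) (hsq y hy) hn hg
    rcases subsingleton_or_nontrivial V with h | h
    · exact ⟨0, AddMonoidHom.ext fun v => Subsingleton.elim _ _⟩
    haveI : CharP (Module.End (ZMod p) V) p := charP_of_injective_algebraMap
      (algebraMap (ZMod p) (Module.End (ZMod p) V)).injective p
    refine ⟨3 * n, AddMonoidHom.ext fun v => ?_⟩
    have h2 := pow_eq_zero_of_le (Nat.lt_pow_self hp.out.one_lt).le h1
    rw [sub_pow_char_pow_of_commute _ _ (Commute.one_right _), one_pow, sub_eq_zero,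
      ← map_pow] at h2
    exact (hρ₁ _ v).symm.trans (by rw [h2]; rfl)
  right
  let K := AlgebraicClosure (ZMod p)
  let B := Module.finBasis (ZMod p) V
  let n := Module.finrank (ZMod p) V
  let φ : Module.End (ZMod p) V →+* Module.End K (Fin n → K) :=
    (Matrix.toLinAlgEquiv' (R := K) (n := Fin n)).toRingEquiv.toRingHom.comp
      ((algebraMap (ZMod p) K).mapMatrix.comp (LinearMap.toMatrixAlgEquiv B).toRingEquiv.toRingHom)
  have hφ : ∀ r z, φ r z = ((LinearMap.toMatrix B B r).map (algebraMap (ZMod p) K)) *ᵥ z :=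
    fun _ _ => rfl
  have hφi : Function.Injective φ := (Matrix.toLinAlgEquiv' (R := K) (n := Fin n)).injective.comp
    ((Matrix.map_injective (algebraMap (ZMod p) K).injective).comp
      (LinearMap.toMatrixAlgEquiv B).injective)
  obtain ⟨c, d, v, w, h0, h1, h2, h3, h4, h5⟩ := exists_plane_of_not_nilpotent hp2
    (φ.toMonoidHom.comp ρ₁) (x := x) (y := y) (a := φ (ρ₁ x - 1)) (b := φ (ρ₁ y - 1))
    (by simp) (by simp) (by rw [← map_mul, hsq x hx, map_zero])
    (by rw [← map_mul, hsq y hy, map_zero])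
    (by rwa [← map_mul, ← map_mul, ← map_add, IsNilpotent.map_iff hφi])
  obtain ⟨i, hi⟩ := Function.ne_iff.1 h0
  obtain ⟨ℓ, hℓ⟩ : ∃ ℓ : K →ₗ[ZMod p] ZMod p, ℓ (v i) ≠ 0 := by
    by_contra h
    push Not at h
    exact hi ((Module.forall_dual_apply_eq_zero_iff (ZMod p) (v i)).1 h)
  let D : (Fin n → K) →ₗ[ZMod p] V := B.equivFun.symm.toLinearMap.comp (ℓ.compLeft (Fin n))
  have hD : ∀ r z, D (φ r z) = r (D z) := fun r z => by
    apply B.equivFun.injective
    have h5 : ∀ z, B.equivFun (D z) = fun j => ℓ (z j) := fun z => B.equivFun.apply_symm_apply _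
    rw [h5, Module.Basis.equivFun_apply, ← LinearMap.toMatrix_mulVec_repr B B r,
      ← Module.Basis.equivFun_apply, h5, hφ]
    ext j
    simp only [mulVec, dotProduct, map_sum, map_apply, ← Algebra.smul_def, map_smul, smul_eq_mul]
  have hD' : ∀ g z, ρ g (D z) = D ((φ.toMonoidHom.comp ρ₁) g z) := fun g z => (hD (ρ₁ g) z).symm
  refine ⟨c, d, (Submodule.span K {v, w}).toAddSubgroup.map D.toAddMonoidHom, fun h => hℓ ?_, ?_⟩
  · have h6 : D v = 0 := (AddSubgroup.eq_bot_iff_forall _).1 h _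
      ⟨v, Submodule.subset_span (Set.mem_insert _ _), rfl⟩
    have := congrFun (B.equivFun.apply_symm_apply (ℓ.compLeft (Fin n) v)) i
    rw [show B.equivFun.symm (ℓ.compLeft (Fin n) v) = D v from rfl, h6, map_zero] at this
    exact this.symm
  · rintro _ ⟨z, hz, rfl⟩
    obtain ⟨r1, r2, r3⟩ := plane_relations _ h1 h2 h3 h4 hz
    refine ⟨⟨_, (h5 z hz).1, (hD' x z).symm⟩, ⟨_, (h5 z hz).2, (hD' y z).symm⟩, ?_, ?_, ?_⟩
    · show ρ c (ρ c (D z) - D z) = ρ c (D z) - D z
      rw [hD', ← map_sub, hD']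
      exact congrArg D r1
    · show ρ _ (D z) = -D z
      rw [hD', r2, map_neg]
    · show ρ _ (D z) = ρ _ (D z)
      rw [hD', hD', r3]

end Cfsg.Agent.H1
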