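import Cfsg.Agent.H1.P5d
import Cfsg.Agent.H1.FusJ
import Cfsg.Prelude.Def_CaseTheorems

/-!
# Groups of sectional rank three: generalities
-/

set_option autoImplicit false
set_option linter.unusedSectionVars false

namespace Cfsg.Agent.H1

open Equiv Cfsg.Fus Cfsg.FusionSystem Subgroup
open scoped commutatorElement

variable {Ω : Type*} [Group Ω] {S T E R A B C D H K L W X Z : Subgroup Ω} [Finite S]
  {F : FusionSystem S} {p : ℕ} [hp : Fact p.Prime] {g a b v w x y : Ω} {σ τ : Perm Ω}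

/-- Elementary abelian sections of `S` have order at most `p³`. -/
def SR3 (p : ℕ) (S : Subgroup Ω) : Prop := ∀ A B : Subgroup Ω, A ≤ B → B ≤ S →
  (∀ x ∈ B, ∀ y ∈ B, ⁅x, y⁆ ∈ A) → (∀ x ∈ B, x ^ p ∈ A) → Nat.card B ≤ p ^ 3 * Nat.card A

theorem normalizer_of_comm (hA : A ≤ S) (h : ∀ x ∈ A, ⁅g, x⁆ ∈ A) : g ∈ normalizer (A : Set Ω) := by
  haveI := finite_of_le hA
  exact mem_normalizer_of_finite fun x hx => by
    simpa [commutatorElement_def] using A.mul_mem (h x hx) hx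

theorem sr3_of (h : SectionalPRankLE p 3 S) : SR3 p S := fun A B hAB hB h1 h2 => by
  haveI : ((A.subgroupOf S).subgroupOf (B.subgroupOf S)).Normal := ⟨fun x hx y => by
    simpa [commutatorElement_def, mem_subgroupOf] using A.mul_mem (h1 _ y.2 _ x.2) hx⟩
  have h3 := h (B.subgroupOf S) ((A.subgroupOf S).subgroupOf _) ⊤ ⟨⟨by
    rintro ⟨x, -⟩ ⟨y, -⟩
    obtain ⟨x, rfl⟩ := QuotientGroup.mk_surjective x
    obtain ⟨y, rfl⟩ := QuotientGroup.mk_surjective y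
    exact Subtype.ext (comm_mem_iff_mk.1 (h1 _ x.2 _ y.2))⟩⟩ fun x _ => by
      obtain ⟨x, rfl⟩ := QuotientGroup.mk_surjective x
      exact (QuotientGroup.eq_one_iff (x ^ p)).2 (h2 _ x.2)
  rw [card_top, ← index_eq_card, ← relIndex, relIndex_subgroupOf hB] at h3
  rw [← H8.card_mul_relIndex' hAB, mul_comm]
  exact Nat.mul_le_mul_right _ h3

theorem sr2_of_card (hc : Nat.card S = p ^ 3) (hn : ¬ IsMulCommutative S) :
    SectionalPRankLE p 2 S := fun H N _ A h1 _ => by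
  by_contra h2
  have h3 := N.card_eq_card_quotient_mul_card_subgroup
  have h4 : Nat.card A ∣ p ^ 3 :=
    hc ▸ A.card_subgroup_dvd_card.trans ((Dvd.intro _ h3.symm).trans H.card_subgroup_dvd_card)
  obtain ⟨k, hk, e⟩ := (Nat.dvd_prime_pow hp.out).1 h4
  rw [e, Nat.pow_le_pow_iff_right hp.out.one_lt] at h2
  obtain rfl : k = 3 := by omega
  have h5 := A.card_le_card_group
  have h6 := H.card_le_card_group
  have h7 : 0 < Nat.card N := Nat.card_pos
  have h8 : Nat.card N = 1 := by nlinarith [pow_pos hp.out.pos 3]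
  rw [h8, mul_one] at h3
  obtain rfl : H = ⊤ := eq_top_of_le_card _ (by omega)
  obtain rfl : A = ⊤ := eq_top_of_le_card _ (by omega)
  obtain rfl := card_eq_one.1 h8
  refine hn ⟨⟨fun x y => commutatorElement_eq_one_iff_mul_comm.1 ?_⟩⟩
  have := (comm_mem_iff_mk (D := ⊥) (x := (⟨x, trivial⟩ : (⊤ : Subgroup S))) (y := ⟨y, trivial⟩)).2
    (congrArg Subtype.val (h1.1.1 ⟨_, trivial⟩ ⟨_, trivial⟩))
  exact congrArg Subtype.val (mem_bot.1 this)

/-- The elements of `H` with `p`-th power in `K` are closed under products. -/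
def PCl (p : ℕ) (H K : Subgroup Ω) : Prop :=
  ∀ x ∈ H, ∀ y ∈ H, x ^ p ∈ K → y ^ p ∈ K → (x * y) ^ p ∈ K

/-- The elements of `H` with `p`-th power in `K`. -/
def om (p : ℕ) (H K : Subgroup Ω) (h : PCl p H K) : Subgroup Ω where
  carrier := {x | x ∈ H ∧ x ^ p ∈ K}
  one_mem' := ⟨one_mem _, by simp⟩
  mul_mem' := fun {x y} hx hy => ⟨mul_mem hx.1 hy.1, h x hx.1 y hy.1 hx.2 hy.2⟩
  inv_mem' := fun {x} hx => ⟨inv_mem hx.1, by rw [inv_pow]; exact inv_mem hx.2⟩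

theorem pcl_of_comm (hn : H ≤ normalizer (K : Set Ω)) (hc : ∀ x ∈ H, ∀ y ∈ H, ⁅x, y⁆ ∈ K) :
    PCl p H K := fun x hx y hy h1 h2 => by
  haveI := normal_subgroupOf_of_le_normalizer hn
  have h3 := (comm_mem_iff_mk (D := K.subgroupOf H) (x := ⟨x, hx⟩) (y := ⟨y, hy⟩)).1 (hc x hx y hy)
  refine (QuotientGroup.eq_one_iff (N := K.subgroupOf H) ((⟨x, hx⟩ * ⟨y, hy⟩) ^ p)).1 ?_
  rw [QuotientGroup.mk_pow, QuotientGroup.mk_mul, Commute.mul_pow h3, ← QuotientGroup.mk_pow,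
    ← QuotientGroup.mk_pow, mk_eq_one_of_mem (N := K.subgroupOf H) h1,
    mk_eq_one_of_mem (N := K.subgroupOf H) h2, one_mul]

theorem aInv_om (hH : F.AInv E H) (hK : F.AInv E K) (hE : H ≤ E) (h : PCl p H K) :
    F.AInv E (om p H K h) := fun τ hτ x hx =>
  ⟨hH τ hτ x hx.1, hτ.homOn.map_pow (hE hx.1) p ▸ hK τ hτ _ hx.2⟩

/-- Commutators in `H` are central of order dividing `p`. -/
def Cl2 (p : ℕ) (H : Subgroup Ω) : Prop :=
  ∀ x ∈ H, ∀ y ∈ H, ⁅x, y⁆ ^ p = 1 ∧ ∀ z ∈ H, z * ⁅x, y⁆ = ⁅x, y⁆ * z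

theorem pow_choose_two (hp2 : p ≠ 2) (h : x ^ p = 1) : x ^ p.choose 2 = 1 := by
  obtain ⟨k, hk⟩ := hp.out.dvd_choose_self (k := 2) (by norm_num) (hp.out.two_le.lt_of_ne' hp2)
  rw [hk, pow_mul, h, one_pow]

theorem Cl2.mul_pow (h : Cl2 p H) (hp2 : p ≠ 2) (hx : x ∈ H) (hy : y ∈ H) :
    (x * y) ^ p = x ^ p * y ^ p := by
  obtain ⟨h1, h2⟩ := h y hy x hx
  rw [mul_pow_of_comm (c := ⁅y, x⁆) (by simp [commutatorElement_def]) (h2 x hx).symm (h2 y hy).symm,
    pow_choose_two hp2 h1, mul_one]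

theorem Cl2.pcl (h : Cl2 p H) (hp2 : p ≠ 2) (K : Subgroup Ω) : PCl p H K :=
  fun _ hx _ hy h1 h2 => h.mul_pow hp2 hx hy ▸ K.mul_mem h1 h2

/-- The subgroup of `p`-th powers. -/
def Cl2.pw (h : Cl2 p H) (hp2 : p ≠ 2) : Subgroup Ω where
  carrier := {y | ∃ x ∈ H, x ^ p = y}
  one_mem' := ⟨1, one_mem _, one_pow _⟩
  mul_mem' := by
    rintro _ _ ⟨x, hx, rfl⟩ ⟨y, hy, rfl⟩
    exact ⟨x * y, mul_mem hx hy, h.mul_pow hp2 hx hy⟩
  inv_mem' := by
    rintro _ ⟨x, hx, rfl⟩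
    exact ⟨x⁻¹, inv_mem hx, inv_pow _ _⟩

theorem Cl2.aInv_pw (h : Cl2 p H) (hp2 : p ≠ 2) (hH : F.AInv E H) (hE : H ≤ E) :
    F.AInv E (h.pw hp2) := by
  rintro τ hτ _ ⟨x, hx, rfl⟩
  exact ⟨τ x, hH τ hτ x hx, (hτ.homOn.map_pow (hE hx) p).symm⟩

theorem Cl2.comm_pow (h : Cl2 p H) (hp2 : p ≠ 2) (hg : g ∈ normalizer (H : Set Ω)) (hx : x ∈ H) :
    ⁅g, x⁆ ^ p = ⁅g, x ^ p⁆ := by
  rw [commutatorElement_def, h.mul_pow hp2 (conj_mem_of_mem_normalizer hg hx) (inv_mem hx), conj_pow,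
    inv_pow, commutatorElement_def]

theorem conj_pow_formula (h1 : x * w * x⁻¹ = y * w) (h2 : x * y * x⁻¹ = v * y) (h3 : Commute v x)
    (h4 : Commute v y) (n : ℕ) : x ^ n * w * (x ^ n)⁻¹ = v ^ n.choose 2 * y ^ n * w := by
  induction n with
  | zero => simp
  | succ n ih =>
    calc x ^ (n + 1) * w * (x ^ (n + 1))⁻¹ = x * (x ^ n * w * (x ^ n)⁻¹) * x⁻¹ := by
          rw [pow_succ']; group
      _ = (x * v * x⁻¹) ^ n.choose 2 * (x * y * x⁻¹) ^ n * (x * w * x⁻¹) := by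
          rw [ih, conj_pow, conj_pow]; group
      _ = _ := by
          rw [h1, h2, ← h3.eq, mul_inv_cancel_right, h4.mul_pow, Nat.choose_succ_succ' n 1,
            Nat.choose_one_right, add_comm n, pow_add, pow_succ y]
          simp only [mul_assoc]

theorem aInv_sup (hA : F.AInv E A) (hB : F.AInv E B) (h1 : A ≤ E) (h2 : B ≤ E) :
    F.AInv E (A ⊔ B) := fun τ hτ => (hτ.homOn.mono (sup_le h1 h2)).mapsTo_sup
  (fun x hx => mem_sup_left (hA τ hτ x hx)) fun x hx => mem_sup_right (hB τ hτ x hx)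

theorem aInv_inf (hA : F.AInv E A) (hB : F.AInv E B) : F.AInv E (A ⊓ B) :=
  fun τ hτ x hx => ⟨hA τ hτ x hx.1, hB τ hτ x hx.2⟩

theorem aInv_comm (hA : F.AInv E A) (hB : F.AInv E B) (h1 : A ≤ E) (h2 : B ≤ E) :
    F.AInv E ⁅A, B⁆ := fun τ hτ x hx => by
  have := mem_img_of_mem τ hx
  rw [hτ.homOn.img_commutator h1 h2] at this
  exact commutator_mono (img_le_iff.2 (hA τ hτ)) (img_le_iff.2 (hB τ hτ)) this

theorem aInv_orbCl (hZ : Z ≤ E) : F.AInv E (orbCl F E Z) := fun _ hτ => iso_mem_orbCl hZ hτ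

theorem elem_mono (hL : IsElementaryAbelian p L) (h : A ≤ L) : IsElementaryAbelian p A :=
  ⟨isMulCommutative_of_comm fun x hx y hy => comm_of_isMulCommutative hL.1 x (h hx) y (h hy),
    fun x hx => hL.2 x (h hx)⟩

theorem mem_of_zpow_mem {k : ℤ} (hk : ¬ (p : ℤ) ∣ k) (h : x ^ k ∈ A) (hx : x ^ p ∈ A) : x ∈ A :=
  mem_of_pow_mem_of_coprime ((Nat.prime_iff_prime_int.1 hp.out).coprime_iff_not_dvd.2 hk).symm h
    (by rwa [zpow_natCast])

theorem dvd_of_zpow_mem {k : ℤ} (h : x ^ k ∈ A) (hx : x ^ p ∈ A) (hn : x ∉ A) : (p : ℤ) ∣ k := by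
  by_contra hk
  exact hn (mem_of_zpow_mem hk h hx)

theorem zpow_mem_of_dvd {k : ℤ} (hk : (p : ℤ) ∣ k) (hx : x ^ p ∈ A) : x ^ k ∈ A := by
  obtain ⟨m, rfl⟩ := hk
  rw [zpow_mul, zpow_natCast]; exact A.zpow_mem hx m

theorem mul_card_le_of_lt (hS : IsPGroup p S) (h : A < B) (hB : B ≤ S) : p * Nat.card A ≤ Nat.card B :=
  mul_card_le' hS h.le hB h.not_ge

theorem phiF_le_of (hR : R ≤ S) (h1 : ∀ x ∈ R, ∀ y ∈ R, ⁅x, y⁆ ∈ K) (h2 : ∀ x ∈ R, x ^ p ∈ K) :
    phiF R ≤ K := by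
  haveI := finite_of_le hR
  exact map_le_iff_le_comap.2 (H8.frattini_le_of_pow_comm (N := K.subgroupOf R)
    (fun x => h2 x x.2) fun x y => h1 x x.2 y y.2)

theorem phiF_le_of_relIndex (hS : IsPGroup p S) (hA : A ≤ R) (hR : R ≤ S) (h : A.relIndex R = p) :
    phiF R ≤ A := by
  haveI := finite_of_le hR
  have hR' := isPGroup_of_le hS hR
  exact phiF_le_of hR (fun x hx y hy => commutator_le_of_relIndex hR' hA h
    (commutator_mem_commutator hx hy))
    fun x hx => pow_mem_of_relIndex (le_normalizer_of_relIndex hR' hA h) h hx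

theorem le_of_sup_phiF (hR : R ≤ S) (hA : A ≤ R) (h : R ≤ A ⊔ phiF R) : R ≤ A := by
  haveI := finite_of_le hR
  have : A.subgroupOf R ⊔ frattini R = ⊤ := map_injective R.subtype_injective (by
    rw [Subgroup.map_sup, map_subgroupOf_eq_of_le hA, ← MonoidHom.range_eq_map, range_subtype]
    exact le_antisymm (sup_le hA (phiF_le R)) h)
  exact subgroupOf_eq_top.1 (frattini_nongenerating this)

theorem normalizer_phiF (hR : R ≤ S) : normalizerIn S R ≤ normalizer (phiF R : Set Ω) :=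
  aInv_normalizer (aInv_phiF (innerFusionSystem S) R) hR

theorem eq_sup_of_card (hS : IsPGroup p S) (hA : A ≤ B) (hB : B ≤ S)
    (h : Nat.card B ≤ p * Nat.card A) (hx : x ∈ B) (hxA : x ∉ A) : A ⊔ zpowers x = B :=
  sup_zpowers_eq hA (((Nat.dvd_prime hp.out).1 (relIndex_dvd_of_card hS hA hB h)).resolve_left
    fun e => hxA (relIndex_eq_one.1 e hx)) hx hxA

theorem card_of_relIndex (hA : A ≤ B) (h : A.relIndex B = p) : Nat.card B = p * Nat.card A := by
  rw [← H8.card_mul_relIndex' hA, h, mul_comm]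

/-- A group that is cyclic modulo its centre and Frattini subgroup is abelian. -/
theorem comm_of_card_le (hS : IsPGroup p S) (hW : W ≤ S)
    (h : Nat.card W ≤ p * Nat.card (zc W ⊔ phiF W : Subgroup Ω)) : ∀ x ∈ W, ∀ y ∈ W, x * y = y * x := by
  have h1 : zc W ⊔ phiF W ≤ W := sup_le inf_le_left (phiF_le W)
  by_cases h2 : W ≤ zc W ⊔ phiF W
  · exact fun x hx y hy => (le_of_sup_phiF hW inf_le_left h2 hy).2 x hx
  obtain ⟨w, hw, hw'⟩ := SetLike.not_le_iff_exists.1 h2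
  have h3 := le_of_sup_phiF hW (sup_le inf_le_left (zpowers_le.2 hw))
    ((eq_sup_of_card hS h1 hW h hw hw').ge.trans (sup_right_comm _ _ _).le)
  exact fun x hx y hy => comm_sup_zpowers (comm_of_isMulCommutative inferInstance)
    (fun a (ha : a ∈ zc W) => ha.2 w hw) x (h3 hx) y (h3 hy)

namespace SR3

variable (h : SR3 p S)
include h

theorem mono (hT : T ≤ S) : SR3 p T := fun A B h1 h2 => h A B h1 (h2.trans hT)

theorem elem (hL : IsElementaryAbelian p L) (hLS : L ≤ S) : Nat.card L ≤ p ^ 3 := by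
  simpa using h ⊥ L bot_le hLS (fun x hx y hy => commutatorElement_eq_one_iff_mul_comm.2
    (comm_of_isMulCommutative hL.1 x hx y hy)) hL.2

theorem mem (hL : IsElementaryAbelian p L) (hLS : L ≤ S) (hc : p ^ 3 ≤ Nat.card L) (hyS : y ∈ S)
    (hy : y ^ p = 1) (hc' : ∀ x ∈ L, y * x = x * y) : y ∈ L := by
  by_contra hn
  obtain ⟨h1, h2⟩ := elem_sup_zpowers hL hy hc'
  have := h.elem h1 (sup_le hLS (zpowers_le.2 hyS))
  rw [h2 hn] at this
  nlinarith [hp.out.two_le, pow_pos hp.out.pos 3]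

theorem phi (hS : IsPGroup p S) (hR : R ≤ S) : Nat.card R ≤ p ^ 3 * Nat.card (phiF R) :=
  h _ _ (phiF_le R) hR (fun _ hx _ hy => commutator_le_phiF hS hR (commutator_mem_commutator hx hy))
    fun _ hx => pow_mem_phiF hS hR hx

theorem chain (hS : IsPGroup p S) (h1 : A < B) (h2 : B < C) (h3 : C < D) (h4 : D < H) (hH : H ≤ S)
    (hc : ∀ x ∈ H, ∀ y ∈ H, ⁅x, y⁆ ∈ A) (hp' : ∀ x ∈ H, x ^ p ∈ A) : False := by
  have e4 := mul_card_le_of_lt hS h4 hH
  have e3 := mul_card_le_of_lt hS h3 (h4.le.trans hH)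
  have e2 := mul_card_le_of_lt hS h2 ((h3.trans h4).le.trans hH)
  have e1 := mul_card_le_of_lt hS h1 ((h2.trans (h3.trans h4)).le.trans hH)
  have hA := (h1.trans (h2.trans (h3.trans h4))).le
  have e := h A H hA hH hc hp'
  haveI := finite_of_le (hA.trans hH)
  have e5 := (Nat.mul_le_mul_left p ((Nat.mul_le_mul_left p ((Nat.mul_le_mul_left p e1).trans
    e2)).trans e3)).trans (e4.trans e)
  have e6 : p ^ 3 * Nat.card A * p ≤ p ^ 3 * Nat.card A * 1 := by linarith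
  exact absurd (Nat.le_of_mul_le_mul_left e6 (mul_pos (pow_pos hp.out.pos 3) Nat.card_pos))
    (not_le.2 hp.out.one_lt)

/-- A subgroup centralised by two independent elements is abelian. -/
theorem comm_of_pair (hS : IsPGroup p S) (hW : W ≤ S) (ha : a ∈ S) (hb : b ∈ S)
    (ca : ∀ w ∈ W, w * a = a * w) (cb : ∀ w ∈ W, w * b = b * w) (hab : ⁅a, b⁆ ∈ W)
    (pa : a ^ p ∈ W) (pb : b ^ p ∈ W) (nb : b ∉ W) (na : a ∉ W ⊔ zpowers b) :
    ∀ x ∈ W, ∀ y ∈ W, x * y = y * x := by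
  have l1 : W ⊔ zpowers b ≤ S := sup_le hW (zpowers_le.2 hb)
  have kW : zc W ⊔ phiF W ≤ W := sup_le inf_le_left (phiF_le W)
  have c0 : ∀ {c : Ω}, (∀ w ∈ W, w * c = c * w) → ∀ w ∈ W, ⁅c, w⁆ ∈ zc W ⊔ phiF W :=
    fun hc w hw => by rw [commutatorElement_eq_one_iff_mul_comm.2 (hc w hw).symm]; exact one_mem _
  have nK : ∀ {c : Ω}, (∀ w ∈ W, w * c = c * w) → c ∈ normalizer ((zc W ⊔ phiF W : Subgroup Ω) : Set Ω) :=
    fun hc => centralizer_le_normalizer _ fun w hw => hc w (kW hw)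
  have cW : ∀ x ∈ W, ∀ y ∈ W, ⁅x, y⁆ ∈ zc W ⊔ phiF W := fun x hx y hy =>
    mem_sup_right (commutator_le_phiF hS hW (commutator_mem_commutator hx hy))
  have nW : W ≤ normalizer ((zc W ⊔ phiF W : Subgroup Ω) : Set Ω) := fun x hx =>
    normalizer_of_comm (kW.trans hW) fun y hy => cW x hx y (kW hy)
  have n1 := sup_le nW (zpowers_le.2 (nK cb))
  have hab' : ⁅a, b⁆ ∈ zc W ⊔ phiF W := mem_sup_left ⟨hab, fun w hw =>
    (((show Commute w a from ca w hw).mul_right (cb w hw)).mul_right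
      (show Commute w a from ca w hw).inv_right).mul_right (show Commute w b from cb w hw).inv_right⟩
  have c2 := commutator_sup_zpowers_le n1 (nK ca) (fun x hx y hy => commutator_sup_zpowers_le nW
    (nK cb) cW (c0 cb) (commutator_mem_commutator hx hy)) fun x hx => comm_mem_symm
      (comm_mem_of_sup_zpowers nW (nK cb) (fun w hw => comm_mem_symm (c0 ca w hw))
        (comm_mem_symm hab') x hx)
  have n2 := sup_le n1 (zpowers_le.2 (nK ca))
  have e1 := card_sup_zp (centralizer_le_normalizer _ cb) nb pb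
  have e2 := card_sup_zp (normalizer_of_comm l1 fun x hx => mem_sup_left (kW (c2
    (commutator_mem_commutator (mem_sup_right (mem_zpowers a)) (mem_sup_left hx))))) na
    (mem_sup_left pa)
  have kB := kW.trans ((le_sup_left (b := zpowers b)).trans (le_sup_left (b := zpowers a)))
  have e3 := h _ _ kB (sup_le l1 (zpowers_le.2 ha))
    (fun x hx y hy => c2 (commutator_mem_commutator hx hy)) fun x hx => ((sup_le (sup_le
      (fun x hx => ⟨mem_sup_left (mem_sup_left hx), mem_sup_right (pow_mem_phiF hS hW hx)⟩)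
      (zpowers_le.2 ⟨mem_sup_left (mem_sup_right (mem_zpowers b)), mem_sup_left
        ⟨pb, fun w hw => (show Commute w b from cb w hw).pow_right p⟩⟩))
      (zpowers_le.2 ⟨mem_sup_right (mem_zpowers a), mem_sup_left
        ⟨pa, fun w hw => (show Commute w a from ca w hw).pow_right p⟩⟩) : _ ≤ om p _ _
      (pcl_of_comm n2 fun x hx y hy => c2 (commutator_mem_commutator hx hy))) hx).2
  rw [e2, e1] at e3
  exact comm_of_card_le hS hW (Nat.le_of_mul_le_mul_left (c := p ^ 2) (by linarith)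
    (pow_pos hp.out.pos 2))

end SR3

end Cfsg.Agent.H1
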