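import Cfsg.Agent.H1.R9

/-!
# Weight arguments in the second normaliser
-/

set_option autoImplicit false
set_option linter.unusedSectionVars false

namespace Cfsg.Agent.H1

open Equiv Cfsg.Fus Cfsg.FusionSystem Subgroup
open scoped commutatorElement

variable {G : Type*} [Group G] [Finite G] {p : ℕ} [hp : Fact p.Prime] {α : G ≃* G}
  {A B D K M N W X Y : Subgroup G} {a b g s t u v x y : G} {c d e : ℤ}

theorem mem_of_zpow_pg (hG : IsPGroup p G) (he : ¬ (p : ℤ) ∣ e) (h : x ^ e ∈ K) : x ∈ K := by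
  obtain ⟨k, hk⟩ := hG x
  refine mem_of_pow_mem_of_coprime (a := (p : ℤ) ^ k) (IsCoprime.pow_left
    ((Nat.prime_iff_prime_int.1 hp.out).irreducible.coprime_iff_not_dvd.2 he)) ?_ h
  rw [← Nat.cast_pow, zpow_natCast, hk]
  exact one_mem _

theorem Wt.of_mem' (h : Wt α N x c) (hx : x ∈ normalizer (N : Set G)) (hN : ∀ n ∈ N, α n ∈ N)
    (hy : y ∈ N ⊔ zpowers x) : Wt α N y c := by
  obtain ⟨n, hn, k, rfl⟩ := (mem_sup_zpowers hx).1 hy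
  have hx' := Subgroup.zpow_mem _ (h.mem le_normalizer hx) k
  have h1 := zpow_inv_mul_mem (y := n * x ^ k) (Subgroup.zpow_mem _ hx k)
    (mul_assoc _ n _ ▸ conj_mem_of_mem_normalizer' (Subgroup.zpow_mem _ hx k) hn) c
  have := N.mul_mem (N.mul_mem (N.inv_mem h1) (zpow_inv_mul_mem (Subgroup.zpow_mem _ hx c) h k))
    (conj_mem_of_mem_normalizer' hx' (hN n hn))
  rw [zpow_comm x k c] at this
  rw [Wt, map_mul, map_zpow]
  convert this using 1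
  group

/-- No section of `X` affords the weight `e`. -/
def Kill (α : G ≃* G) (X : Subgroup G) (e : ℤ) : Prop :=
  ∀ K : Subgroup G, K.Normal → (∀ x ∈ K, α x ∈ K) → ∀ x ∈ X, Wt α K x e → x ∈ K

theorem kill_bot : Kill α ⊥ e := fun K _ _ x hx _ => mem_bot.1 hx ▸ one_mem K

theorem Kill.step (hG : IsPGroup p G) (h : Kill α Y e) (hX : ∀ x ∈ X, Wt α Y x c)
    (hc : ¬ (p : ℤ) ∣ e - c) : Kill α X e := fun K _ hK x hx hw => by
  have h1 : (((x ^ c)⁻¹ * α x : G) : G ⧸ K) = (x ^ (e - c) : G) := by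
    rw [QuotientGroup.mk_mul, wt_iff.1 hw, QuotientGroup.mk_inv, QuotientGroup.mk_zpow,
      QuotientGroup.mk_zpow, ← zpow_neg, ← zpow_add, neg_add_eq_sub]
  have h2 := hK _ (QuotientGroup.eq.1 h1)
  rw [map_mul, map_inv, ← QuotientGroup.eq] at h2
  have h3 := h K ‹_› hK _ (hX x hx) (wt_iff.2 (by rw [h2, h1]; exact wt_iff.1 (hw.zpow _)))
  exact mem_of_zpow_pg hG hc ((QuotientGroup.eq_one_iff _).1 (h1 ▸ mk_eq_one_of_mem h3))

theorem Kill.comm (hG : IsPGroup p G) (h : Kill α X (c * d)) (hx : Wt α A x c) (hy : Wt α B y d)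
    (hyY : y ∈ Y) (hB : B ≤ Y) (h1 : ∀ a ∈ A, ∀ v ∈ Y, ⁅a, v⁆ = 1) (h2 : ∀ b ∈ B, ⁅x, b⁆ = 1)
    (hX : ⁅x, y⁆ ∈ X) : ⁅x, y⁆ = 1 := by
  obtain ⟨n, hn⟩ := exists_lcs_eq_bot hG
  have : ∀ i, ⁅x, y⁆ ∈ lcs G i := fun i => by
    induction i with
    | zero => trivial
    | succ i ih =>
      exact h _ inferInstance (char_mem _ α) _ hX (hx.comm hy (mem_zpowers x) hyY hB
        (fun a ha v hv => h1 a ha v hv ▸ one_mem _) (fun u hu b hb =>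
          comm_mem_of_zpowers (nle _ _) (h2 b hb ▸ one_mem _) u hu)
        fun u hu g => comm_mem_lcs (comm_mem_of_zpowers (nle _ _) ih u hu) g)
  simpa [hn] using this n

theorem Kill.pow (h : Kill α X e) [K.Normal] (hK : ∀ x ∈ K, α x ∈ K) (hx : Wt α Y x e)
    (hY : ∀ y ∈ Y, y ^ p ∈ K) (hc : Commute x (α x)) (hX : x ^ p ∈ X) : x ^ p ∈ K :=
  h K ‹_› hK _ hX (by
    have := hY _ hx
    rwa [(hc.zpow_left e).inv_left.mul_pow, inv_pow, ← map_pow, ← zpow_natCast, zpow_comm,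
      zpow_natCast] at this)

theorem mk_comm [K.Normal] (u v : G) : ((⁅u, v⁆ : G) : G ⧸ K) = ⁅(u : G ⧸ K), (v : G ⧸ K)⁆ :=
  map_commutatorElement (QuotientGroup.mk' K) u v

theorem mk_comm_zpow [K.Normal] (h : ⁅⁅u, v⁆, v⁆ ∈ K) (k : ℤ) :
    ((⁅u, v ^ k⁆ : G) : G ⧸ K) = ((⁅u, v⁆ : G) : G ⧸ K) ^ k := by
  rw [mk_comm, mk_comm, QuotientGroup.mk_zpow, comm_zpow_right]
  rw [← mk_comm]
  exact comm_mem_iff_mk.1 h

theorem comm_mem_of_mk [K.Normal] (h : ((⁅a, u⁆ : G) : G ⧸ K) = (⁅a, v⁆ : G)) : ⁅a, u⁻¹ * v⁆ ∈ K := by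
  rw [mk_comm, mk_comm, commutatorElement_def, commutatorElement_def, mul_assoc, mul_assoc, mul_assoc,
    mul_assoc, mul_left_cancel_iff] at h
  rw [← QuotientGroup.eq_one_iff, mk_comm, QuotientGroup.mk_mul, QuotientGroup.mk_inv]
  calc _ = (a : G ⧸ K) * (u : G ⧸ K)⁻¹ * (v * ((a : G ⧸ K)⁻¹ * (v : G ⧸ K)⁻¹)) * u := by
        rw [commutatorElement_def]; group
    _ = 1 := by rw [← h]; group

theorem exists_conj_mem (hG : IsPGroup p (⊤ : Subgroup G)) [M.Normal] [D.Normal] [N.Normal]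
    (MD : M ≤ D) (DN : D ≤ N) (iM : M.relIndex D = p) (iD : D.relIndex N = p) (ha : a ∈ N)
    (ht : ⁅a, t⁆ ∉ M) (hx : x ∈ N) (hx' : x ∉ D) : ∃ s, s * a * s⁻¹ ∈ M ⊔ zpowers x := by
  have h1 := comm_mem_of_relIndex hG iD.dvd ha t
  obtain ⟨δ, hδ, i, rfl⟩ := (mem_sup_zpowers (nle D x)).1 ((sup_zpowers_eq DN iD hx hx').ge ha)
  obtain ⟨m, hm, k, e⟩ := (mem_sup_zpowers (nle M _)).1 ((sup_zpowers_eq MD iM h1 ht).ge hδ)
  have h2 := congrArg (QuotientGroup.mk (s := M)) e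
  rw [QuotientGroup.mk_mul, mk_eq_one_of_mem hm, one_mul, QuotientGroup.mk_zpow,
    ← mk_comm_zpow (comm_mem_of_relIndex hG iM.dvd h1 t) k, eq_comm, QuotientGroup.eq] at h2
  refine ⟨t ^ k, ?_⟩
  convert mul_mem (mem_sup_left h2) (mem_sup_right (Subgroup.zpow_mem _ (mem_zpowers x) i)) using 1
  rw [commutatorElement_def]
  group

theorem eq_bot_of_wt (hG : IsPGroup p (⊤ : Subgroup G)) (hr : SR3 p (⊤ : Subgroup G)) [M.Normal]
    [D.Normal] [N.Normal] (WM : W ≤ M) (MD : M ≤ D) (DN : D ≤ N) (iW : W.relIndex M = p)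
    (iM : M.relIndex D = p) (iD : D.relIndex N = p) (ha : a ∈ N) (hg : g ∈ D) (hg' : g ∉ M)
    (hb : b ∈ M) (hb' : b ∉ W) (hag : ⁅a, g⁆ ∉ W) (hN : ∀ s, ⁅a, s⁆ ∈ M → s ∈ N) (ht : t ∉ N)
    (cW : ∀ w ∈ W, ⁅w, a⁆ = 1) (cM : ∀ x ∈ M, ∀ y ∈ M, ⁅x, y⁆ = 1) (fW : ∀ w ∈ W, α w = w)
    (αM : ∀ x ∈ M, α x ∈ M) (αD : ∀ x ∈ D, α x ∈ D) (wb : Wt α W b c) (wg : Wt α M g (c * c))
    (wa : Wt α M a d) (hcd : c * d ≡ 1 [ZMOD p]) (h2 : ¬ (p : ℤ) ∣ c ^ 2 - 1)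
    (h3 : ¬ (p : ℤ) ∣ c ^ 3 - 1) (h5 : ¬ (p : ℤ) ∣ c ^ 5 - 1) : W = ⊥ := by
  have hG' : IsPGroup p G := hG.of_equiv topEquiv
  have pp := Nat.prime_iff_prime_int.1 hp.out
  have h0 : ¬ (p : ℤ) ∣ c := fun e => pp.not_dvd_one ((dvd_sub_left (e.mul_right d)).1 hcd.dvd)
  have h1 : ¬ (p : ℤ) ∣ c - 1 := fun e => h2 (by simpa using e.trans (sub_dvd_pow_sub_pow c 1 2))
  have nd : ∀ {u v w : ℤ}, ¬ (p : ℤ) ∣ u → ¬ (p : ℤ) ∣ v → w = u * v → ¬ (p : ℤ) ∣ w :=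
    fun hu hv e h => (pp.dvd_or_dvd (e ▸ h)).elim hu hv
  have n1 : ¬ (p : ℤ) ∣ c * c - 1 := sq c ▸ h2
  have n2 : ¬ (p : ℤ) ∣ c * c - c := nd h0 h1 (by ring)
  have n3 : ¬ (p : ℤ) ∣ c * (c * c) - 1 := nd h3 pp.not_dvd_one (by ring)
  have n4 : ¬ (p : ℤ) ∣ c * (c * c) - c := nd h0 h2 (by ring)
  have n5 : ¬ (p : ℤ) ∣ c * (c * c) - c * c := nd h0 n2 (by ring)
  have n6 : ¬ (p : ℤ) ∣ c * c * (c * (c * c)) - 1 := nd h5 pp.not_dvd_one (by ring)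
  have αW : ∀ x ∈ W, α x ∈ W := fun x hx => (fW x hx).symm ▸ hx
  have wW : ∀ x ∈ W, Wt α ⊥ x 1 := fun x hx => wt_of_eq (by rw [fW x hx, zpow_one])
  have wM : ∀ x ∈ M, Wt α W x c := fun x hx => wb.of_mem' (normalizer_of_comm (S := ⊤) le_top
    fun w hw => cM b hb w (WM hw) ▸ one_mem _) αW ((sup_zpowers_eq WM iW hb hb').ge hx)
  have eD := sup_zpowers_eq MD iM hg hg'
  have wD : ∀ x ∈ D, Wt α M x (c * c) := fun x hx => wg.of_mem αM (eD.ge hx)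
  have kW : ∀ {e}, ¬ (p : ℤ) ∣ e - 1 → Kill α W e := fun h => kill_bot.step hG' wW h
  have kM : ∀ {e}, ¬ (p : ℤ) ∣ e - 1 → ¬ (p : ℤ) ∣ e - c → Kill α M e := fun h h' =>
    (kW h).step hG' wM h'
  have cN := fun x (hx : x ∈ N) => comm_mem_of_relIndex hG iD.dvd hx
  have cD := fun x (hx : x ∈ D) => comm_mem_of_relIndex hG iM.dvd hx
  have pM := fun s => mk_eq_one_of_mem (pow_mem_of_relIndex (normal_le_normalizer M D) iM (cN a ha s))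
  have wG : ∀ s, Wt α N s (c * (c * c)) := fun s => hN _ (comm_mem_of_mk (by
    have e1 := wt_iff.1 (wD _ (cN a ha s))
    rw [map_commutatorElement, mk_comm, wt_iff.1 wa, comm_zpow_left, ← mk_comm] at e1
    · obtain ⟨k, hk⟩ := hcd.dvd
      rw [mk_comm_zpow (cD _ (cN a ha s) s), mul_comm, zpow_mul, ← e1, ← zpow_mul, mul_comm d,
        ← sub_sub_cancel 1 (c * d), hk, zpow_sub, zpow_mul, zpow_natCast, ← QuotientGroup.mk_pow, pM,
        one_zpow, inv_one, mul_one, zpow_one]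
    · rw [← mk_comm]
      exact comm_mem_iff_mk.1 (cD _ (cN a ha _) a)))
  have pN : ∀ s, s ^ p ∈ N := fun s => hN _ ((QuotientGroup.eq_one_iff _).1 (by
    rw [← zpow_natCast, mk_comm_zpow (cD _ (cN a ha s) s), zpow_natCast, ← QuotientGroup.mk_pow, pM]))
  have aD : a ∉ D := fun e => ht (hN t (cD a e t))
  have A1 : ∀ w ∈ W, ∀ s ∈ N, ⁅w, s⁆ = 1 := fun w hw s hs => comm_one_symm (comm_one_of_sup
    (fun x hx => comm_one_symm ((kM ((one_mul (c * c)).symm ▸ n1) ((one_mul (c * c)).symm ▸ n2)).comm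
      hG' (wW w hw) (wD x hx) hx MD (by simp) (cM w (WM hw)) (comm_mem_left M (WM hw) x)))
    (comm_one_symm (cW w hw)) s ((sup_zpowers_eq DN iD ha aD).ge hs))
  have A2 : ∀ w ∈ W, ∀ s : G, ⁅w, s⁆ = 1 := fun w hw s =>
    (kM ((one_mul (c * (c * c))).symm ▸ n3) ((one_mul (c * (c * c))).symm ▸ n4)).comm hG' (wW w hw)
      (wG s) (mem_top s) le_top (by simp) (A1 w hw) (comm_mem_left M (WM hw) s)
  haveI : W.Normal := normal_of_comm_mem fun w hw s => A2 w hw s ▸ one_mem _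
  have B1 : ∀ m ∈ M, ∀ x ∈ D, ⁅m, x⁆ = 1 := fun m hm x hx => (kM n3 n4).comm hG' (wM m hm) (wD x hx)
    hx MD (fun w hw v _ => A2 w hw v) (cM m hm) (comm_mem_left M hm x)
  have B2 : ∀ x ∈ D, ∀ y ∈ D, ⁅x, y⁆ = 1 := fun x hx y hy => comm_one_iff.2 (comm_sup_zpowers
    (fun x hx y hy => comm_one_iff.1 (cM x hx y hy))
    (fun m hm => (comm_one_iff.1 (B1 m hm g hg)).symm) x (eD.ge hx) y (eD.ge hy))
  have cM' := fun x (hx : x ∈ M) => comm_mem_of_relIndex hG iW.dvd hx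
  have eM := sup_zpowers_eq WM iW (cD g hg a) fun e => hag (comm_mem_symm e)
  obtain ⟨u, uN, hu⟩ : ∃ u, u ∉ N ∧ ⁅g, u⁆ ∈ W := by
    obtain ⟨w, hw, k, e⟩ := (mem_sup_zpowers (nle W _)).1 (eM.ge (cD g hg t))
    refine ⟨(a ^ k)⁻¹ * t, fun h => ht ((N.mul_mem_cancel_left (N.inv_mem (N.zpow_mem ha k))).1 h),
      comm_mem_of_mk ?_⟩
    rw [mk_comm_zpow (cM' _ (cD g hg a) a), e, QuotientGroup.mk_mul, mk_eq_one_of_mem hw, one_mul,
      QuotientGroup.mk_zpow]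
  have mC : ∀ {x s}, x ∈ D → x ∉ M → ⁅x, s⁆ ∈ W → s ∈ cMod D W := fun hx hx' h => mem_cMod.2
    fun y hy => comm_sup_zp (fun m hm => cM' m hm _) h y ((sup_zpowers_eq MD iM hx hx').ge hy)
  have eC : N ⊓ cMod D W = D := (eq_or_eq_of_relIndex (le_inf DN fun x hx => mem_cMod.2 fun y hy =>
    B2 y hy x hx ▸ one_mem _) inf_le_left iD).resolve_right fun e =>
      hag (comm_mem_symm (mem_cMod.1 (e.ge ha).2 g hg))
  have uC := mC hg hg' hu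
  have wu : Wt α D u (c * (c * c)) := eC.le ⟨wG u, Subgroup.mul_mem _ (Subgroup.inv_mem _ (Subgroup.zpow_mem _ uC _)) (mC (αD g hg)
    (fun e => hg' (mem_of_zpow_pg hG' (nd h0 h0 rfl) (M.inv_mem_iff.1 ((M.mul_mem_cancel_right e).1 wg))))
    (map_commutatorElement α g u ▸ αW _ hu))⟩
  have C1 : ∀ m ∈ M, ⁅m, u⁆ = 1 := fun m hm => comm_one_of_sup (fun w hw => A2 w hw u) (by
    have k1 := mem_cMod.1 uC _ (D.inv_mem hg)
    have := comm_mul_central (x := g) (y := a) (c := ⁅g⁻¹, u⁆) (d := ⁅a⁻¹, u⁆)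
      (comm_one_iff.1 (A2 _ k1 _)) (comm_one_iff.1 (B2 _ (cN _ (N.inv_mem ha) u) g hg))
    refine comm_one_symm (mul_inv_eq_one.2 (Eq.trans ?_ this))
    simp only [commutatorElement_def]
    group) m (eM.ge hm)
  have C2 : ⁅g, u⁆ = 1 := (kW n6).comm hG' wg wu (Y := cMod M ⊥) (mem_cMod.2 C1)
    (fun x hx => mem_cMod.2 fun m hm => B1 m hm x hx) (fun m hm v hv => mem_cMod.1 hv m hm) (B2 g hg) hu
  have C3 := comm_sup_zpowers (fun x hx y hy => comm_one_iff.1 (B2 x hx y hy)) fun x hx =>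
    (comm_one_iff.1 (comm_one_of_sup C1 C2 x (eD.ge hx))).symm
  by_contra hW
  have kl := phiF_le W
  haveI : (phiF W).Normal := normal_of_comm_mem fun w hw s => A2 w (kl hw) s ▸ one_mem _
  have αK : ∀ x ∈ phiF W, α x ∈ phiF W := fun x hx => (fW x (kl hx)).symm ▸ hx
  have p1 : ∀ x ∈ M, x ^ p ∈ phiF W := fun x hx => (kW h1).pow αK (wM x hx)
    (fun y hy => pow_mem_phiF hG le_top hy) (comm_one_iff.1 (cM x hx _ (αM x hx)))
    (pow_mem_of_relIndex (normal_le_normalizer _ _) iW hx)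
  have p2 : ∀ x ∈ D, x ^ p ∈ phiF W := fun x hx => (kM n1 n2).pow αK (wD x hx) p1
    (comm_one_iff.1 (B2 x hx _ (αD x hx))) (pow_mem_of_relIndex (normal_le_normalizer _ _) iM hx)
  have uH : u ∈ D ⊔ zpowers u := mem_sup_right (mem_zpowers u)
  have p3 : u ^ p ∈ phiF W := ((kM n3 n4).step hG' wD n5).pow αK wu p2
    (C3 u uH _ (wu.mem le_sup_left uH)) (eC.le ⟨pN u, pow_mem uC p⟩)
  have hc : ∀ x ∈ D ⊔ zpowers u, ∀ y ∈ D ⊔ zpowers u, ⁅x, y⁆ ∈ phiF W := fun x hx y hy =>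
    comm_one_iff.2 (C3 x hx y hy) ▸ one_mem _
  exact hr.chain hG (kl.lt_of_ne fun e => hW (le_bot_iff.1 (le_of_sup_phiF (S := ⊤) le_top bot_le
    (e.ge.trans le_sup_right)))) (WM.lt_of_ne fun e => hb' (e ▸ hb)) (MD.lt_of_ne fun e => hg' (e ▸ hg))
    (left_lt_sup.2 fun e => uN (DN (e (mem_zpowers u)))) le_top hc fun x hx => ((sup_le
      (fun y hy => ⟨mem_sup_left hy, p2 y hy⟩) (zpowers_le.2 ⟨uH, p3⟩) :
      _ ≤ om p _ _ (pcl_of_comm (normal_le_normalizer _ _) hc)) hx).2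

end Cfsg.Agent.H1
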