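import Cfsg.Agent.H1.R10

/-!
# Essential subgroups that are not normal
-/

set_option autoImplicit false
set_option linter.unusedSectionVars false

namespace Cfsg.Agent.H1

open Equiv Cfsg.Fus Cfsg.FusionSystem Subgroup
open scoped commutatorElement

universe u
variable {p : ℕ} [hp : Fact p.Prime]

theorem exists_comm_mem {G : Type*} [Group G] [Finite G] {M N : Subgroup G} (hG : IsPGroup p G)
    [N.Normal] (h : ¬ N ≤ M) : ∃ g ∈ N, g ∉ M ∧ ∀ s, ⁅g, s⁆ ∈ M := by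
  obtain ⟨n, hn⟩ := exists_lcs_eq_bot hG
  replace hn : N ⊓ lcs G n ≤ M := inf_le_right.trans (hn.le.trans bot_le)
  induction n with
  | zero => exact absurd (fun x hx => hn ⟨hx, trivial⟩) h
  | succ n ih =>
    by_cases e : N ⊓ lcs G n ≤ M
    · exact ih e
    · obtain ⟨g, h1, h2⟩ := SetLike.not_le_iff_exists.1 e
      exact ⟨g, h1.1, h2, fun s => hn ⟨comm_mem_left N h1.1 s, comm_mem_lcs h1.2 s⟩⟩

theorem exists_generic (hp5 : 5 ≤ p) : ∃ c d : ℤ, c * d ≡ 1 [ZMOD p] ∧ ∀ l j, j = 2 ∨ j = 3 ∨ j = 5 →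
    ¬ (p : ℤ) ∣ (c ^ p ^ l) ^ j - 1 := by
  have nd : ∀ q : ℕ, q.Prime → q ≠ p → ¬ (p : ℤ) ∣ q := fun q hq e h =>
    e ((Nat.prime_dvd_prime_iff_eq hp.out hq).1 (Int.natCast_dvd_natCast.1 h)).symm
  obtain ⟨c, h0, h⟩ : ∃ c : ℤ, ¬ (p : ℤ) ∣ c ∧ ∀ j, j = 2 ∨ j = 3 ∨ j = 5 → ¬ (p : ℤ) ∣ c ^ j - 1 := by
    by_cases e : p = 7 ∨ p = 31
    · refine ⟨3, nd 3 (by norm_num) (by omega), ?_⟩
      rintro j (rfl | rfl | rfl) <;> rcases e with rfl | rfl <;> norm_num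
    · refine ⟨2, nd 2 (by norm_num) (by omega), ?_⟩
      rintro j (rfl | rfl | rfl)
      exacts [nd 3 (by norm_num) (by omega), nd 7 (by norm_num) (by omega),
        nd 31 (by norm_num) (by omega)]
  obtain ⟨u, v, e⟩ := (Nat.prime_iff_prime_int.1 hp.out).irreducible.coprime_iff_not_dvd.2 h0
  refine ⟨c, v, Int.modEq_iff_dvd.2 ⟨u, by linear_combination -e⟩, fun l j hj h' => h j hj ?_⟩
  rw [← ZMod.intCast_zmod_eq_zero_iff_dvd] at h' ⊢
  simpa [ZMod.pow_card_pow] using h'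

variable {Ω : Type u} [Group Ω] {S N E M : Subgroup Ω} [Finite S] {F : FusionSystem S} {x s : Ω}

theorem comm_mem_of_nrm (hs : s ∈ normalizer (M : Set Ω)) (hx : x ∈ M) : ⁅x, s⁆ ∈ M := by
  simpa [commutatorElement_def, mul_assoc] using
    M.mul_mem hx (conj_mem_of_mem_normalizer hs (M.inv_mem hx))

theorem mapsTo_sup_zp {f : Ω → Ω} (hf : HomOn f (E ⊔ zpowers x)) (h1 : ∀ y ∈ E, f y ∈ M)
    (h2 : f x ∈ M) : ∀ y ∈ E ⊔ zpowers x, f y ∈ M := hf.mapsTo_sup h1 (by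
  rintro _ ⟨k, rfl⟩
  exact hf.map_zpow (mem_sup_right (mem_zpowers x)) k ▸ M.zpow_mem h2 k)

theorem nn_core (hS : IsPGroup p S) (hF : F.IsSaturated p) (hp5 : 5 ≤ p) (hr : SR3 p S)
    (hE : F.IsEssential p E) (hN : normalizerIn S E = N) (fN : F.IsFullyNormalized N) (hn : N ≠ S) :
    IsElementaryAbelian p E ∧ Nat.card E = p ^ 2 := by
  have hp2 : p ≠ 2 := by omega
  have lE := lEs_of_essential hS hF hr hE
  have NS : N ≤ S := fN.1
  have EN : E ≤ N := hN ▸ le_normalizerIn hE.le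
  have iE : E.relIndex N = p := hN ▸ lE.idx
  have NG := lt_normalizerIn hS (NS.lt_of_ne hn)
  obtain ⟨t, ht, tN⟩ := SetLike.exists_of_lt NG
  have mt := F.isMap_cj (le_refl S) ht.1
  have iso := (mt.mono hE.le).iso
  have l₂ := lEs_of_essential hS hF hr (essential_of_iso hE iso (lE.fn.of_map mt inf_le_left))
  have hN₂ : normalizerIn S (img (cj t) E) = N := by
    rw [← lE.fn.img_normalizerIn mt inf_le_left, hN, img_cj_eq_iff.2 ht.2]
  have hne : E ≠ img (cj t) E := fun e => tN (hN ▸ ⟨ht.1, img_cj_eq_iff.1 e.symm⟩)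
  generalize img (cj t) E = E₂ at iso l₂ hN₂ hne
  have ci : ∀ {A B σ}, F.Iso A B σ → IsMulCommutative A → IsMulCommutative B := fun h h' =>
    isMulCommutative_of_comm fun x hx y hy => by
      obtain ⟨x, hx', rfl⟩ := h.exists_eq hx
      obtain ⟨y, hy', rfl⟩ := h.exists_eq hy
      rw [← h.homOn hx' hy', comm_of_isMulCommutative h' x hx' y hy', h.homOn hy' hx']
  obtain ⟨T, cT, tE, t₂, hc⟩ := ((or_assoc.2 (pair_amb hp2 hr lE l₂ hN hN₂ hne)).resolve_right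
    fun h => h.nab (ci iso.symm h.el.1)).resolve_right fun h => h.nab (ci iso h.el.1)
  have EN₂ : E₂ ≤ N := hN₂ ▸ le_normalizerIn l₂.le
  have i₂ : E₂.relIndex N = p := hN₂ ▸ l₂.idx
  obtain ⟨y, hy, hy'⟩ := exists_mem_of_ne EN EN₂ iE i₂ hne
  have iM1 := relIndex_inf_of hS NS EN i₂ hy hy'
  have iT : F.AInv N T := fun τ hτ x hx =>
    apply_mem_of_characteristic cT (tE.le.trans EN) hτ.mem_autStab hx
  have iM : F.AInv N (E ⊓ E₂) := fun τ hτ x hx => by
    have k : ∀ s ∈ N, ⁅s, τ x⁆ ∈ T := fun s hs => by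
      obtain ⟨s, hs', rfl⟩ := hτ.exists_eq hs
      exact hτ.homOn.map_commutator hs' (EN hx.1) ▸ iT τ hτ _ (comm_mem_symm (hc x hx s hs'))
    exact ⟨lE.mem_of_ut tE tE.inv tE.le (hN ▸ hτ.mem (EN hx.1)) (fun y hy => k y (EN hy))
      fun y hy => k y (EN (tE.le hy)), l₂.mem_of_ut t₂ t₂.inv t₂.le (hN₂ ▸ hτ.mem (EN hx.1))
      (fun y hy => k y (EN₂ hy)) fun y hy => k y (EN₂ (t₂.le hy))⟩
  have pM : ∀ x ∈ N, x ^ p ∈ E ⊓ E₂ := fun x hx => ⟨lE.pow_mem (hN ▸ hx), l₂.pow_mem (hN₂ ▸ hx)⟩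
  have φM : phiF N ≤ E ⊓ E₂ :=
    le_inf (phiF_le_of_relIndex hS EN NS iE) (phiF_le_of_relIndex hS EN₂ NS i₂)
  have TM := le_inf tE.le t₂.le
  have ME : E ⊓ E₂ ≤ E := inf_le_left
  replace hy' : y ∉ E ⊓ E₂ := fun e => hy' e.2
  generalize E ⊓ E₂ = M at hc iM1 iM pM φM TM ME hy'
  clear l₂ hN₂ hne iso EN₂ i₂ t₂ ci
  have nM := aInv_normalizer iM NS
  have key : ∀ a ∈ E, a ∉ M → ∀ s ∈ normalizerIn S N, ⁅a, s⁆ ∈ M → s ∈ N := fun a ha ha' s hs h =>
    hN ▸ ⟨hs.1, normalizer_of_comm hE.le fun x hx => ME (comm_mem_symm (comm_mem_of_sup_zpowers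
      le_normalizer (nM (NG.le (EN ha))) (fun m hm => comm_mem_of_nrm (nM hs) hm) h x
      ((sup_zpowers_eq ME iM1 ha ha').ge hx)))⟩
  haveI := finite_of_le (normalizerIn_le S N)
  have hG := isPGroup_of_le hS (normalizerIn_le S N)
  have hG' := hG.to_subgroup ⊤
  haveI := normal_subgroupOf_of_le_normalizer nM
  haveI : (N.subgroupOf (normalizerIn S N)).Normal := normal_subgroupOf_of_le_normalizer inf_le_right
  obtain ⟨⟨g, gG⟩, hg, hg', cg⟩ := exists_comm_mem hG (N := N.subgroupOf _) (M := M.subgroupOf _)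
    fun e => hy' (e (x := ⟨y, NG.le (EN hy)⟩) (EN hy))
  replace hg : g ∈ N := hg
  replace hg' : g ∉ M := hg'
  replace cg : ∀ s ∈ normalizerIn S N, ⁅g, s⁆ ∈ M := fun s hs => cg ⟨s, hs⟩
  have gE : g ∉ E := fun e => tN (key g e hg' t ht (cg t ht))
  have iD1 := relIndex_sup_zpowers (nM gG) hg' (pM g hg)
  have DN : M ⊔ zpowers g ≤ N := sup_le (ME.trans EN) (zpowers_le.2 hg)
  have iD2 : (M ⊔ zpowers g).relIndex N = p := mul_left_cancel₀ hp.out.ne_zero (by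
    rw [← iD1, relIndex_mul_relIndex _ _ _ le_sup_left DN, ← relIndex_mul_relIndex _ _ _ ME EN, iM1, iE,
      iD1])
  have nD : normalizerIn S N ≤ normalizer (M ⊔ zpowers g : Subgroup Ω) := fun s hs =>
    normalizer_of_comm (DN.trans NS) fun x hx => mem_sup_left (comm_mem_symm (comm_mem_of_sup_zpowers
      le_normalizer (nM gG) (fun m hm => comm_mem_of_nrm (nM hs) hm) (cg s hs) x hx))
  have gD : g ∈ M ⊔ zpowers g := mem_sup_right (mem_zpowers g)
  have MD : M ≤ M ⊔ zpowers g := le_sup_left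
  haveI := normal_subgroupOf_of_le_normalizer nD
  have j1 := (relIndex_subgroupOf (DN.trans NG.le)).trans iD1
  have MD' : M.subgroupOf (normalizerIn S N) ≤ (M ⊔ zpowers g).subgroupOf _ := comap_mono MD
  have DN' : (M ⊔ zpowers g).subgroupOf (normalizerIn S N) ≤ N.subgroupOf _ := comap_mono DN
  have j2 := (relIndex_subgroupOf NG.le).trans iD2
  have iD : F.AInv N (M ⊔ zpowers g) := fun τ hτ => mapsTo_sup_zp (hτ.homOn.mono DN)
    (fun x hx => MD (iM τ hτ x hx)) (by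
      by_contra e
      obtain ⟨s, hs⟩ := exists_conj_mem hG' MD' DN' j1 j2 (a := ⟨y, NG.le (EN hy)⟩)
        (t := ⟨t, ht⟩) (x := ⟨τ g, NG.le (hτ.mem hg)⟩) (EN hy) (fun h => tN (key y hy hy' t ht h))
        (hτ.mem hg) e
      rw [subgroupOf_sup_zp (ME.trans (EN.trans NG.le))] at hs
      have σ := (F.iso_cj NS s.2.1 s.2.2).trans hτ.symm
      haveI := finite_of_le (DN.trans NS)
      have := lE.fn.2 _ ((σ.isMap.mono EN).iso_of_card (Q := M ⊔ zpowers g) (fun x hx => mapsTo_sup_zp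
        (σ.homOn.mono (sup_le (ME.trans EN) (zpowers_le.2 (EN hy)))) (fun m hm => MD (iM _ σ m hm))
        (mapsTo_sup_zp (hτ.symm.homOn.mono (sup_le (ME.trans EN) (zpowers_le.2 (hτ.mem hg))))
          (fun m hm => MD (iM _ hτ.symm m hm)) (by simpa using gD) _ hs) x
        ((sup_zpowers_eq ME iM1 hy hy').ge hx))
        (by rw [card_of_relIndex MD iD1, card_of_relIndex ME iM1])).isConj
      rw [hN] at this
      haveI i := finite_of_le (normalizerIn_le S (M ⊔ zpowers g))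
      exact (card_lt_of_lt_of_finite (Q := normalizerIn S _)
        (NG.trans_le (le_inf inf_le_left nD))).not_ge this)
  have ED : ∀ x ∈ E, x ∈ M ⊔ zpowers g → x ∈ M := fun x h1 h2 =>
    ((eq_or_eq_of_relIndex (le_inf ME MD) inf_le_right iD1).resolve_right
      fun e => gE (e.ge gD).1).le ⟨h1, h2⟩
  generalize M ⊔ zpowers g = D at *
  obtain ⟨e, a, W, q, k1, k2, k3⟩ := lE.st hp2 hr tE ME iM1 TM (hN.symm ▸ hc)
    (fun x hx => comm_mem_symm (cg x (NG.le (EN hx)))) (hN.symm ▸ hg) gE hy hy'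
  generalize ⁅y, g⁆ = b at q
  obtain ⟨c, d, hcd, hj⟩ := exists_generic hp5
  obtain ⟨β, b1, b2, b3, b4, b5, b6⟩ := q.torus c d hcd
  rw [hN] at b1
  have cM := card_of_relIndex MD iD1
  obtain ⟨τ, t1, t2⟩ := (fN.isReceptive hF hS).exists_ext_of_le b1 le_rfl fun s hs =>
    (fN.isFullyAutomized hF hS).opStab_le (b1.conj_mem_opStab (mem_opStab_three hS
      (F.iso_cj NS hs.1 hs.2) iD iM (conj_mem_of_relIndex hS hs.1 (nD hs) hs.2 iD2.dvd)
      (fun x hx _ => conj_mem_of_relIndex hS hs.1 (nM hs) (nD hs) iD1.dvd x hx) fun x hx _ =>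
      conj_mem_of_relIndex hS hs.1 (normalizer_phiF NS hs) (nM hs) (relIndex_dvd_of_card hS φM
        (ME.trans hE.le) (Nat.le_of_mul_le_mul_left (c := p * p) (by
          simpa [card_of_relIndex DN iD2, cM, pow_succ, mul_assoc] using hr.phi hS NS)
          (Nat.mul_pos hp.out.pos hp.out.pos))) x hx))
  have t3 := b1.congr t2
  have t4 := (t1.mono le_sup_right).iso_self fun s hs => by
    simpa [t3.img_eq] using t1.mem_normalizerIn le_sup_left (mem_sup_right hs) hs.2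
  have bM := e ▸ q.memb
  have WM := e ▸ q.le
  have WE := WM.trans ME
  obtain ⟨φ, hφ, rfl⟩ := q.conj
  have aE := hφ.mem (ME bM)
  obtain ⟨l, hl⟩ := q.exists_fix lE tE (H8.mem_oQ_congr hE.le b2 fun x hx => t2 x (EN hx))
    fun w hw => (t2 w (EN (WE hw))).symm ▸ b5 w hw
  have nT := iT.le_normalizer NS
  have nW := q.invW.le_normalizer hE.le
  have TN := tE.le.trans EN
  have iW : W.relIndex M = p := by
    rw [← e, ← q.sup]; exact relIndex_sup_zpowers (nW (ME bM)) q.nmem (q.le' q.powb)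
  have aM : φ b ∉ M := fun h => q.ne (hc _ h g hg)
  have eE := sup_zpowers_eq ME iM1 aE aM
  have ap := fun (x : normalizerIn S N) => resAut_apply (t4.pow (p ^ l)).mem_autStab x
  have hW := eq_bot_of_wt (W := W.subgroupOf _) (M := M.subgroupOf _) (α := resAut _ (τ ^ p ^ l)) hG'
    (hr.mono (normalizerIn_le S N)).top (comap_mono WM) MD' DN'
    ((relIndex_subgroupOf (ME.trans (EN.trans NG.le))).trans iW) j1 j2 (a := ⟨_, NG.le (EN aE)⟩)
    (g := ⟨g, gG⟩) (b := ⟨b, NG.le (EN (ME bM))⟩) (t := ⟨t, ht⟩) (c := c ^ p ^ l) (d := d ^ p ^ l)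
    (EN aE) gD hg' bM q.nmem (fun h => gE (lE.mem_of_ut tE q.invW WE (hN.symm ▸ hg) (fun x hx =>
      comm_mem_of_sup_zpowers (ME.trans nW) (nW aE) (fun m hm => q.le' (hc m hm g hg)) h x (eE.ge hx))
      fun x hx => hc x (WM hx) g hg)) (fun s h => key _ aE aM s s.2 h) tN
    (fun w hw => comm_one_iff.2 (Subtype.ext (k1 w hw _ aE)))
    (fun x hx y hy => comm_one_iff.2 (Subtype.ext (k2 x hx y hy)))
    (fun w hw => Subtype.ext ((ap w).trans (hl w hw)))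
    (fun x hx => by rw [mem_subgroupOf, ap]; exact iM _ (t3.pow _) x hx)
    (fun x hx => by rw [mem_subgroupOf, ap]; exact iD _ (t3.pow _) x hx)
    (by simpa [Wt, mem_subgroupOf, ap] using q.le' (wt_pow t3 (iT τ t3) TN (nT (EN (ME bM)))
      (EN (ME bM)) (t2 b (EN (ME bM)) ▸ b3) (p ^ l)))
    (by simpa [Wt, mem_subgroupOf, ap, ← mul_pow] using (wt_pow t3 (iM τ t3) (ME.trans EN) (nM gG) hg
      (ED _ (t2 g hg ▸ b6) (D.mul_mem (D.inv_mem (D.zpow_mem gD _)) (iD τ t3 g gD))) (p ^ l)))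
    (by simpa [Wt, mem_subgroupOf, ap] using TM (wt_pow t3 (iT τ t3) TN (nT (EN aE)) (EN aE)
      (t2 _ (EN aE) ▸ b4) (p ^ l)))
    (by simpa [mul_pow] using hcd.pow (p ^ l)) (hj l 2 (by simp)) (hj l 3 (by simp)) (hj l 5 (by simp))
  obtain rfl : W = ⊥ := (subgroupOf_eq_bot.1 hW).eq_bot_of_le (WE.trans (EN.trans NG.le))
  have bp : b ^ p = 1 := q.le' q.powb
  have hcm : ∀ x ∈ E, ∀ y ∈ E, ⁅x, y⁆ ∈ (⊥ : Subgroup Ω) := fun x hx y hy => q.le' (k3 x hx y hy)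
  refine ⟨⟨isMulCommutative_of_comm fun x hx y hy => commutatorElement_eq_one_iff_mul_comm.1
    (hcm x hx y hy), fun x hx => ((sup_le (sup_le bot_le (zpowers_le.2 ⟨ME bM, bp⟩)) (zpowers_le.2
      ⟨aE, (hφ.homOn.map_pow (ME bM) p).symm.trans (bp ▸ hφ.homOn.map_one)⟩) : _ ≤ om p E ⊥
      (pcl_of_comm (normal_le_normalizer _ _) hcm)) ((q.sup.trans e).symm ▸ eE.ge hx)).2⟩, ?_⟩
  rw [card_of_relIndex ME iM1, card_of_relIndex bot_le iW, card_bot, mul_one, sq]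

theorem nn_main (hS : IsPGroup p S) (hF : F.IsSaturated p) (hp5 : 5 ≤ p) (hr : SR3 p S)
    (hE : F.IsEssential p E) (hn : ¬ S ≤ normalizer (E : Set Ω)) :
    IsElementaryAbelian p E ∧ Nat.card E = p ^ 2 := by
  have fE := (lEs_of_essential hS hF hr hE).fn
  obtain ⟨τ, h1, h2⟩ := hF.exists_map_normalizer hS (normalizerIn_le S E)
  have NG := le_normalizerIn (normalizerIn_le S E)
  have i := (h1.mono ((le_normalizerIn hE.le).trans NG)).iso
  obtain ⟨h3, h4⟩ := nn_core hS hF hp5 hr (essential_of_iso hE i (fE.of_map h1 NG))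
    (fE.img_normalizerIn h1 NG).symm h2 fun e => hn ((eq_of_le_of_card_ge (normalizerIn_le S E)
      (by rw [← (h1.mono NG).card_img, e])).ge.trans inf_le_right)
  refine ⟨⟨isMulCommutative_of_comm fun x hx y hy => τ.injective ?_, fun x hx => τ.injective ?_⟩,
    i.card_eq.trans h4⟩
  · rw [i.homOn hx hy, i.homOn hy hx, comm_of_isMulCommutative h3.1 _ (i.mem hx) _ (i.mem hy)]
  · rw [i.homOn.map_pow hx, h3.2 _ (i.mem hx), i.homOn.map_one]

end Cfsg.Agent.H1
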