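import Cfsg.Agent.H1.R1

/-!
# Transvections on sections that need not be faithful
-/

set_option autoImplicit false
set_option linter.unusedSectionVars false

namespace Cfsg.Agent.H1

open Equiv Cfsg.Fus Cfsg.FusionSystem Subgroup
open scoped commutatorElement

theorem strEmb_of_syl {Γ : Type*} [Group Γ] {p : ℕ} [hp : Fact p.Prime] {B : Subgroup Γ} {u ψ : Γ}
    (hu : u ∈ B) (hup : u ^ p = 1) (h1 : u ≠ 1)
    (syl : ∀ V ≤ B, IsPGroup p V → ∃ χ, ∀ v ∈ V, χ * v * χ⁻¹ ∈ zpowers u)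
    (hψ : ψ ∈ B) (hn : ψ ∉ normalizer (zpowers u : Set Γ)) : ∃ Y, StrEmbMod p ⊥ B Y := by
  have pz : ∀ x : Γ, (∃ k : ℕ, x ^ p ^ k ∈ (⊥ : Subgroup Γ)) → IsPGroup p (zpowers x) := by
    rintro x ⟨k, hk⟩ ⟨_, j, rfl⟩
    exact ⟨k, Subtype.ext (by
      simp only [SubmonoidClass.coe_pow]
      rw [← zpow_natCast, zpow_comm, zpow_natCast, mem_bot.1 hk, one_zpow]; rfl)⟩
  have key : ∀ x ∈ B ⊓ normalizer (zpowers u : Set Γ), (∃ k : ℕ, x ^ p ^ k ∈ (⊥ : Subgroup Γ)) →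
      x ∈ zpowers u := fun x hx hk => by
    obtain ⟨χ, hχ⟩ := syl _ (sup_le (zpowers_le.2 hu) (zpowers_le.2 hx.1))
      ((pz u ⟨1, by simpa⟩).to_sup_of_normal_left' (pz x hk) (zpowers_le.2 hx.2))
    obtain ⟨k, e⟩ := exists_zpow_eq_of_prime hup (hχ u (mem_sup_left (mem_zpowers u))) (by simpa)
      (hχ x (mem_sup_right (mem_zpowers x)))
    exact ⟨k, by simpa using e⟩
  refine ⟨B ⊓ normalizer (zpowers u : Set Γ), inf_le_left, by simp,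
    fun e => hn (e.ge hψ).2, ⟨u, ⟨hu, le_normalizer (mem_zpowers u)⟩, h1, 1, by simpa⟩,
    fun x hx x1 hk g hg h => ⟨hg, ?_⟩⟩
  obtain ⟨k, e⟩ := exists_zpow_eq_of_prime hup (key x hx hk) x1 (mem_zpowers u)
  have h2 := key _ h (hk.imp fun k hk => by rw [conj_pow, mem_bot.1 hk]; simp)
  haveI : Finite (zpowers u) := finite_zpowers.2 (isOfFinOrder_iff_pow_eq_one.2 ⟨p, hp.out.pos, hup⟩)
  refine mem_normalizer_of_finite ?_
  rintro _ ⟨j, rfl⟩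
  have := zpow_mem h2 (k * j)
  rwa [conj_zpow, zpow_mul, e] at this

variable {Ω : Type*} [Group Ω] {S T E R A B D K W X Z : Subgroup Ω} [Finite S]
  {F : FusionSystem S} {p : ℕ} [hp : Fact p.Prime] {g a b x y : Ω} {σ τ : Perm Ω}

theorem conj_mem_iff_comm (hx : x ∈ normalizer (D : Set Ω)) :
    x⁻¹ * (g * x * g⁻¹) ∈ D ↔ ⁅x, g⁆ ∈ D :=
  ⟨comm_mem_of_conj hx, fun h => inv_conj_eq x g ▸ ((commMod D g).inv_mem ⟨hx, h⟩).2⟩

/-- The fixed points of `g` on `D / Z`. -/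
def cfix (D Z : Subgroup Ω) (g : Ω) : Subgroup Ω := D ⊓ commMod Z g

theorem mem_cfix (h : D ≤ normalizer (Z : Set Ω)) : x ∈ cfix D Z g ↔ x ∈ D ∧ ⁅x, g⁆ ∈ Z :=
  ⟨fun hx => ⟨hx.1, hx.2.2⟩, fun hx => ⟨hx.1, h hx.1, hx.2⟩⟩

theorem cfix_le (D Z : Subgroup Ω) (g : Ω) : cfix D Z g ≤ D := inf_le_left

theorem tv_of_hyper (hS : IsPGroup p S) (hD : D ≤ S) (hZ : Z ≤ D) (hg : g ∈ S)
    (hgD : g ∈ normalizer (D : Set Ω)) (hgZ : g ∈ normalizer (Z : Set Ω))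
    (hc : ∀ x ∈ D, ∀ y ∈ D, ⁅x, y⁆ ∈ Z) (hi : (cfix D Z g).relIndex D = p) (hy : y ∈ D)
    (hy' : y ∉ cfix D Z g) : ⁅y, g⁆ ∈ cfix D Z g ∧ ⁅y, g⁆ ^ p ∈ Z ∧
      ∀ x ∈ D, ⁅x, g⁆ ∈ Z ⊔ zpowers ⁅y, g⁆ := by
  haveI := finite_of_le hD
  have nZ : D ≤ normalizer (Z : Set Ω) := fun x hx =>
    normalizer_of_comm (hZ.trans hD) fun z hz => hc x hx z (hZ hz)
  have nX := le_normalizer_of_relIndex (isPGroup_of_le hS hD) (cfix_le D Z g) hi
  have cD : ∀ x ∈ D, ⁅x, g⁆ ∈ D := fun x hx => by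
    simpa [commutatorElement_def, mul_assoc] using
      D.mul_mem hx (conj_mem_of_mem_normalizer hgD (D.inv_mem hx))
  have hb := cD y hy
  have ZX : Z ≤ cfix D Z g := fun z hz => (mem_cfix nZ).2 ⟨hZ hz, by
    simpa [commutatorElement_def, mul_assoc] using
      Z.mul_mem hz (conj_mem_of_mem_normalizer hgZ (Z.inv_mem hz))⟩
  refine ⟨(conj_mem_iff_comm (nX hy)).1 (conj_mem_of_relIndex hS hg (normalizer_of_comm
    ((cfix_le D Z g).trans hD) fun x hx => ZX (comm_mem_symm hx.2.2)) hgD hi.dvd y hy), ?_, ?_⟩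
  · haveI := normal_subgroupOf_of_le_normalizer nZ
    have h1 := (pow_mem_of_relIndex nX hi hy).2.2
    have h2 := conj_mem_of_mem_normalizer hgD (D.inv_mem hy)
    have h3 := (comm_mem_iff_mk (D := Z.subgroupOf D) (x := ⟨y, hy⟩) (y := ⟨_, h2⟩)).1 (hc _ hy _ h2)
    have e1 : ⁅y, g⁆ = y * (g * y⁻¹ * g⁻¹) := by simp [commutatorElement_def, mul_assoc]
    have e2 : ⁅y ^ p, g⁆ = y ^ p * (g * y⁻¹ * g⁻¹) ^ p := by
      rw [conj_pow]; simp [commutatorElement_def, mul_assoc]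
    rw [e1]; rw [e2] at h1
    refine (QuotientGroup.eq_one_iff (N := Z.subgroupOf D) ((⟨y, hy⟩ * ⟨_, h2⟩) ^ p)).1 ?_
    rw [QuotientGroup.mk_pow, QuotientGroup.mk_mul, Commute.mul_pow h3]
    exact (QuotientGroup.eq_one_iff (N := Z.subgroupOf D) (⟨y, hy⟩ ^ p * ⟨_, h2⟩ ^ p)).2 h1
  · have nK : D ≤ normalizer ((Z ⊔ zpowers ⁅y, g⁆ : Subgroup Ω) : Set Ω) := fun x hx =>
      normalizer_of_comm ((sup_le hZ (zpowers_le.2 hb)).trans hD) fun z hz =>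
        mem_sup_left (hc x hx z (sup_le hZ (zpowers_le.2 hb) hz))
    rw [← sup_zpowers_eq (cfix_le D Z g) hi hy hy']
    exact comm_mem_of_sup_zpowers ((cfix_le D Z g).trans nK) (nK hy)
      (fun x hx => mem_sup_left hx.2.2) (mem_sup_right (mem_zpowers _))

/-- A fully normalized subgroup of index `p` in its normaliser, not enlarged by `O_p`. -/
structure LEs (F : FusionSystem S) (p : ℕ) (E : Subgroup Ω) : Prop where
  pg : IsPGroup p S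
  sat : F.IsSaturated p
  fn : F.IsFullyNormalized E
  rad : ∀ g ∈ S, cj g ∈ F.opStab p E → g ∈ E
  idx : E.relIndex (normalizerIn S E) = p

/-- `T` is an invariant subgroup of `E` on which `O^{p'}(Aut_F(E))` acts as a `p`-group. -/
structure UT (F : FusionSystem S) (p : ℕ) (E T : Subgroup Ω) : Prop where
  le : T ≤ E
  inv : F.AInv E T
  uni : ∀ τ ∈ H8.oQ F p E, ∃ k, τ ^ p ^ k ∈ fixP T

theorem ut_bot (hE : E ≤ S) : UT F p E ⊥ := ⟨bot_le, aInv_bot F E, fun _ hτ =>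
  ⟨0, by simpa using fixP_bot_of_homOn (H8.iso_of_mem_oQ hE hτ).homOn⟩⟩

theorem cj_mem_oQ (hS : IsPGroup p S) (hE : E ≤ S) (hg : g ∈ S) (hn : g ∈ normalizer (E : Set Ω)) :
    cj g ∈ H8.oQ F p E := (H8.qEl_cj hS hE hg hn).mem_oQ

theorem conj_mem_of_comm (h : F.AInv E A) (hE : E ≤ S) (hx : x ∈ E) (hc : ⁅x, g⁆ ∈ A) :
    x⁻¹ * cj g x ∈ A := (conj_mem_iff_comm (h.le_normalizer hE hx)).2 hc

namespace LEs

variable (h : LEs F p E)
include h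

theorem le : E ≤ S := h.fn.le

theorem cent : F.IsCentric E := (h.fn.isFullyCentralized h.sat h.pg).isCentric h.sat h.pg
  fun g hg => h.rad g hg.1 (F.fixP_le_opStab p E (cj_mem_fixP.2 hg.2))

theorem fa : F.IsFullyAutomized p E := h.fn.isFullyAutomized h.sat h.pg

theorem sup_eq (hg : g ∈ normalizerIn S E) (hgE : g ∉ E) : E ⊔ zpowers g = normalizerIn S E :=
  sup_zpowers_eq (le_normalizerIn h.le) h.idx hg hgE

theorem pow_mem (hg : g ∈ normalizerIn S E) : g ^ p ∈ E := pow_mem_of_relIndex inf_le_right h.idx hg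

theorem exists_eq (hg : g ∈ normalizerIn S E) (hgE : g ∉ E) (hx : x ∈ normalizerIn S E) :
    ∃ e ∈ E, ∃ k : ℤ, x = e * g ^ k := (mem_sup_zpowers hg.2).1 ((h.sup_eq hg hgE).ge hx)

/-- `O^{p'}` acts trivially on the sections on which the normaliser acts trivially. -/
theorem oQ_triv (hA : F.AInv E A) (hB : F.AInv E B) (hBE : B ≤ E)
    (ht : ∀ s ∈ normalizerIn S E, ∀ x ∈ B, ⁅x, s⁆ ∈ A) (hτ : τ ∈ H8.oQ F p E) :
    ∀ x ∈ B, x⁻¹ * τ x ∈ A := by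
  have a1 : ∀ σ, F.Iso E E σ → σ ∈ autStab B := fun σ hσ =>
    ⟨hσ.homOn.mono hBE, hB.mem_setStab hσ⟩
  refine ((H8.oQ_le_iff (A := trivOn A B)).2 (fun σ hσ => ?_) hτ).2
  obtain ⟨k, hk⟩ := hσ.2
  obtain ⟨χ, hχ, e⟩ := h.fa.exists_conj_elt hσ.1 hk
  obtain ⟨s, hs, hn, e'⟩ := mem_innS.1 e
  have := conj_mem_trivOn (σ := χ * σ * χ⁻¹) ⟨a1 _ (hχ.conj hσ.1), fun x hx => by
    rw [e' x (hBE hx)]; exact conj_mem_of_comm hA h.le (hBE hx) (ht s ⟨hs, hn⟩ x hx)⟩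
    (a1 _ hχ.symm) fun x hx _ => hA _ hχ.symm x hx
  simpa [mul_assoc] using this

theorem oQ_triv_of_dvd (hA : F.AInv E A) (hB : F.AInv E B) (hBE : B ≤ E) (hi : A.relIndex B ∣ p)
    (hτ : τ ∈ H8.oQ F p E) : ∀ x ∈ B, x⁻¹ * τ x ∈ A :=
  h.oQ_triv hA hB hBE (fun _ hs x hx => (conj_mem_iff_comm (hA.le_normalizer h.le (hBE hx))).1
    (conj_mem_of_relIndex h.pg hs.1 (aInv_normalizer hA h.le hs) (aInv_normalizer hB h.le hs) hi x hx))
    hτ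

theorem mem_of_ut (hT : UT F p E T) (hX : F.AInv E X) (hXE : X ≤ E) (hg : g ∈ normalizerIn S E)
    (h1 : ∀ x ∈ E, ⁅x, g⁆ ∈ X) (h2 : ∀ x ∈ X, ⁅x, g⁆ ∈ T) : g ∈ E := by
  refine h.rad g hg.1 ((F.iso_cj h.le hg.1 hg.2).mem_opStab_of_chain' h.pg
    (C := fun i => if i = 0 then T else if i = 1 then X else E) (n := 2) (fun i _ => ?_) rfl
    (fun τ hτ i _ => ?_) (fun τ hτ u hu => H8.conj_mem_oQ hτ hu) (cj_mem_oQ h.pg h.le hg.1 hg.2)
    (fun τ hτ _ => hT.uni τ hτ) fun i hi => ?_)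
  · split_ifs; exacts [hT.le, hXE, le_rfl]
  · split_ifs; exacts [hT.inv τ hτ, hX τ hτ, fun _ => hτ.mem]
  · interval_cases i
    · exact fun x hx => conj_mem_of_comm hT.inv h.le (hXE hx) (h2 x hx)
    · exact fun x hx => conj_mem_of_comm hX h.le hx (h1 x hx)

theorem mem_of_three (hD : F.AInv E D) (hK : F.AInv E K) (hg : g ∈ normalizerIn S E)
    (h1 : ∀ x ∈ E, ⁅x, g⁆ ∈ D) (h2 : ∀ x ∈ D, x ∈ E → ⁅x, g⁆ ∈ K)
    (h3 : ∀ x ∈ K, x ∈ E → ⁅x, g⁆ ∈ phiF E) : g ∈ E :=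
  h.rad g hg.1 (mem_opStab_three h.pg (F.iso_cj h.le hg.1 hg.2) hD hK
    (fun x hx => conj_mem_of_comm hD h.le hx (h1 x hx))
    (fun x hx hx' => conj_mem_of_comm hK h.le hx' (h2 x hx hx'))
    fun x hx hx' => conj_mem_of_comm (aInv_phiF F E) h.le hx' (h3 x hx hx'))

theorem mem_of_det (hD : F.Det p E D) (hDE : D ≤ E) (hi : F.AInv E D) (hA : F.AInv E A)
    (hB : F.AInv E B) (hX : F.AInv E X) (hg : g ∈ normalizerIn S E) (h1 : ∀ x ∈ D, ⁅x, g⁆ ∈ A)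
    (h2 : ∀ x ∈ D ⊓ A, ⁅x, g⁆ ∈ B) (h3 : ∀ x ∈ D ⊓ B, ⁅x, g⁆ ∈ X) (h4 : ∀ x ∈ D ⊓ X, ⁅x, g⁆ = 1) :
    g ∈ E := by
  have hσ := F.iso_cj h.le hg.1 hg.2
  have key : ∀ Y, F.AInv E Y → ∀ x ∈ D, ⁅x, g⁆ ∈ Y → x⁻¹ * cj g x ∈ D ⊓ Y := fun Y hY x hx hc =>
    ⟨D.mul_mem (D.inv_mem hx) (hi _ hσ x hx), conj_mem_of_comm hY h.le (hDE hx) hc⟩
  refine h.rad g hg.1 (hD.mem_opStab hσ h.pg (C := fun i => if i = 0 then ⊥ else if i = 1 then D ⊓ X
    else if i = 2 then D ⊓ B else if i = 3 then D ⊓ A else D) (n := 4) (fun i _ => ?_) rfl rfl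
    (fun i _ => ?_) fun i hi => ?_)
  · split_ifs
    exacts [bot_le, inf_le_left.trans hDE, inf_le_left.trans hDE, inf_le_left.trans hDE, hDE]
  · split_ifs; exacts [aInv_bot F E, aInv_inf hi hX, aInv_inf hi hB, aInv_inf hi hA, hi]
  · interval_cases i
    · exact fun x hx => (key ⊥ (aInv_bot F E) x hx.1 (h4 x hx)).2
    · exact fun x hx => key X hX x hx.1 (h3 x hx)
    · exact fun x hx => key B hB x hx.1 (h2 x hx)
    · exact fun x hx => key A hA x hx (h1 x hx)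

end LEs

theorem lEs_of_essential (hS : IsPGroup p S) (hF : F.IsSaturated p) (hr : SR3 p S)
    (hE : F.IsEssential p E) : LEs F p E := by
  refine ⟨hS, hF, hE.isFullyNormalized,
    fun g hg => hE.isCentric.mem_of_cj_mem_opStab (hE.isRadical hS) hg, ?_⟩
  have key : HasTv S E → E.relIndex (normalizerIn S E) = p := by
    rintro ⟨g, hg, hn, hgE, b, hb, h1, h2⟩
    obtain ⟨a, W, t⟩ := (fSec_phiF hS hE).exists_qTv hS hg hn hgE hb (pow_mem_phiF hS hE.le hb) h1 h2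
    rw [← relIndex_sup_zpowers hn hgE t.gp]
    congr 1
    refine le_antisymm (fun s hs => ?_) (sup_le (le_normalizerIn hE.le) (zpowers_le.2 ⟨hg, hn⟩))
    obtain ⟨k, hk⟩ := t.norm s hs.1 hs.2
    simpa using mul_mem (mem_sup_right (zpow_mem_zpowers g k)) (mem_sup_left hk)
  by_cases hc : Nat.card E ≤ p ^ 2 * Nat.card (phiF E)
  · exact key (hasTv_of_rank_two hS (hE.lt hF hS) hc)
  haveI := finite_of_le hE.le
  have NS := normalizerIn_le S E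
  haveI := finite_of_le NS
  have pN := isPGroup_of_le hS NS
  have EN := le_normalizerIn hE.le
  have nP := normalizer_phiF hE.le
  have cE : ∀ x ∈ E, ∀ y ∈ E, ⁅x, y⁆ ∈ phiF E := fun _ hx _ hy =>
    commutator_le_phiF hS hE.le (commutator_mem_commutator hx hy)
  haveI := finite_of_le (phiF_le E)
  obtain ⟨b, hb, b1, b2, b3⟩ := Fus.exists_central_mod pN EN nP inf_le_right fun e =>
    hc ((card_le_of_le e).trans
      (Nat.le_mul_of_pos_left _ (pow_pos hp.out.pos 2)))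
  have l2 : phiF E ⊔ zpowers b ≤ E := sup_le (phiF_le E) (zpowers_le.2 hb)
  haveI := finite_of_le l2
  have n2 : normalizerIn S E ≤ normalizer ((phiF E ⊔ zpowers b : Subgroup Ω) : Set Ω) := fun g hg =>
    mem_normalizer_sup_zpowers ((phiF_le E).trans hE.le) (hE.le hb) (nP hg) (b3 g hg)
  have c2 := card_sup_zp (nP (EN hb)) b1 b2
  obtain ⟨x, hx, x1, x2, x3⟩ := Fus.exists_central_mod pN EN n2 inf_le_right fun e =>
    hc ((card_le_of_le e).trans (c2.le.trans (Nat.mul_le_mul_right _ (Nat.le_self_pow two_ne_zero p))))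
  have l3 : phiF E ⊔ zpowers b ⊔ zpowers x ≤ E := sup_le l2 (zpowers_le.2 hx)
  have c3 := card_sup_zp (n2 (EN hx)) x1 x2
  have h1 := relIndex_commMod_le nP (nP (EN hx)) fun s hs =>
    comm_mem_symm (comm_mem_of_conj (n2 (EN hx)) (x3 s hs))
  rw [relIndex_sup_zpowers (nP (EN hb)) b1 b2] at h1
  by_cases hle : commMod (phiF E) x ⊓ normalizerIn S E ≤ E
  · have := relIndex_le_of_le_left hle (relIndex_ne_zero_of_finite (le_refl (normalizerIn S E)))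
    rw [inf_relIndex_right] at this
    exact relIndex_eq_of_le hS NS (this.trans h1) (lt_normalizerIn hS (hE.lt hF hS)).not_ge
  obtain ⟨g, hg, hgE⟩ := SetLike.not_le_iff_exists.1 hle
  have l4 : phiF E ⊔ zpowers b ⊔ zpowers x ≤ cfix E (phiF E) g := sup_le (sup_le (fun z hz =>
    (mem_cfix (EN.trans nP)).2 ⟨phiF_le E hz, by
      simpa [commutatorElement_def, mul_assoc] using
        (phiF E).mul_mem hz (conj_mem_of_mem_normalizer (nP hg.2) ((phiF E).inv_mem hz))⟩)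
    (zpowers_le.2 ((mem_cfix (EN.trans nP)).2 ⟨hb, comm_mem_of_conj (nP (EN hb)) (b3 g hg.2)⟩)))
    (zpowers_le.2 ((mem_cfix (EN.trans nP)).2 ⟨hx, comm_mem_symm hg.1.2⟩))
  have hne : ¬ E ≤ cfix E (phiF E) g := fun e => hgE (hE.isCentric.mem_of_cj_mem_opStab
    (hE.isRadical hS) hg.2.1 (H8.mem_opStab_of_frattini hS (F.iso_cj hE.le hg.2.1 hg.2.2)
      fun x hx => conj_mem_of_comm (aInv_phiF F E) hE.le hx (e hx).2.2))
  have hi : (cfix E (phiF E) g).relIndex E = p := by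
    haveI := finite_of_le (cfix_le E (phiF E) g)
    refine ((Nat.dvd_prime hp.out).1 (relIndex_dvd_of_card hS (cfix_le _ _ _) hE.le
      ((hr.phi hS hE.le).trans (le_trans ?_ (Nat.mul_le_mul_left p (card_le_of_le l4)))))).resolve_left
      fun e => hne (relIndex_eq_one.1 e)
    rw [c3, c2]; exact le_of_eq (by ring)
  obtain ⟨y, hy, hy'⟩ := SetLike.not_le_iff_exists.1 hne
  obtain ⟨t1, -, t3⟩ := tv_of_hyper hS hE.le (phiF_le E) hg.2.1 hg.2.2 (nP hg.2) cE hi hy hy'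
  exact key ⟨g, hg.2.1, hg.2.2, hgE, _, t1.1, conj_mem_of_comm (aInv_phiF F E) hE.le t1.1 t1.2.2,
    fun x hx => inv_conj_eq x g ▸ t3 _ (E.inv_mem hx)⟩

/-- `D / Z` is an invariant abelian section centralised by `E`. -/
structure Sec (F : FusionSystem S) (E D Z : Subgroup Ω) : Prop where
  leS : E ≤ S
  le : D ≤ E
  le' : Z ≤ D
  invD : F.AInv E D
  invZ : F.AInv E Z
  inn : ∀ e ∈ E, ∀ x ∈ D, ⁅x, e⁆ ∈ Z

namespace Sec

variable (h : Sec F E D Z)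
include h

theorem norm : E ≤ normalizer (Z : Set Ω) := h.invZ.le_normalizer h.leS

theorem normal : (Z.subgroupOf D).Normal := normal_subgroupOf_of_le_normalizer (h.le.trans h.norm)

theorem comm [(Z.subgroupOf D).Normal] : IsMulCommutative (D ⧸ Z.subgroupOf D) := ⟨⟨fun x y => by
  obtain ⟨x, rfl⟩ := QuotientGroup.mk_surjective x
  obtain ⟨y, rfl⟩ := QuotientGroup.mk_surjective y
  exact comm_mem_iff_mk.1 (h.inn _ (h.le y.2) _ x.2)⟩⟩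

/-- The action on the section. -/
noncomputable def act [(Z.subgroupOf D).Normal] : F.stab E →* MulAut (D ⧸ Z.subgroupOf D) where
  toFun σ := QuotientGroup.congr _ _ (resHom D ⟨σ, ((mem_stab h.leS).1 σ.2).homOn.mono h.le,
    h.invD.mem_setStab ((mem_stab h.leS).1 σ.2)⟩) (by
    have h1 := h.invZ.mem_setStab ((mem_stab h.leS).1 σ.2)
    ext x
    refine mem_map_equiv.trans ?_
    rw [mem_subgroupOf, ← h1, ← resHom_apply ⟨σ.1, ((mem_stab h.leS).1 σ.2).homOn.mono h.le,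
      h.invD.mem_setStab ((mem_stab h.leS).1 σ.2)⟩, MulEquiv.apply_symm_apply, mem_subgroupOf])
  map_one' := by ext x; induction x using QuotientGroup.induction_on; rfl
  map_mul' φ ψ := by ext x; induction x using QuotientGroup.induction_on; rfl

theorem act_mk [(Z.subgroupOf D).Normal] (σ : F.stab E) (x : D) :
    h.act σ x = (⟨σ.1 x, h.invD _ ((mem_stab h.leS).1 σ.2) x x.2⟩ : D) := rfl

theorem act_mk_eq [(Z.subgroupOf D).Normal] (σ : F.stab E) (x y : D) :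
    h.act σ x = y ↔ (y : Ω)⁻¹ * σ.1 x ∈ Z := by
  rw [h.act_mk, eq_comm, QuotientGroup.eq, mem_subgroupOf]; rfl

theorem act_eq_one [(Z.subgroupOf D).Normal] (σ : F.stab E) (hσ : σ.1 ∈ innS E E) :
    h.act σ = 1 := by
  obtain ⟨e, he, h1⟩ := mem_innS_self.1 hσ
  ext x
  obtain ⟨x, rfl⟩ := QuotientGroup.mk_surjective x
  exact (h.act_mk_eq σ x x).2 (h1 x (h.le x.2) ▸ conj_mem_of_comm h.invZ h.leS (h.le x.2)
    (h.inn e he x x.2))

end Sec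

namespace LEs

variable (hE : LEs F p E) (h : Sec F E D Z) [(Z.subgroupOf D).Normal] (hg : g ∈ normalizerIn S E)
  (hgE : g ∉ E)

/-- Conjugation as an element of the stabiliser. -/
abbrev gam (hE : LEs F p E) (hg : g ∈ normalizerIn S E) : F.stab E :=
  ⟨cj g, (F.iso_cj hE.le hg.1 hg.2).mem_stab⟩

include hgE in
theorem inn (σ : F.stab E) (hσ : σ.1 ∈ innS S E) : ∃ k : ℤ,
    (cj (g ^ k))⁻¹ * σ.1 ∈ innS E E ∧ h.act (hE.gam hg) ^ k = h.act σ := by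
  obtain ⟨s, hs, hn, e⟩ := mem_innS.1 hσ
  obtain ⟨x, hx, k, rfl⟩ := hE.exists_eq hg hgE ⟨hs, hn⟩
  have : (cj (g ^ k))⁻¹ * σ.1 ∈ innS E E := mem_innS_self.2
    ⟨_, conj_inv_mem_of_mem_normalizer (Subgroup.zpow_mem _ hg.2 k) hx, fun z hz => by
      simp only [Perm.mul_apply, cj_inv_apply, e z hz]; group⟩
  refine ⟨k, this, ?_⟩
  rw [map_zpow] at this
  simpa [inv_mul_eq_one] using h.act_eq_one ((hE.gam hg ^ k)⁻¹ * σ) this

/-- The kernel of the action on the section. -/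
noncomputable def _root_.Cfsg.Agent.H1.Sec.kr : Subgroup (Perm Ω) := h.act.ker.map (F.stab E).subtype

theorem _root_.Cfsg.Agent.H1.Sec.mem_kr (σ : F.stab E) : σ.1 ∈ h.kr ↔ h.act σ = 1 :=
  mem_map_iff_mem (F.stab E).subtype_injective

theorem _root_.Cfsg.Agent.H1.Sec.le_normalizer_kr : F.stab E ≤ normalizer (h.kr : Set (Perm Ω)) :=
  (normal_subgroupOf_iff_le_normalizer (map_subtype_le _)).1 (by
    rw [show (h.act.ker.map (F.stab E).subtype).subgroupOf (F.stab E) = h.act.ker from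
      comap_map_eq_self_of_injective (F.stab E).subtype_injective _]
    infer_instance)

include hgE in
theorem emb (h1 : h.act (hE.gam hg) ^ p = 1) (h2 : h.act (hE.gam hg) ≠ 1)
    (hn : ¬ ∀ ψ, h.act ψ ∈ normalizer (zpowers (h.act (hE.gam hg)) : Set _)) :
    ∃ Y, StrEmbMod p ⊥ h.act.range Y := by
  obtain ⟨ψ, hψ⟩ := not_forall.1 hn
  refine strEmb_of_syl ⟨_, rfl⟩ h1 h2 (fun V hV' hV => ?_) ⟨_, rfl⟩ hψ
  obtain ⟨χ, hχ, e⟩ := (hE.fa.sylMod.of_le (F.finMod_stab hE.le) (fun σ hσ =>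
    (h.mem_kr ⟨σ, F.fixP_le_stab E hσ⟩).2 (h.act_eq_one _ (fixP_le_innS E E hσ)))
    h.le_normalizer_kr).conj ((V.comap h.act).map (F.stab E).subtype) (map_subtype_le _) (by
      rintro _ ⟨σ, hσ, rfl⟩
      obtain ⟨k, hk⟩ := hV ⟨_, hσ⟩
      exact ⟨k, (h.mem_kr (σ ^ p ^ k)).2 ((map_pow _ _ _).trans (congrArg Subtype.val hk))⟩)
  refine ⟨h.act ⟨χ, hχ⟩, fun v hv => ?_⟩
  obtain ⟨σ, rfl⟩ := hV' hv
  obtain ⟨u, hu, e⟩ := e σ ⟨σ, hv, rfl⟩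
  obtain ⟨k, -, hk⟩ := hE.inn h hg hgE ⟨u, F.innS_le_stab hE.le hu⟩ hu
  have := (h.mem_kr (⟨u, F.innS_le_stab hE.le hu⟩⁻¹ * (⟨χ, hχ⟩ * σ * ⟨χ, hχ⟩⁻¹))).1 e
  rw [map_mul, map_inv, inv_mul_eq_one, ← hk, map_mul, map_mul, map_inv] at this
  exact ⟨k, this⟩

include hgE in
theorem adjust (h1 : h.act (hE.gam hg) ^ p = 1) (h2 : h.act (hE.gam hg) ≠ 1) {τ : F.stab E}
    (oτ : τ.1 ∈ H8.oQ F p E) {m : ℤ}
    (h8 : h.act τ * h.act (hE.gam hg) * (h.act τ)⁻¹ = h.act (hE.gam hg) ^ m) :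
    ∃ τ' : F.stab E, h.act τ' = h.act τ ∧ ∃ β, F.Iso (normalizerIn S E) (normalizerIn S E) β ∧
      β ∈ H8.oQ F p E ∧ (∀ x ∈ E, β x = τ'.1 x) ∧ (g ^ m)⁻¹ * β g ∈ E := by
  have hES := hE.le
  have NE : h.kr ≤ F.stab E := map_subtype_le _
  have oγ := cj_mem_oQ (F := F) hE.pg hES hg.1 hg.2
  have nK : innS S E ≤ normalizer ((H8.oQ F p E ⊓ h.kr : Subgroup (Perm Ω)) : Set (Perm Ω)) :=
    (F.innS_le_stab hES).trans ((le_inf (H8.stab_le_normalizer_oQ hES) h.le_normalizer_kr).trans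
      inf_normalizer_le_normalizer_inf)
  have m1 : (cj g ^ m)⁻¹ * (τ.1 * cj g * τ.1⁻¹) ∈ H8.oQ F p E ⊓ h.kr :=
    ⟨Subgroup.mul_mem _ (Subgroup.inv_mem _ (Subgroup.zpow_mem _ oγ _))
      (Subgroup.mul_mem _ (Subgroup.mul_mem _ oτ oγ) (Subgroup.inv_mem _ oτ)),
      (h.mem_kr ((hE.gam hg ^ m)⁻¹ * (τ * hE.gam hg * τ⁻¹))).2 (by
        rw [map_mul, map_mul, map_mul, map_inv, map_inv, map_zpow, h8, inv_mul_cancel])⟩
  obtain ⟨χ, hχ, e⟩ := (hE.fa.sylMod.subgroup (F.finMod_stab hES)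
    (le_sup_left (b := H8.oQ F p E ⊓ h.kr))
    (sup_le (F.innS_le_stab hES) (inf_le_right.trans NE))).conj (zpowers (τ.1 * cj g * τ.1⁻¹))
    (zpowers_le.2 ((mul_mem_cancel_left (Subgroup.inv_mem _ (mem_sup_left (Subgroup.zpow_mem _
      (cj_mem_innS hg.1 hg.2) m)))).1 (mem_sup_right m1))) (by
      obtain ⟨k, hk⟩ := isPMod_innS hE.pg E _ (cj_mem_innS hg.1 hg.2)
      exact isPMod_zpowers (H8.conj_pow_mem_fixP ((mem_stab hES).1 τ.2) hk))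
  obtain ⟨u, hu, e⟩ := e _ (mem_zpowers _)
  obtain ⟨i, hi', n, hn', rfl⟩ := (mem_sup_of_le_normalizer nK).1 hχ
  have e1 : (⟨n, NE hn'.2⟩ * τ * hE.gam hg * (⟨n, NE hn'.2⟩ * τ)⁻¹ : F.stab E).1 ∈ innS S E := by
    have := mul_mem (mul_mem (inv_mem hi') (mul_mem hu (fixP_le_innS S E e))) hi'
    simpa [mul_assoc] using this
  have e2 : h.act (⟨n, NE hn'.2⟩ * τ) = h.act τ := by
    rw [map_mul, (h.mem_kr ⟨n, NE hn'.2⟩).1 hn'.2, one_mul]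
  have oτ' : (⟨n, NE hn'.2⟩ * τ : F.stab E).1 ∈ H8.oQ F p E := mul_mem hn'.1 oτ
  refine ⟨_, e2, ?_⟩
  rw [← e2] at h8
  generalize (⟨n, NE hn'.2⟩ * τ : F.stab E) = τ' at e1 oτ' h8
  obtain ⟨k, hk, hk'⟩ := hE.inn h hg hgE _ e1
  rw [map_mul, map_mul, map_inv, h8, ← mul_inv_eq_one, ← zpow_sub, ← orderOf_dvd_iff_zpow_eq_one,
    orderOf_eq_prime h1 h2] at hk'
  have h3 := zpow_mem_of_dvd hk' (hE.pow_mem hg)
  obtain ⟨β, b1, b2, b3⟩ := exists_ext_of_conj hE.pg hE.sat hE.cent hg.1 hg.2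
    ((mem_stab hES).1 τ'.2) (m := m) (by
      have := mul_mem (cj_mem_innS h3 (le_normalizer h3)) hk
      rwa [← mul_assoc, ← map_inv, ← map_mul, ← zpow_neg, ← zpow_add, show k - m + -k = -m by ring,
        zpow_neg, map_inv] at this)
  rw [hE.sup_eq hg hgE] at b1
  exact ⟨β, b1, H8.mem_oQ_congr hES oτ' b2, b2, b3⟩

end LEs

/-- The structure of a section on which `g` acts as a transvection. -/
structure GQ (F : FusionSystem S) (p : ℕ) (E D Z : Subgroup Ω) (g b a : Ω) (W : Subgroup Ω) :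
    Prop where
  memb : b ∈ cfix D Z g
  powb : b ^ p ∈ Z
  nmem : b ∉ W
  conj : ∃ φ, F.Iso E E φ ∧ φ b = a
  ne : ⁅a, g⁆ ∉ Z
  le : W ≤ cfix D Z g
  le' : Z ≤ W
  invW : F.AInv E W
  sup : W ⊔ zpowers b = cfix D Z g
  torus : ∀ c d : ℤ, c * d ≡ 1 [ZMOD p] → ∃ β, F.Iso (normalizerIn S E) (normalizerIn S E) β ∧
    β ∈ H8.oQ F p E ∧ (b ^ c)⁻¹ * β b ∈ Z ∧ (a ^ d)⁻¹ * β a ∈ Z ∧ (∀ w ∈ W, w⁻¹ * β w ∈ Z) ∧
    (g ^ (c * c))⁻¹ * β g ∈ E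

open scoped IsMulCommutative in
theorem LEs.exists_gq (hE : LEs F p E) (h : Sec F E D Z) (hg : g ∈ normalizerIn S E)
    (hi : (cfix D Z g).relIndex D = p) (hn : ¬ F.AInv E (cfix D Z g)) (hy : y ∈ D)
    (hy' : y ∉ cfix D Z g) : ∃ a W, GQ F p E D Z g ⁅y, g⁆ a W := by
  have hS := hE.pg
  have hES := hE.le
  have nZ := h.le.trans h.norm
  obtain ⟨hb, hbp, ht⟩ := tv_of_hyper hS (h.le.trans hES) h.le' hg.1 (aInv_normalizer h.invD hES hg)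
    (aInv_normalizer h.invZ hES hg) (fun x hx y hy => h.inn y (h.le hy) x hx) hi hy hy'
  generalize ⁅y, g⁆ = b at hb hbp ht
  have hgE : g ∉ E := fun e => hy' ((mem_cfix nZ).2 ⟨hy, h.inn g e y hy⟩)
  haveI := finite_of_le (h.le.trans hES)
  haveI := h.normal
  haveI := h.comm
  haveI := finite_mulAut (D ⧸ Z.subgroupOf D)
  have hA := (isPGroup_of_le hS (h.le.trans hES)).to_quotient (Z.subgroupOf D)
  have one : ∀ x : D, (x : D ⧸ Z.subgroupOf D) = 1 ↔ (x : Ω) ∈ Z := fun x =>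
    QuotientGroup.eq_one_iff x
  set γ : F.stab E := hE.gam hg with hγ
  have fx : ∀ x : D, h.act γ x = x ↔ (x : Ω) ∈ cfix D Z g := fun x => (h.act_mk_eq γ x x).trans
    ((conj_mem_iff_comm (nZ x.2)).trans (by simp [mem_cfix nZ]))
  have t : Tv p (h.act γ) (⟨b, hb.1⟩ : D) := by
    refine ⟨fun e => hy' ((fx ⟨y, hy⟩).1 (by rw [e]; rfl)),
      (one ((⟨b, hb.1⟩ : D) ^ p)).2 hbp, (fx _).2 hb, fun x => ?_⟩
    obtain ⟨x, rfl⟩ := QuotientGroup.mk_surjective x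
    obtain ⟨c, hc, k, e⟩ := (mem_sup_zpowers (nZ hb.1)).1 (ht _ (D.inv_mem x.2))
    refine ⟨k, eq_inv_mul_of_mul_eq ((h.act_mk_eq γ x (x * (⟨b, hb.1⟩ : D) ^ k)).2 ?_).symm⟩
    have := conj_inv_mem_of_mem_normalizer (nZ (D.zpow_mem hb.1 k)) hc
    rw [eq_mul_inv_of_mul_eq e.symm] at this
    simpa [γ, mul_assoc, commutatorElement_def] using this
  have emb := hE.emb h hg hgE t.pow_eq_one t.ne fun h1 => hn fun τ hτ x hx =>
    (fx ⟨_, h.invD τ hτ x hx.1⟩).1 (by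
      obtain ⟨k, hk⟩ := conj_inv_mem_of_mem_normalizer (h1 ⟨τ, hτ.mem_stab⟩) (mem_zpowers _)
      have := aut_zpow_fix ((fx ⟨x, hx.1⟩).2 hx) k
      rw [show h.act γ ^ k = _ from hk] at this
      apply (h.act ⟨τ, hτ.mem_stab⟩)⁻¹.injective
      simpa [← h.act_mk ⟨τ, hτ.mem_stab⟩ ⟨x, hx.1⟩] using this)
  obtain ⟨-, _, ⟨φ, rfl⟩, h2, h3, h4⟩ := t.main hA emb ⟨γ, rfl⟩
  have t' := t.conj (h.act φ)
  have hφ := (mem_stab hES).1 φ.2
  have ha := h.invD _ hφ b hb.1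
  have oγ : γ.1 ∈ H8.oQ F p E := cj_mem_oQ hS hES hg.1 hg.2
  have hcl : closure {h.act γ, h.act φ * h.act γ * (h.act φ)⁻¹} ≤
      ((H8.oQ F p E).subgroupOf (F.stab E)).map h.act := by
    rw [closure_le]
    rintro _ (rfl | rfl)
    · exact ⟨γ, oγ, rfl⟩
    · exact ⟨φ * γ * φ⁻¹, H8.conj_mem_oQ hφ oγ, by simp⟩
  set W := ((H8.fixAut (h.act γ) ⊓ H8.fixAut (h.act φ * h.act γ * (h.act φ)⁻¹)).comap
    (QuotientGroup.mk' _)).map D.subtype with hW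
  have memW : ∀ w : D, (w : Ω) ∈ W ↔ h.act γ w = w ∧ (h.act φ * h.act γ * (h.act φ)⁻¹) w = w :=
    fun w => mem_map_iff_mem D.subtype_injective
  have mw : ∀ (ψ : F.stab E) w, h.act γ w = w → (h.act φ * h.act γ * (h.act φ)⁻¹) w = w →
      h.act γ (h.act ψ w) = h.act ψ w := fun ψ w e e' => by
    have := closure_pair_fix e e' (h4 _ (inv_mem ⟨ψ, rfl⟩))
    apply (h.act ψ)⁻¹.injective
    simpa using this
  have lW : W ≤ cfix D Z g := by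
    rintro _ ⟨w, hw, rfl⟩
    exact (fx w).1 hw.1
  have ZW : Z ≤ W := fun x hx => by
    rw [memW ⟨x, h.le' hx⟩, (one ⟨x, h.le' hx⟩).2 hx]
    exact ⟨map_one _, map_one _⟩
  refine ⟨φ.1 b, W, hb, hbp, fun e => h3 ((memW ⟨b, hb.1⟩).1 e).2, ⟨φ, hφ, rfl⟩,
    fun e => h2 ((fx ⟨_, ha⟩).2 ((mem_cfix nZ).2 ⟨ha, e⟩)), lW, ZW, ?_,
    le_antisymm (sup_le lW (zpowers_le.2 hb)) fun x hx => ?_, fun c d hcd => ?_⟩
  · rintro τ hτ _ ⟨w, hw, rfl⟩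
    refine (memW ⟨_, h.invD τ hτ w w.2⟩).2 ⟨mw ⟨τ, hτ.mem_stab⟩ w hw.1 hw.2, ?_⟩
    have := mw (φ⁻¹ * ⟨τ, hτ.mem_stab⟩) w hw.1 hw.2
    apply (h.act φ)⁻¹.injective
    simpa [← h.act_mk ⟨τ, hτ.mem_stab⟩ w] using this
  · obtain ⟨j, hj⟩ := t'.exists_fix h3 (⟨x, hx.1⟩ : D)
    rw [← QuotientGroup.mk_zpow, ← QuotientGroup.mk_mul] at hj
    have h5 : x * b ^ j ∈ cfix D Z g := Subgroup.mul_mem _ hx (Subgroup.zpow_mem _ hb j)
    have h6 : x * b ^ j ∈ W :=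
      (memW (⟨x, hx.1⟩ * ⟨b, hb.1⟩ ^ j)).2 ⟨(fx (⟨x, hx.1⟩ * ⟨b, hb.1⟩ ^ j)).2 h5, hj⟩
    exact (Subgroup.mul_mem_cancel_right _ (Subgroup.zpow_mem _ (mem_sup_right (mem_zpowers b)) j)).1
      (mem_sup_left h6)
  obtain ⟨_, h5, h6, h7⟩ := t.torus t' h2 h3 hcd
  obtain ⟨τ, oτ, rfl⟩ := hcl h5
  have h8 := t.conj_torus t' h2 h3 hcd h6 h7 fun w e e' => closure_pair_fix e e' h5
  obtain ⟨τ', e, β, b1, b4, b2, b3⟩ := hE.adjust h hg hgE t.pow_eq_one t.ne oτ h8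
  rw [← e] at h5 h6 h7
  refine ⟨β, b1, b4, ?_, ?_, ?_, b3⟩
  · exact b2 b (h.le hb.1) ▸ (h.act_mk_eq τ' ⟨b, hb.1⟩ ((⟨b, hb.1⟩ : D) ^ c)).1 h6
  · exact b2 _ (h.le ha) ▸ (h.act_mk_eq τ' ⟨_, ha⟩ ((⟨_, ha⟩ : D) ^ d)).1 h7
  · rintro _ ⟨w, hw, rfl⟩
    exact b2 _ (h.le w.2) ▸ (h.act_mk_eq τ' w w).1 (closure_pair_fix hw.1 hw.2 h5)

end Cfsg.Agent.H1
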