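import Cfsg.Agent.H1.R2

/-!
# Normal subgroups of index `p` with large automisers
-/

set_option autoImplicit false
set_option linter.unusedSectionVars false

namespace Cfsg.Agent.H1

open Equiv Cfsg.Fus Cfsg.FusionSystem Subgroup
open scoped commutatorElement

variable {G : Type*} [Group G] [Finite G] {F : FusionSystem (⊤ : Subgroup G)} {p : ℕ}
  [hp : Fact p.Prime] {A B C D E H K T U W X Y : Subgroup G} {a b c d g u v w x y z : G}
  {σ τ : Perm G}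

theorem comm_one_iff : ⁅x, y⁆ = 1 ↔ x * y = y * x := commutatorElement_eq_one_iff_mul_comm

theorem comm_one_symm (h : ⁅x, y⁆ = 1) : ⁅y, x⁆ = 1 := comm_one_iff.2 (comm_one_iff.1 h).symm

theorem nle (N : Subgroup G) [N.Normal] (g : G) : g ∈ normalizer (N : Set G) :=
  normal_le_normalizer N ⊤ trivial

theorem comm_mem_left (N : Subgroup G) [h : N.Normal] (hx : x ∈ N) (g : G) : ⁅x, g⁆ ∈ N := by
  simpa [commutatorElement_def, mul_assoc] using N.mul_mem hx (h.conj_mem _ (N.inv_mem hx) g)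

theorem comm_mem_right (N : Subgroup G) [N.Normal] (g : G) (hx : x ∈ N) : ⁅g, x⁆ ∈ N :=
  comm_mem_symm (comm_mem_left N hx g)

theorem comm_mem_of_relIndex (hG : IsPGroup p (⊤ : Subgroup G)) [A.Normal] [B.Normal]
    (h : A.relIndex B ∣ p) (hx : x ∈ B) (g : G) : ⁅x, g⁆ ∈ A :=
  (conj_mem_iff_comm (nle A x)).1 (conj_mem_of_relIndex hG trivial (nle A g) (nle B g) h x hx)

theorem comm_mem_of_card (hG : IsPGroup p (⊤ : Subgroup G)) [A.Normal] [B.Normal] (hA : A ≤ B)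
    (h : Nat.card B ≤ p * Nat.card A) (hx : x ∈ B) (g : G) : ⁅x, g⁆ ∈ A :=
  comm_mem_of_relIndex hG (relIndex_dvd_of_card hG hA le_top h) hx g

theorem cl2_of (h1 : ∀ x ∈ H, ∀ y ∈ H, ⁅x, y⁆ ∈ zc H) (h2 : ∀ x ∈ H, x ^ p ∈ zc H) : Cl2 p H :=
  fun x hx y hy => ⟨by
    rw [← zpow_natCast, ← comm_zpow_left ((h1 x hx y hy).2 x hx).symm, zpow_natCast]
    exact comm_one_iff.2 ((h2 x hx).2 y hy).symm, (h1 x hx y hy).2⟩

theorem Cl2.pow_comm (h : Cl2 p H) (hx : x ∈ H) (hy : y ∈ H) : ⁅x ^ p, y⁆ = 1 := by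
  rw [← zpow_natCast, comm_zpow_left ((h x hx y hy).2 x hx).symm, zpow_natCast, (h x hx y hy).1]

/-- The elements of `H` that are central of order `p` modulo `T`. -/
def opc (p : ℕ) [Fact p.Prime] (H T : Subgroup G) [T.Normal] : Subgroup G :=
  om p (H ⊓ cMod H T) T (pcl_of_comm (normal_le_normalizer _ _) fun x hx _ hy => mem_cMod.1 hy.2 x hx.1)

theorem mem_opc [T.Normal] : x ∈ opc p H T ↔ x ∈ H ∧ (∀ y ∈ H, ⁅y, x⁆ ∈ T) ∧ x ^ p ∈ T :=
  ⟨fun h => ⟨h.1.1, mem_cMod.1 h.1.2, h.2⟩, fun h => ⟨⟨h.1, mem_cMod.2 h.2.1⟩, h.2.2⟩⟩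

theorem aInv_cMod [D.Normal] (hH : F.AInv E H) (hA : F.AInv E A) (hD : F.AInv E D) (h1 : H ≤ E)
    (h2 : A ≤ E) : F.AInv E (H ⊓ cMod A D) := fun τ hτ x hx => ⟨hH τ hτ x hx.1, mem_cMod.2 fun y hy => by
  have := hD τ hτ _ (mem_cMod.1 hx.2 _ (hA _ hτ.symm y hy))
  rw [hτ.homOn.map_commutator (hτ.inv_mem (h2 hy)) (h1 hx.1)] at this
  simpa using this⟩

theorem aInv_opc [T.Normal] (hH : F.AInv E H) (hT : F.AInv E T) (h : H ≤ E) :
    F.AInv E (opc p H T) := aInv_om (aInv_cMod hH hH hT h h) hT (inf_le_left.trans h) _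

/-- The central elements of order dividing `p`. -/
abbrev zO (p : ℕ) [Fact p.Prime] (G : Type*) [Group G] [Finite G] : Subgroup G := opc p ⊤ ⊥

theorem mem_zO : x ∈ zO p G ↔ (∀ y : G, ⁅y, x⁆ = 1) ∧ x ^ p = 1 :=
  mem_opc.trans ⟨fun h => ⟨fun y => h.2.1 y trivial, h.2.2⟩, fun h => ⟨trivial, fun y _ => h.1 y, h.2⟩⟩

theorem zO_comm (hx : x ∈ zO p G) (y : G) : ⁅x, y⁆ = 1 := comm_one_symm ((mem_zO.1 hx).1 y)

instance zO_normal : (zO p G).Normal := normal_of_comm_mem fun _ hx g => zO_comm hx g ▸ one_mem _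

theorem exists_zO (hG : IsPGroup p (⊤ : Subgroup G)) [X.Normal] (h : X ≠ ⊥) :
    ∃ z ∈ X, z ≠ 1 ∧ z ∈ zO p G := by
  obtain ⟨z, h1, h2, h3, h4⟩ := exists_central_of_ne_bot hG le_top le_top (normal_le_normalizer X ⊤) h
  exact ⟨z, h1, h2, mem_zO.2 ⟨fun y => comm_one_iff.2 (h4 y trivial), h3⟩⟩

theorem zO_le (hG : IsPGroup p (⊤ : Subgroup G)) (hc : Nat.card (zO p G) = p) [X.Normal] (h : X ≠ ⊥) :
    zO p G ≤ X := by
  obtain ⟨z, h1, h2, h3⟩ := exists_zO hG h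
  exact inf_eq_left.1 (eq_of_card_prime inf_le_left hc fun e => h2 (e.le ⟨h3, h1⟩))

theorem map_mem_zO (α : G ≃* G) (hx : x ∈ zO p G) : α x ∈ zO p G := mem_zO.2 ⟨fun y => by
  rw [← α.apply_symm_apply y, ← map_commutatorElement, (mem_zO.1 hx).1, map_one],
  by rw [← map_pow, (mem_zO.1 hx).2, map_one]⟩

theorem elem_of (h1 : ∀ x ∈ H, ∀ y ∈ H, ⁅x, y⁆ = 1) (h2 : ∀ x ∈ H, x ^ p = 1) :
    IsElementaryAbelian p H :=
  ⟨isMulCommutative_of_comm fun x hx y hy => comm_one_iff.1 (h1 x hx y hy), h2⟩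

theorem elem_comm (h : IsElementaryAbelian p H) (hx : x ∈ H) (hy : y ∈ H) : ⁅x, y⁆ = 1 :=
  comm_one_iff.2 (comm_of_isMulCommutative h.1 x hx y hy)

theorem SR3.mem' (hr : SR3 p (⊤ : Subgroup G)) (hL : IsElementaryAbelian p H)
    (hc : p ^ 3 ≤ Nat.card H) (hy : y ^ p = 1) (hc' : ∀ x ∈ H, ⁅x, y⁆ = 1) : y ∈ H :=
  hr.mem hL le_top hc trivial hy fun x hx => (comm_one_iff.1 (hc' x hx)).symm

theorem elem_sup (hL : IsElementaryAbelian p H) (hy : y ^ p = 1) (hc : ∀ x ∈ H, ⁅x, y⁆ = 1)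
    (hn : y ∉ H) : IsElementaryAbelian p (H ⊔ zpowers y) ∧
      Nat.card (H ⊔ zpowers y : Subgroup G) = p * Nat.card H := by
  obtain ⟨h1, h2⟩ := elem_sup_zpowers hL hy fun x hx => (comm_one_iff.1 (hc x hx)).symm
  exact ⟨h1, by rw [h2 hn, mul_comm]⟩

theorem comm_one_of_sup (h1 : ∀ a ∈ A, ⁅a, g⁆ = 1) (h2 : ⁅x, g⁆ = 1) :
    ∀ s ∈ A ⊔ zpowers x, ⁅s, g⁆ = 1 := comm_sup_zp (D := ⊥) h1 h2

theorem card_pos' (H : Subgroup G) : 0 < Nat.card H := Nat.card_pos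

/-- A group of exponent `p` and class two with a central subgroup of order `p²`. -/
theorem SR3.five (hr : SR3 p (⊤ : Subgroup G)) (hG : IsPGroup p (⊤ : Subgroup G)) (hU : U ≤ zc D)
    (hc : p ^ 2 ≤ Nat.card U) (he : ∀ x ∈ D, x ^ p = 1) (h2 : ∀ x ∈ D, ∀ y ∈ D, ⁅x, y⁆ ∈ zc D)
    (hn : ¬ IsMulCommutative D) : zc D = U ∧ Nat.card U = p ^ 2 ∧ Nat.card D ≤ p ^ 4 ∧ Cls2 p D := by
  have cz : ∀ {x y}, x ∈ zc D → y ∈ D → ⁅x, y⁆ = 1 := fun hx hy => comm_one_iff.2 (hx.2 _ hy).symm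
  have eZ : IsElementaryAbelian p (zc D) := ⟨inferInstance, fun x hx => he x hx.1⟩
  have h3 : Nat.card (zc D) < p ^ 3 := not_le.1 fun e => hn (isMulCommutative_of_comm fun x hx y hy =>
    (hr.mem' eZ e (he y hy) fun z hz => cz hz hy).2 x hx)
  have h4 : zc D = U := by
    by_contra e
    have := mul_card_le_of_lt hG (hU.lt_of_ne' e) le_top
    nlinarith [hp.out.pos]
  subst h4
  obtain ⟨k, hk⟩ := (isPGroup_of_le hG (le_top (a := zc D))).exists_card_eq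
  have h5 : Nat.card (zc D) = p ^ 2 := by
    rw [hk, Nat.pow_lt_pow_iff_right hp.out.one_lt] at h3
    rw [hk, Nat.pow_le_pow_iff_right hp.out.one_lt] at hc
    rw [hk, show k = 2 by omega]
  have cen : ∀ x ∈ D, x ∉ zc D → ∀ y ∈ D, ⁅x, y⁆ = 1 → y ∈ zc D ⊔ zpowers x := fun x hx hx' y hy e => by
    obtain ⟨e1, e2⟩ := elem_sup eZ (he x hx) (fun z hz => cz hz hx) hx'
    exact hr.mem' e1 (by rw [e2, h5]; exact le_of_eq (by ring)) (he y hy)
      (comm_one_of_sup (fun z hz => cz hz hy) e)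
  have nD : ∀ {K}, zc D ≤ K → K ≤ D → D ≤ normalizer (K : Set G) := fun h h' x hx =>
    normalizer_of_comm (S := ⊤) le_top fun y hy => h (h2 x hx y (h' hy))
  have h6 : Nat.card D ≤ p ^ 4 := by
    by_contra h7
    obtain ⟨y, hy, hy'⟩ : ∃ y ∈ D, y ∉ zc D := SetLike.not_le_iff_exists.1 fun e =>
      hn (isMulCommutative_of_comm fun x hx y hy => (e hy).2 x hx)
    have l1 : zc D ⊔ zpowers y ≤ D := sup_le inf_le_left (zpowers_le.2 hy)
    have c1 := card_sup_zp (p := p) (nD le_rfl inf_le_left hy) hy' (he y hy ▸ one_mem _)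
    obtain ⟨d, hd, hd'⟩ : ∃ d ∈ D, d ∉ zc D ⊔ zpowers y := SetLike.not_le_iff_exists.1 fun e => by
      have := card_le_of_le e
      have := Nat.pow_le_pow_right hp.out.pos (show 3 ≤ 4 by omega)
      rw [c1, h5] at *
      linarith
    have l2 : zc D ⊔ zpowers y ⊔ zpowers d ≤ D := sup_le l1 (zpowers_le.2 hd)
    have c2 := card_sup_zp (p := p) (nD le_sup_left l1 hd) hd' (he d hd ▸ one_mem _)
    obtain ⟨t, ht, ht'⟩ : ∃ t ∈ D, t ∉ zc D ⊔ zpowers y ⊔ zpowers d :=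
      SetLike.not_le_iff_exists.1 fun e => by
        have := card_le_of_le e
        rw [c2, c1, h5] at *
        linarith
    have hc := h2 y hy d hd
    have c0 : ⁅y, d⁆ ≠ 1 := fun e => hd' (cen y hy hy' d hd e)
    have cp := he _ hc.1
    have nC : D ≤ normalizer (zpowers ⁅y, d⁆ : Set G) := le_normalizer_of_le_zc (zpowers_le.2 hc)
    have i1 := relIndex_commMod_le (l2.trans nC) (nC ht) fun s hs => h2 s (l2 hs) t ht
    rw [relIndex_eq_of_card_eq (zpowers_le.2 hc) (m := 1) (n := 1)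
      (by rw [card_zpowers_of_pow c0 cp, pow_one]) h5, pow_one] at i1
    obtain ⟨x, hx, hx'⟩ : ∃ x ∈ commMod (zpowers ⁅y, d⁆) t ⊓ (zc D ⊔ zpowers y ⊔ zpowers d), x ∉ zc D :=
      SetLike.not_le_iff_exists.1 fun e => by
        have e1 := card_le_of_relIndex i1
        have e2 := card_le_of_le ((inf_comm _ _).le.trans e)
        rw [c2, c1, h5] at *
        nlinarith [hp.out.two_le, pow_pos hp.out.pos 3]
    have k1 := commutator_sup_zpowers_le (l1.trans nC) (nC hd) (fun a ha b hb =>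
      comm_one_iff.2 (comm_sup_zpowers (comm_of_isMulCommutative inferInstance)
        (fun a (ha : a ∈ zc D) => ha.2 y hy) a ha b hb) ▸ one_mem _) fun a ha => comm_mem_symm
      (comm_mem_of_sup_zpowers (inf_le_left.trans nC) (nC hy) (fun z hz => cz hz hd ▸ one_mem _)
        (mem_zpowers _) a ha)
    obtain ⟨s, hs, hs'⟩ : ∃ s ∈ zc D ⊔ zpowers y ⊔ zpowers d, ⁅x, s⁆ ≠ 1 := by
      by_contra! e
      have e1 := card_le_of_le fun s hs => cen x (l2 hx.2) hx' s (l2 hs) (e s hs)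
      rw [card_sup_zp (nD le_rfl inf_le_left (l2 hx.2)) hx' (he x (l2 hx.2) ▸ one_mem _), c2, c1] at e1
      nlinarith [hp.out.two_le, card_pos' (zc D), mul_pos hp.out.pos (card_pos' (zc D))]
    obtain ⟨j, hj⟩ := exists_zpow_eq_of_prime cp (k1 (commutator_mem_commutator hx.2 hs)) hs' hx.1.2
    rw [← comm_zpow_right ((h2 x (l2 hx.2) s (l2 hs)).2 s (l2 hs)).symm] at hj
    have k2 := cen x (l2 hx.2) hx' _ (D.mul_mem (D.inv_mem (D.zpow_mem (l2 hs) j)) ht) (by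
      rw [commutatorElement_def, commutatorElement_def] at hj
      rw [comm_one_iff]
      calc _ = (s ^ j)⁻¹ * (x * s ^ j * x⁻¹ * (s ^ j)⁻¹)⁻¹ * x * t := by group
        _ = _ := by rw [hj]; group)
    exact ht' ((mul_mem_cancel_left (inv_mem (zpow_mem hs j))).1
      (sup_le (le_sup_left.trans le_sup_left) (zpowers_le.2 hx.2) k2))
  refine ⟨rfl, h5, h6, isPGroup_of_le hG le_top, relIndex_le_of_card inf_le_left ?_, hn⟩
  rw [h5]; linarith

theorem card_eq_of_lt (hG : IsPGroup p (⊤ : Subgroup G)) (h : A < B) (h1 : A ≠ ⊥)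
    (h2 : Nat.card B ≤ p ^ 2) : Nat.card A = p ∧ Nat.card B = p ^ 2 := by
  have e1 := mul_card_le_of_lt hG h le_top
  have e2 := le_card' hG le_top h1
  have e3 : Nat.card A ≤ p := Nat.le_of_mul_le_mul_left (by nlinarith) hp.out.pos
  exact ⟨le_antisymm e3 e2, le_antisymm h2 (by nlinarith)⟩

theorem card_le_of_lt (hG : IsPGroup p (⊤ : Subgroup G)) (h : A < B) {k : ℕ}
    (h2 : Nat.card B ≤ p ^ (k + 1)) : Nat.card A ≤ p ^ k :=
  Nat.le_of_mul_le_mul_left (((mul_card_le_of_lt hG h le_top).trans h2).trans_eq (pow_succ' _ _))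
    hp.out.pos

/-- A normal subgroup of index `p` not enlarged by `O_p` of its automiser. -/
structure NE (F : FusionSystem (⊤ : Subgroup G)) (p : ℕ) (E : Subgroup G) : Prop
    extends LEs F p E where
  normal : E.Normal

/-- The closure of the central elements of order `p`. -/
abbrev uO (F : FusionSystem (⊤ : Subgroup G)) (p : ℕ) [Fact p.Prime] (E : Subgroup G) : Subgroup G :=
  orbCl F E (zO p G)

namespace NE

variable (h : NE F p E)
include h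

theorem nI (g : G) : g ∈ normalizerIn ⊤ E := ⟨trivial, have := h.normal; nle E g⟩

theorem nI_eq : normalizerIn ⊤ E = ⊤ := top_unique fun g _ => h.nI g

theorem inv_normal (hX : F.AInv E X) : X.Normal :=
  normalizer_eq_top_iff.1 (top_unique fun g _ => aInv_normalizer hX le_top (h.nI g))

theorem idx' : E.relIndex ⊤ = p := h.nI_eq ▸ h.idx

theorem card_top : Nat.card (⊤ : Subgroup G) = p * Nat.card E := card_of_relIndex le_top h.idx'

theorem sup_top (hg : g ∉ E) (x : G) : x ∈ E ⊔ zpowers g := (h.sup_eq (h.nI g) hg).ge (h.nI x)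

theorem comm_mem (x y : G) : ⁅x, y⁆ ∈ E :=
  commutator_le_of_relIndex h.pg le_top h.idx' (commutator_mem_commutator trivial trivial)

theorem pow_mem' (x : G) : x ^ p ∈ E := h.pow_mem (h.nI x)

theorem exists_not_mem : ∃ g, g ∉ E := by
  by_contra! e
  exact hp.out.one_lt.ne' (h.idx'.symm.trans (relIndex_eq_one.2 fun g _ => e g))

theorem mem_of_cent (hx : ∀ y ∈ E, ⁅y, x⁆ = 1) : x ∈ E :=
  h.mem_of_ut (ut_bot le_top) (aInv_bot F E) bot_le (h.nI x) hx fun _ hy => by simp [mem_bot.1 hy]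

theorem ne_bot : E ≠ ⊥ := fun e => by
  obtain ⟨g, hg⟩ := h.exists_not_mem
  exact hg (h.mem_of_cent fun y hy => by simp [mem_bot.1 (e.le hy)])

theorem zO_le : zO p G ≤ E := fun _ hx => h.mem_of_cent fun y _ => (mem_zO.1 hx).1 y

theorem zO_ne : zO p G ≠ ⊥ := fun e => by
  haveI := h.normal
  obtain ⟨z, -, h1, h2⟩ := exists_zO h.pg h.ne_bot
  exact h1 (e.le h2)

theorem comm_all [D.Normal] (h1 : ∀ y ∈ E, ⁅y, x⁆ ∈ D) (hg : g ∉ E) (h2 : ⁅g, x⁆ ∈ D) (y : G) :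
    ⁅y, x⁆ ∈ D := comm_sup_zp h1 h2 y (h.sup_top hg y)

theorem mem_zO_of (h1 : ∀ y ∈ E, ⁅y, x⁆ = 1) (hg : g ∉ E) (h2 : ⁅g, x⁆ = 1) (h3 : x ^ p = 1) :
    x ∈ zO p G := mem_zO.2 ⟨h.comm_all (D := ⊥) h1 hg h2, h3⟩

theorem uO_le : uO F p E ≤ opc p E ⊥ := orbCl_le (fun _ hx => mem_opc.2
  ⟨h.zO_le hx, fun y _ => (mem_zO.1 hx).1 y, (mem_zO.1 hx).2⟩)
  (aInv_opc (aInv_self F E) (aInv_bot F E) le_rfl)

theorem uO_mem (hu : u ∈ uO F p E) : u ∈ E := (h.uO_le hu).1.1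

theorem uO_comm (hu : u ∈ uO F p E) (hy : y ∈ E) : ⁅y, u⁆ = 1 := (mem_opc.1 (h.uO_le hu)).2.1 y hy

theorem uO_pow (hu : u ∈ uO F p E) : u ^ p = 1 := (h.uO_le hu).2

theorem uO_elem : IsElementaryAbelian p (uO F p E) :=
  elem_of (fun _ hx _ hy => h.uO_comm hy (h.uO_mem hx)) fun _ => h.uO_pow

theorem aInv_uO : F.AInv E (uO F p E) := aInv_orbCl h.zO_le

theorem uO_zO (hu : u ∈ uO F p E) (hg : g ∉ E) (hc : ⁅g, u⁆ = 1) : u ∈ zO p G :=
  h.mem_zO_of (fun _ => h.uO_comm hu) hg hc (h.uO_pow hu)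

theorem uO_le_of (hc : Nat.card (zO p G) = p) (hX : F.AInv E X) (hn : X ≠ ⊥) : uO F p E ≤ X :=
  have := h.inv_normal hX
  orbCl_le (H1.zO_le h.pg hc hn) hX

theorem exists_mem (h' : B.relIndex ⊤ = p) (hne : E ≠ B) : ∃ a ∈ E, a ∉ B :=
  SetLike.not_le_iff_exists.1 fun e => (eq_or_eq_of_relIndex e le_top h.idx').elim (hne ·.symm)
    fun e => hp.out.one_lt.ne' (h'.symm.trans (relIndex_eq_one.2 e.ge))

theorem relIndex_inf (ha : a ∈ A) (ha' : a ∉ E) : (A ⊓ E).relIndex A = p := by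
  rw [inf_relIndex_left]
  exact relIndex_eq_of_le h.pg le_top (h.idx' ▸ relIndex_le_of_le_right le_top
    (relIndex_ne_zero_of_finite le_rfl)) fun e => ha' (e ha)

theorem inf_sup (ha : a ∈ A) (ha' : a ∉ E) : A ⊓ E ⊔ zpowers a = A :=
  sup_zpowers_eq inf_le_left (h.relIndex_inf ha ha') ha fun e => ha' e.2

variable (hV : ¬ F.AInv E (zO p G))
include hV

theorem lt_uO : zO p G < uO F p E :=
  (le_orbCl le_top).lt_of_ne fun e => hV (e ▸ h.aInv_uO)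

theorem mem_of_cent_uO (hg : ∀ u ∈ uO F p E, ⁅g, u⁆ = 1) : g ∈ E := by
  by_contra e
  exact (h.lt_uO hV).not_ge fun u hu => h.uO_zO hu e (hg u hu)

theorem sq_le : p ^ 2 ≤ Nat.card (uO F p E) := by
  have e1 := mul_card_le_of_lt h.pg (h.lt_uO hV) le_top
  have e2 := le_card' h.pg le_top h.zO_ne
  nlinarith

theorem exists_mv (hc : Nat.card (zO p G) = p) :
    ∃ τ, F.Iso E E τ ∧ ∀ c ∈ zO p G, τ c ∈ zO p G → c = 1 := by
  obtain ⟨τ, hτ⟩ := not_forall.1 hV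
  obtain ⟨hτ, z, hz, hz'⟩ : F.Iso E E τ ∧ ∃ z ∈ zO p G, τ z ∉ zO p G := by simpa using hτ
  refine ⟨τ, hτ, fun c hc' e => by_contra fun c1 => hz' ?_⟩
  obtain ⟨w, hw, e'⟩ := exists_zpowers_of_card hc
  obtain ⟨k, rfl⟩ := exists_zpow_eq_of_prime hw (e'.le hc') c1 (e'.le hz)
  exact hτ.homOn.map_zpow (h.zO_le hc') k ▸ Subgroup.zpow_mem _ e k

theorem eq_bot (hc : Nat.card (zO p G) = p) (hX : F.AInv E X) (h1 : Nat.card X ≤ p) : X = ⊥ := by
  by_contra e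
  have e1 := (h.sq_le hV).trans ((card_le_of_le (h.uO_le_of hc hX e)).trans h1)
  nlinarith [hp.out.two_le]

theorem eq_bot_of_le (hc : Nat.card (zO p G) = p) (hX : F.AInv E X) (h1 : X ≤ zpowers c)
    (h2 : c ^ p = 1) : X = ⊥ := h.eq_bot hV hc hX ((card_le_of_le h1).trans (by
  rw [Nat.card_zpowers]; exact orderOf_le_of_pow_eq_one hp.out.pos h2))

theorem card_le (hr : SR3 p (⊤ : Subgroup G)) (hc : Nat.card (zO p G) = p) (hD : F.AInv E D)
    (hU : uO F p E ≤ D) (hDE : D ≤ E) (he : ∀ x ∈ D, x ^ p = 1)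
    (h2 : ∀ x ∈ D, ∀ y ∈ D, ⁅x, y⁆ ∈ zc D) : Nat.card D ≤ p ^ 3 := by
  by_cases hn : IsMulCommutative D
  · exact hr.elem ⟨hn, he⟩ le_top
  obtain ⟨-, -, -, t⟩ := hr.five h.pg (fun u hu => ⟨hU hu, fun y hy =>
    comm_one_iff.1 (h.uO_comm hu (hDE hy))⟩) (h.sq_le hV) he h2 hn
  have := h.eq_bot hV hc (aInv_comm hD hD hDE hDE) t.card_commutator_le
  exact absurd (isMulCommutative_of_comm fun x hx y hy =>
    comm_one_iff.1 (this.le (commutator_mem_commutator hx hy))) hn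

end NE

/-- Two subgroups both moving the centre intersect in a central subgroup. -/
theorem vv {F₁ F₂ : FusionSystem (⊤ : Subgroup G)} (hr : SR3 p (⊤ : Subgroup G)) (hA : NE F₁ p A)
    (hB : NE F₂ p B) (hne : A ≠ B) (vA : ¬ F₁.AInv A (zO p G)) (vB : ¬ F₂.AInv B (zO p G))
    (hx : x ∈ A ⊓ B) (g : G) : ⁅g, x⁆ = 1 := by
  by_cases hc : ∀ a ∈ uO F₁ p A, ∀ b ∈ uO F₂ p B, ⁅a, b⁆ = 1
  swap
  · push Not at hc
    obtain ⟨a, ha, b, hb, hab⟩ := hc
    have a1 : a ∉ B := fun e => hab (hB.uO_comm hb e)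
    have b1 : b ∉ A := fun e => hab (comm_one_symm (hA.uO_comm ha e))
    have e := hA.inf_sup (hB.uO_mem hb) b1
    rw [inf_comm] at e
    have := hr.comm_of_pair hA.pg (W := A ⊓ B) le_top (mem_top a) (mem_top b)
      (fun w hw => comm_one_iff.1 (hA.uO_comm ha hw.1)) (fun w hw => comm_one_iff.1 (hB.uO_comm hb hw.2))
      ⟨hA.comm_mem _ _, hB.comm_mem _ _⟩ (hA.uO_pow ha ▸ one_mem _) (hB.uO_pow hb ▸ one_mem _)
      (b1 ·.1) (e.symm ▸ a1)
    exact hB.comm_all (D := ⊥) (e ▸ comm_one_of_sup (fun w hw => comm_one_iff.2 (this w hw x hx))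
      (comm_one_symm (hB.uO_comm hb hx.2))) a1 (comm_one_symm (hA.uO_comm ha hx.1)) g
  exfalso
  obtain ⟨s, hs, hs'⟩ := hA.exists_mem hB.idx' hne
  obtain ⟨t, ht, ht'⟩ := hB.exists_mem hA.idx' hne.symm
  obtain ⟨a, ha, ha'⟩ := SetLike.exists_of_lt (hA.lt_uO vA)
  obtain ⟨b, hb, hb'⟩ := SetLike.exists_of_lt (hB.lt_uO vB)
  have a1 : a ∉ uO F₂ p B := fun e => ha' (hA.uO_zO ha ht' (hB.uO_comm e ht))
  have b1 : b ∉ uO F₁ p A := fun e => hb' (hB.uO_zO hb hs' (hA.uO_comm e hs))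
  obtain ⟨e1, e2⟩ := elem_sup hB.uO_elem (hA.uO_pow ha) (fun b hb => comm_one_symm (hc a ha b hb)) a1
  obtain ⟨e3, -⟩ := elem_sup hA.uO_elem (hB.uO_pow hb) (fun a ha => hc a ha b hb) b1
  obtain ⟨c1, c2⟩ := card_eq_of_lt hA.pg (hA.lt_uO vA) hA.zO_ne (card_le_of_lt hA.pg
    (left_lt_sup.2 fun e => b1 (e (mem_zpowers b))) (hr.elem e3 le_top))
  haveI := hA.inv_normal hA.aInv_uO
  haveI := hB.inv_normal hB.aInv_uO
  have aB : a ∈ B := hB.mem_of_cent_uO vB (hc a ha)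
  have a2 := comm_mem_of_card hA.pg (hA.lt_uO vA).le (by rw [c1, c2, sq]) ha
  obtain ⟨τ, hτ, k⟩ := hB.exists_mv vB c1
  have m : ∀ y ∈ B, ⁅τ a, y⁆ ∈ zO p G → ⁅τ a, y⁆ = 1 := fun y hy e => by
    obtain ⟨w, hw, rfl⟩ := hτ.exists_eq hy
    rw [← hτ.homOn.map_commutator aB hw] at e ⊢
    rw [k _ (a2 w) e, hτ.homOn.map_one]
  have y1 := hr.mem' e1 (by rw [e2]; nlinarith [hB.sq_le vB]) (y := τ a)
    (by rw [← hτ.homOn.map_pow aB, hA.uO_pow ha, hτ.homOn.map_one]) (comm_one_of_sup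
      (fun u hu => comm_one_symm (hB.uO_comm hu (hτ.mem aB)))
      (comm_one_symm (m a aB (comm_mem_symm (a2 _)))))
  have y2 := m _ (hτ.mem ht) (comm_sup_zp (fun u hu =>
    comm_one_symm (hB.uO_comm hu (hτ.mem ht)) ▸ one_mem _) (a2 _) _ y1)
  rw [← hτ.homOn.map_commutator aB ht, ← hτ.homOn.map_one] at y2
  exact ha' (hA.uO_zO ha ht' (comm_one_symm (τ.injective y2)))

end Cfsg.Agent.H1
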