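import Cfsg.Agent.H1.R3

/-!
# A pair of subgroups of which exactly one moves the centre
-/

set_option autoImplicit false
set_option linter.unusedSectionVars false

namespace Cfsg.Agent.H1

open Equiv Cfsg.Fus Cfsg.FusionSystem Subgroup
open scoped commutatorElement

variable {G : Type*} [Group G] [Finite G] {F F₁ F₂ : FusionSystem (⊤ : Subgroup G)} {p : ℕ}
  [hp : Fact p.Prime] {A B C D E H K T U W X Y : Subgroup G} {a b c d g u v w x y z : G}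
  {σ τ β : Perm G}

/-- A map of the fusion system on the whole group as an automorphism. -/
def toAut (h : F.Iso ⊤ ⊤ β) : G ≃* G := { β with map_mul' := fun _ _ => h.homOn.map_mul trivial trivial }

theorem map_zp (h : HomOn τ E) (hc : c ∈ E) (hx : x ∈ zpowers c) : τ x ∈ zpowers (τ c) := by
  obtain ⟨k, rfl⟩ := hx
  exact ⟨k, (h.map_zpow hc k).symm⟩

theorem iso_pow (h : F.Iso E E τ) (hx : x ∈ E) (h1 : x ^ p = 1) : τ x ^ p = 1 := by
  rw [← h.homOn.map_pow hx, h1, h.homOn.map_one]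

theorem iso_comm (h : F.Iso E E τ) (hx : x ∈ E) (hy : y ∈ E) (h1 : ⁅x, y⁆ = 1) : ⁅τ x, τ y⁆ = 1 := by
  rw [← h.homOn.map_commutator hx hy, h1, h.homOn.map_one]

theorem iso_ne (h : F.Iso E E τ) (h1 : x ≠ 1) : τ x ≠ 1 := fun e =>
  h1 (τ.injective (e.trans h.homOn.map_one.symm))

theorem iso_comm_mem (h : F.Iso E E τ) (hX : ∀ x ∈ X, τ x ∈ Y) (hx : x ∈ E)
    (h1 : ∀ y ∈ E, ⁅y, x⁆ ∈ X) (hy : y ∈ E) : ⁅y, τ x⁆ ∈ Y := by
  obtain ⟨w, hw, rfl⟩ := h.exists_eq hy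
  exact h.homOn.map_commutator hw hx ▸ hX _ (h1 w hw)

theorem mem_cfix' [T.Normal] : x ∈ cfix D T g ↔ x ∈ D ∧ ⁅x, g⁆ ∈ T :=
  mem_cfix (normal_le_normalizer _ _)

theorem mem_zc' : x ∈ zc H ↔ x ∈ H ∧ ∀ y ∈ H, ⁅y, x⁆ = 1 :=
  mem_zc.trans (by simp only [comm_one_iff])

theorem sec_phiF (hG : IsPGroup p (⊤ : Subgroup G)) : Sec F E E (phiF E) :=
  ⟨le_top, le_rfl, phiF_le E, aInv_self F E, aInv_phiF F E, fun _ he _ hx =>
    commutator_le_phiF hG le_top (commutator_mem_commutator hx he)⟩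

/-- The configuration of a Sylow subgroup of the symplectic group. -/
structure SP (F : FusionSystem (⊤ : Subgroup G)) (p : ℕ) [Fact p.Prime] (A B : Subgroup G) :
    Prop where
  le : A ≤ uO F p A
  card : Nat.card A = p ^ 3
  cardZ : Nat.card (zO p G) = p
  ex : ∃ y ∈ B, y ∉ A ∧ y ^ p = 1

/-- `A` moves the centre and `B` does not. -/
structure VZ (F₁ F₂ : FusionSystem (⊤ : Subgroup G)) (p : ℕ) [Fact p.Prime] (A B : Subgroup G) :
    Prop where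
  hr : SR3 p (⊤ : Subgroup G)
  odd : p ≠ 2
  hA : NE F₁ p A
  hB : NE F₂ p B
  ne : A ≠ B
  vA : ¬ F₁.AInv A (zO p G)
  zB : F₂.AInv B (zO p G)

namespace VZ

variable (h : VZ F₁ F₂ p A B)
include h

theorem exA : ∃ g ∈ A, g ∉ B := h.hA.exists_mem h.hB.idx' h.ne

theorem exB : ∃ g ∈ B, g ∉ A := h.hB.exists_mem h.hA.idx' h.ne.symm

theorem idxA : (A ⊓ B).relIndex A = p := h.exA.elim fun _ e => h.hB.relIndex_inf e.1 e.2

theorem idxB : (A ⊓ B).relIndex B = p := h.exB.elim fun _ e => inf_comm A B ▸ h.hA.relIndex_inf e.1 e.2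

theorem supA (hg : g ∈ A) (hg' : g ∉ B) : A ⊓ B ⊔ zpowers g = A := h.hB.inf_sup hg hg'

theorem supB (hg : g ∈ B) (hg' : g ∉ A) : A ⊓ B ⊔ zpowers g = B := inf_comm A B ▸ h.hA.inf_sup hg hg'

theorem cM (x y : G) : ⁅x, y⁆ ∈ A ⊓ B := ⟨h.hA.comm_mem x y, h.hB.comm_mem x y⟩

theorem ZM : zO p G ≤ A ⊓ B := le_inf h.hA.zO_le h.hB.zO_le

theorem nM : (A ⊓ B).Normal := normal_of_comm_mem fun x _ => h.cM x

theorem nU : (uO F₁ p A).Normal := h.hA.inv_normal h.hA.aInv_uO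

theorem ZU : zO p G ≤ uO F₁ p A := (h.hA.lt_uO h.vA).le

theorem cU : Nat.card (uO F₁ p A) ≤ p ^ 3 := h.hr.elem h.hA.uO_elem le_top

theorem sp (ha : a ∈ uO F₁ p A) (ha' : a ∉ B) : SP F₁ p A B := by
  haveI := h.nU
  haveI := h.hB.inv_normal (aInv_phiF F₂ B)
  have hG := h.hA.pg
  obtain ⟨y, hy, hy'⟩ := h.exB
  have e : cfix B (phiF B) a = A ⊓ B := (eq_or_eq_of_relIndex (fun x (hx : x ∈ A ⊓ B) => mem_cfix'.2
    ⟨hx.2, h.hA.uO_comm ha hx.1 ▸ one_mem _⟩) (cfix_le _ _ _) h.idxB).resolve_right fun e =>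
      ha' (h.hB.mem_of_three (aInv_phiF F₂ B) (aInv_phiF F₂ B) (h.hB.nI a)
        (fun x hx => (mem_cfix'.1 (e.ge hx)).2) (fun x hx _ => comm_mem_left _ hx a)
        fun x hx _ => comm_mem_left _ hx a)
  obtain ⟨_, W, t⟩ := h.hB.exists_gq (sec_phiF hG) (h.hB.nI a) (e ▸ h.idxB) (fun i =>
    ha' (h.hB.mem_of_three (e ▸ i) (aInv_bot F₂ B) (h.hB.nI a) (fun x _ => h.cM x a)
      (fun x hx _ => h.hA.uO_comm ha hx.1) fun x hx _ => by simp [mem_bot.1 hx])) hy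
    (e ▸ fun e => hy' e.1)
  obtain ⟨φ, hφ, rfl⟩ := t.conj
  have b1 := comm_mem_right _ y ha
  have b2 : φ ⁅y, a⁆ ∉ A := fun e => t.ne (h.hA.uO_comm ha e ▸ one_mem _)
  have l1 : uO F₁ p A ⊓ B < uO F₁ p A := inf_lt_left.2 fun e => ha' (e ha)
  obtain ⟨c1, c2⟩ := card_eq_of_lt hG ((le_inf h.ZU h.hB.zO_le).lt_of_not_ge fun e =>
    b2 (h.hA.zO_le (h.zB φ hφ _ (e ⟨b1, t.memb.1⟩)))) h.hA.zO_ne (card_le_of_lt hG l1 h.cU)
  have c3 := mul_card_le_of_lt hG l1 le_top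
  have f : phiF A = ⊥ := by_contra fun e => ha' (phiF_le_of_relIndex hG inf_le_left le_top h.idxA
    (h.hA.uO_le_of c1 (aInv_phiF F₁ A) e ha)).2
  have c4 := h.hr.phi hG (le_top (a := A))
  rw [f, card_bot, mul_one] at c4
  rw [c2, ← pow_succ'] at c3
  have l2 := eq_of_le_of_card_ge (fun _ => h.hA.uO_mem) (c4.trans c3)
  exact ⟨l2.ge, le_antisymm c4 (l2 ▸ c3), c1, _, hφ.mem t.memb.1, b2,
    iso_pow hφ t.memb.1 (h.hA.uO_pow b1)⟩

theorem nz (hc : c ∈ uO F₁ p A) : A ≤ normalizer (zpowers c : Set G) :=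
  le_normalizer_of_le_zc (zpowers_le.2 (mem_zc'.2 ⟨h.hA.uO_mem hc, fun _ => h.hA.uO_comm hc⟩))

theorem mem_uO (hU : uO F₁ p A ≤ B) (hM : ∀ x ∈ A ⊓ B, ∀ y ∈ A ⊓ B, ⁅x, y⁆ = 1) (hw : w ∈ zc B)
    (hwA : w ∈ A) (hp' : w ^ p = 1) : w ∈ uO F₁ p A := by
  by_contra hn
  haveI := h.nU
  haveI := h.nM
  have hG := h.hA.pg
  obtain ⟨g, hg, hg'⟩ := h.exA
  set D := om p (A ⊓ B) ⊥ (pcl_of_comm (normal_le_normalizer _ _) hM)
  haveI : D.Normal := ⟨fun x hx g => ⟨Normal.conj_mem inferInstance x hx.1 g, by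
    rw [conj_pow, mem_bot.1 hx.2]; simp⟩⟩
  have UD : uO F₁ p A ≤ D := fun u hu => ⟨⟨h.hA.uO_mem hu, hU hu⟩, h.hA.uO_pow hu⟩
  have wD : w ∈ D := ⟨⟨hwA, hw.1⟩, hp'⟩
  have c0 := h.hr.elem (elem_of (H := D) (fun x hx y hy => hM x hx.1 y hy.1) fun x hx => hx.2) le_top
  obtain ⟨c1, c2⟩ := card_eq_of_lt hG (h.hA.lt_uO h.vA) h.hA.zO_ne
    (card_le_of_lt hG (UD.lt_of_not_ge fun e => hn (e wD)) c0)
  have c3 : Nat.card D ≤ p * Nat.card (uO F₁ p A) := by rw [c2]; linarith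
  have hc := comm_mem_of_card hG UD c3 wD g
  have c4 : ⁅w, g⁆ ≠ 1 := fun e =>
    hn (h.ZU (h.hB.mem_zO_of (mem_zc'.1 hw).2 hg' (comm_one_symm e) hp'))
  have nc := h.nz hc
  have P : ∀ x ∈ A, ∀ d ∈ D, ⁅x, d⁆ ∈ zpowers ⁅w, g⁆ := fun x hx d hd => comm_mem_symm
    (comm_mem_of_sup_zpowers (fun _ hu => nc (h.hA.uO_mem hu)) (nc hwA)
      (fun u hu => comm_one_symm (h.hA.uO_comm hu hx) ▸ one_mem _) (comm_mem_symm
        (comm_mem_of_sup_zpowers (inf_le_left.trans nc) (nc hg) (fun m hm => hM m hm w wD.1 ▸ one_mem _)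
          (comm_mem_symm (mem_zpowers _)) x ((h.supA hg hg').ge hx))) d
      ((eq_sup_of_card hG UD le_top c3 wD hn).ge hd))
  have DA : D ≤ A := fun _ hx => hx.1.1
  by_cases hi : F₁.AInv A D
  · exact c4 (comm_one_symm ((h.hA.eq_bot_of_le h.vA c1 (aInv_comm (aInv_self F₁ A) hi le_rfl DA)
      (commutator_le.2 P) (h.hA.uO_pow hc)).le (commutator_mem_commutator hg wD)))
  obtain ⟨σ, hσ⟩ := not_forall.1 hi
  obtain ⟨hσ, d, hd, hd'⟩ : F₁.Iso A A σ ∧ ∃ d ∈ D, σ d ∉ D := by simpa using hσ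
  have d1 := hσ.mem (DA hd)
  have hc' := h.hA.aInv_uO σ hσ _ hc
  have nc' := h.nz hc'
  have := commutator_sup_zpowers_le (inf_le_left.trans nc') (nc' d1)
    (fun a ha b hb => hM a ha b hb ▸ one_mem _) fun a ha => comm_mem_symm (iso_comm_mem hσ
      (fun _ => map_zp hσ.homOn (h.hA.uO_mem hc)) (DA hd) (fun x hx => P x hx d hd) ha.1)
  rw [h.supA d1 fun e => hd' ⟨⟨d1, e⟩, iso_pow hσ (DA hd) hd.2⟩] at this
  exact c4 ((h.hA.eq_bot_of_le h.vA c1 (aInv_commutator F₁ A) this (h.hA.uO_pow hc')).le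
    (commutator_mem_commutator hwA hg))

theorem iso_mem (hU : uO F₁ p A ≤ B) (hτ : F₂.Iso B B τ) (hu : u ∈ uO F₁ p A) : τ u ∈ A := by
  by_contra hy'
  haveI := h.nU
  haveI := h.nM
  have hG := h.hA.pg
  have hy := hτ.mem (hU hu)
  have yp := iso_pow hτ (hU hu) (h.hA.uO_pow hu)
  have u1 : u ∉ zO p G := fun e => hy' (h.hA.zO_le (h.zB τ hτ u e))
  have u2 : ∀ v ∈ uO F₁ p A, ∀ g, ⁅g, v⁆ ∈ zO p G := fun v hv => h.hA.comm_all
    (fun e he => h.hA.uO_comm hv he ▸ one_mem _) hy' (h.hA.uO_zO (comm_mem_right _ _ hv) hy' (by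
      obtain ⟨w, hw, rfl⟩ := hτ.exists_eq (hU hv)
      rw [← hτ.homOn.map_commutator (hU hu) hw]
      exact iso_comm hτ (hU hu) (h.hB.comm_mem _ _)
        (elem_comm h.hA.uO_elem hu (comm_mem_left _ hu w))))
  have y1 : ∀ b ∈ B, ⁅b, τ u⁆ ∈ zO p G := fun b =>
    iso_comm_mem hτ (h.zB τ hτ) (hU hu) fun x _ => u2 u hu x
  haveI : (zpowers ⁅τ u, u⁆).Normal := normal_of_comm_mem fun x hx g =>
    zO_comm (zpowers_le.2 (u2 u hu _) hx) g ▸ one_mem _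
  have y2 : ∀ b ∈ B, ⁅b, τ u⁆ ∈ zpowers (τ ⁅τ u, u⁆) := fun b => iso_comm_mem hτ
    (fun _ => map_zp hτ.homOn (h.hB.comm_mem _ _)) (hU hu) fun x hx => comm_sup_zp
      (fun m (hm : m ∈ A ⊓ B) => by rw [h.hA.uO_comm hu hm.1]; exact one_mem _) (mem_zpowers _) x
        ((h.supB hy hy').ge hx)
  have y3 := (mem_zO.1 (h.zB τ hτ _ (u2 u hu (τ u)))).2
  generalize τ u = y at hy hy' yp y1 y2 y3
  have uy : ⁅u, y⁆ ≠ 1 := fun e => u1 (h.hA.uO_zO hu hy' (comm_one_symm e))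
  have idx : ∀ S ≤ B, u ∈ S → (cfix S ⊥ y).relIndex S = p := fun S hS huS =>
    relIndex_eq_of_le hG le_top (by
      rw [cfix, inf_relIndex_left]
      refine (relIndex_commMod_le (normal_le_normalizer _ _) (nle _ _) fun s hs => y2 s (hS hs)).trans ?_
      rw [relIndex_bot_left, Nat.card_zpowers]
      exact orderOf_le_of_pow_eq_one hp.out.pos y3) fun e => uy (e huS).2.2
  have uM : u ∈ A ⊓ B := ⟨h.hA.uO_mem hu, hU hu⟩
  have iW := idx _ inf_le_right uM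
  have sM := sup_zpowers_eq (cfix_le _ _ _) iW uM fun e => uy e.2.2
  have sB := h.supB hy hy'
  have cW := h.hr.comm_of_pair hG (W := cfix (A ⊓ B) ⊥ y) le_top (mem_top y) (mem_top u)
    (fun w hw => comm_one_iff.1 hw.2.2) (fun w hw => comm_one_iff.1 (h.hA.uO_comm hu hw.1.1))
    (mem_cfix'.2 ⟨h.cM _ _, zO_comm (u2 u hu y) y⟩) (yp ▸ one_mem _) (h.hA.uO_pow hu ▸ one_mem _)
    (fun e => uy e.2.2) (sM.symm ▸ fun e => hy' e.1)
  have eW : cfix (A ⊓ B) ⊥ y = zc B := le_antisymm (fun w hw => mem_zc'.2 ⟨hw.1.2, sB ▸ sM ▸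
    comm_one_of_sup (comm_one_of_sup (fun x hx => comm_one_iff.2 (cW x hx w hw))
      (comm_one_symm (h.hA.uO_comm hu hw.1.1))) (comm_one_symm hw.2.2)⟩) fun w hw => mem_cfix'.2
    ⟨⟨by_contra fun e => u1 (h.hA.uO_zO hu e (comm_one_symm ((mem_zc'.1 hw).2 u (hU hu)))), hw.1⟩,
      comm_one_symm ((mem_zc'.1 hw).2 y hy)⟩
  rw [eW] at iW sM
  haveI := h.hB.inv_normal (aInv_zc F₂ B)
  haveI := h.hB.inv_normal (aInv_phiF F₂ B)
  have hM : ∀ x ∈ A ⊓ B, ∀ y ∈ A ⊓ B, ⁅x, y⁆ = 1 := fun a ha b hb => comm_one_iff.2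
    (comm_sup_zpowers (comm_of_isMulCommutative inferInstance) (fun a (ha : a ∈ zc B) => ha.2 u (hU hu))
      a (sM.ge ha) b (sM.ge hb))
  have k1 := commutator_sup_zpowers_le (normal_le_normalizer (zO p G) _) (nle _ y)
    (fun a ha b hb => hM a ha b hb ▸ one_mem _) fun a ha => comm_mem_symm (y1 a ha.2)
  rw [sB] at k1
  have ZB : zO p G ≤ zc B := fun z hz => mem_zc'.2 ⟨h.hB.zO_le hz, fun y _ => (mem_zO.1 hz).1 y⟩
  have cl : Cl2 p B := fun a ha b hb => have := k1 (commutator_mem_commutator ha hb)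
    ⟨(mem_zO.1 this).2, fun z _ => comm_one_iff.1 ((mem_zO.1 this).1 z)⟩
  have f1 := phiF_le_of (S := ⊤) le_top (fun a ha b hb => ZB (k1 (commutator_mem_commutator ha hb)))
    fun x hx => mem_zc'.2 ⟨B.pow_mem hx p, fun b hb => comm_one_symm (cl.pow_comm hx hb)⟩
  have f2 := h.hr.phi hG (le_top (a := B))
  rw [card_of_relIndex inf_le_right h.idxB, card_of_relIndex (sM ▸ le_sup_left) iW] at f2
  have f3 : Nat.card (zc B) ≤ p * Nat.card (phiF B) :=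
    Nat.le_of_mul_le_mul_left (c := p ^ 2) (by linarith) (pow_pos hp.out.pos 2)
  obtain ⟨g, hg, hg'⟩ := h.exA
  have t1 : ⁅g, y⁆ ∉ zc B := fun e => hg' (h.hB.mem_of_three (aInv_zc F₂ B) (aInv_phiF F₂ B) (h.hB.nI g)
    (fun x hx => comm_sup_zp (fun x hx => comm_sup_zp (fun x hx => comm_mem_left _ hx g)
      (comm_one_symm (h.hA.uO_comm hu hg) ▸ one_mem _) x (sM.ge hx)) (comm_mem_symm e) x (sB.ge hx))
    (fun x hx _ => comm_mem_of_card hG f1 f3 hx g) fun x hx _ => comm_mem_left _ hx g)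
  have t2 : ⁅g, y⁆ ^ p = 1 := by
    haveI := h.hB.normal
    rw [cl.comm_pow h.odd (nle B g) hy, yp, commutatorElement_one_right]
  have t3 : ⁅g, y⁆ ∈ uO F₁ p A := by
    obtain ⟨w, hw, k, e⟩ := (mem_sup_zpowers (nle _ u)).1 (sM.ge (h.cM g y))
    have wM := (sM ▸ le_sup_left : zc B ≤ A ⊓ B) hw
    refine e ▸ Subgroup.mul_mem _ (h.mem_uO hU hM hw wM.1 ?_) (Subgroup.zpow_mem _ hu k)
    rwa [e, cl.mul_pow h.odd hw.1 (B.zpow_mem (hU hu) k), h.hA.uO_pow (Subgroup.zpow_mem _ hu k),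
      mul_one] at t2
  have iX := aInv_sup h.hA.aInv_uO (aInv_commutator F₁ A) (fun _ => h.hA.uO_mem)
    (commutator_le.2 fun x _ y _ => h.hA.comm_mem x y)
  haveI := h.hA.inv_normal iX
  have e : cfix (uO F₁ p A) ⊥ y = zO p G := le_antisymm (fun x hx => h.hA.uO_zO hx.1 hy'
    (comm_one_symm hx.2.2)) fun x hx => mem_cfix'.2 ⟨h.ZU hx, zO_comm hx y⟩
  have iU := idx _ hU hu
  obtain ⟨a, W, t⟩ := h.hA.exists_gq ⟨le_top, fun _ => h.hA.uO_mem, bot_le, h.hA.aInv_uO, aInv_bot F₁ A,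
    fun e he x hx => comm_one_symm (h.hA.uO_comm hx he)⟩ (h.hA.nI y) iU (e ▸ h.vA) hu (e ▸ u1)
  obtain ⟨β, b1, b2, -, b3, -, b4⟩ := t.torus (-1) (-1) (by simp)
  have b5 := h.hA.oQ_triv iX (aInv_self F₁ A) le_rfl (fun s _ x hx => comm_mem_symm (h.hA.comm_all
    (fun e he => mem_sup_right (commutator_mem_commutator he hx)) hy' (comm_mem_symm (comm_sup_zp
      (fun m (hm : m ∈ A ⊓ B) => mem_sup_left (h.ZU (y1 m hm.2))) (mem_sup_left t3) x ((h.supA hg hg').ge hx))) s))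
    b2 g hg
  rw [h.hA.nI_eq] at b1
  obtain ⟨φ, hφ, rfl⟩ := t.conj
  rw [e] at iU
  have w1 : Wt (toAut b1) (zO p G) ⁅g, y⁆ (-1) := Wt.of_mem (Wt.mono b3 bot_le) (fun _ => map_mem_zO _)
    ((sup_zpowers_eq h.ZU iU (h.hA.aInv_uO φ hφ _ t.memb.1) fun e => t.ne (zO_comm e y)).ge t3)
  have hMZ := fun x hx => comm_mem_of_relIndex hG iW.dvd (x := x) hx
  have k2 := commutator_sup_zpowers_le (normal_le_normalizer (zc B) _) (nle _ g)
    (fun a ha b _ => hMZ a ha b) fun a ha => comm_mem_symm (hMZ a ha g)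
  rw [h.supA hg hg'] at k2
  have w2 := Wt.comm (α := toAut b1) (N := zc B) (c := 1) (A := A ⊓ B) (by
      rw [Wt, zpow_one]
      exact sup_le (le_inf (fun _ => h.hA.uO_mem) hU) (commutator_le.2 fun x _ y _ => h.cM x y) b5)
    b4 hg (mem_top y) le_top (fun a ha v _ => hMZ a ha v)
    (fun a ha b hb => k2 (commutator_mem_commutator ha hb)) fun a _ => hMZ _ (h.cM a y)
  exact not_neg_one_modEq h.odd (by simpa using (w1.mono ZB).uniq w2 t1 (t2 ▸ one_mem _))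

end VZ

end Cfsg.Agent.H1
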