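import Cfsg.Agent.H1.R4

/-!
# A pair of subgroups of which exactly one moves the centre, continued
-/

set_option autoImplicit false
set_option linter.unusedSectionVars false

namespace Cfsg.Agent.H1

open Equiv Cfsg.Fus Cfsg.FusionSystem Subgroup
open scoped commutatorElement

variable {G : Type*} [Group G] [Finite G] {F F₁ F₂ : FusionSystem (⊤ : Subgroup G)} {p : ℕ}
  [hp : Fact p.Prime] {A B C D E H K N T U W X Y : Subgroup G} {a b c d g s u v w x y z : G}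
  {σ τ β : Perm G}

theorem comm_comm_mem [N.Normal] (h1 : ∀ w ∈ W, ∀ g ∈ H, ⁅w, g⁆ ∈ K) (h2 : ∀ k ∈ K, ∀ g ∈ H, ⁅k, g⁆ ∈ N)
    (hw : w ∈ W) (hx : x ∈ H) (hy : y ∈ H) : ⁅w, ⁅x, y⁆⁆ ∈ N := by
  have e : ⁅⁅W, H⁆, H⁆ ≤ N := (commutator_mono (commutator_le.2 h1) le_rfl).trans (commutator_le.2 h2)
  exact comm_mem_symm (three_subgroups (commutator_comm W H ▸ e) e
    (commutator_mem_commutator (commutator_mem_commutator hx hy) hw))

theorem card_sup_zp_le [N.Normal] (hx : x ^ p ∈ N) :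
    Nat.card (N ⊔ zpowers x : Subgroup G) ≤ p * Nat.card N := by
  by_cases e : x ∈ N
  · rw [sup_eq_left.2 (zpowers_le.2 e)]; exact Nat.le_mul_of_pos_left _ hp.out.pos
  · exact (card_sup_zp (nle N x) e hx).le

theorem cMod_mono [D.Normal] [K.Normal] (h1 : B ≤ A) (h2 : D ≤ K) : cMod A D ≤ cMod B K :=
  fun _ hx => mem_cMod.2 fun y hy => h2 (mem_cMod.1 hx y (h1 hy))

theorem not_aInv (h : ¬ F.AInv E X) : ∃ σ, F.Iso E E σ ∧ ∃ x ∈ X, σ x ∉ X := by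
  simpa [AInv] using h

theorem relIndex_of_card (hA : A ≤ B) (h : Nat.card B = p * Nat.card A) : A.relIndex B = p :=
  Nat.eq_of_mul_eq_mul_left (card_pos' A) (by rw [H8.card_mul_relIndex' hA, h, mul_comm])

theorem NE.crit (h : NE F p E) (hp2 : p ≠ 2) : ∃ D ≤ E, F.AInv E D ∧ (∀ x ∈ D, x ^ p = 1) ∧
    (∀ x ∈ D, ∀ g ∈ E, ⁅x, g⁆ ∈ zc D) ∧ F.Det p E D := by
  obtain ⟨D, h1, h2, h3, h4, h5⟩ := h.sat.exists_crit h.pg (le_top (a := E))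
  exact ⟨D, h1.trans inf_le_left, h2, by simpa [expo, hp2] using h3, fun x hx g hg => by
    simpa [commutatorElement_def, mul_assoc] using h4 _ (D.inv_mem hx) g hg, h5⟩

/-- The closure `Y` of `U` under the second automiser is bigger than `U`. -/
structure YD (F₁ F₂ : FusionSystem (⊤ : Subgroup G)) (p : ℕ) [Fact p.Prime] (A B Y : Subgroup G) :
    Prop extends VZ F₁ F₂ p A B where
  UY : uO F₁ p A ≤ Y
  YM : Y ≤ A ⊓ B
  el : IsElementaryAbelian p Y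
  cZ : Nat.card (zO p G) = p
  cU' : Nat.card (uO F₁ p A) = p ^ 2
  cY : Nat.card Y = p ^ 3
  invB : F₂.AInv B Y
  YB : ∀ y ∈ Y, ∀ b ∈ B, ⁅b, y⁆ ∈ zO p G
  mv : ¬ F₂.AInv B (uO F₁ p A)

theorem VZ.yd (h : VZ F₁ F₂ p A B) (hU : uO F₁ p A ≤ B) (hn : ¬ F₂.AInv B (uO F₁ p A)) :
    YD F₁ F₂ p A B (orbCl F₂ B (uO F₁ p A)) := by
  haveI := h.nU
  have hG := h.hA.pg
  have i := aInv_orbCl (F := F₂) hU
  have l1 : orbCl F₂ B (uO F₁ p A) ≤ A := (closure_le _).2 (by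
    rintro _ ⟨τ, u, hτ, hu, rfl⟩
    exact h.iso_mem hU hτ hu)
  have l2 := le_orbCl (F := F₂) (U := B) (Z := uO F₁ p A) le_top
  have l3 := orbCl_le (fun u hu => mem_opc.2 ⟨l2 hu, fun y hy => h.hA.uO_comm hu (l1 hy),
    h.hA.uO_pow hu⟩) (aInv_opc (p := p) i (aInv_bot F₂ B) (orbCl_le_self hU))
  have el := elem_of (fun x hx y hy => (mem_opc.1 (l3 hy)).2.1 x hx) fun x hx => (l3 hx).2
  have l4 := l2.lt_of_ne fun e => hn (e ▸ i)
  have c0 := h.hr.elem el le_top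
  obtain ⟨c1, c2⟩ := card_eq_of_lt hG (h.hA.lt_uO h.vA) h.hA.zO_ne (card_le_of_lt hG l4 c0)
  have c3 := mul_card_le_of_lt hG l4 le_top
  refine ⟨h, l2, le_inf l1 (orbCl_le_self hU), el, c1, c2, le_antisymm c0 (by rwa [c2, ← pow_succ'] at c3),
    i, fun y hy => mem_cMod.1 (orbCl_le (le_inf hU fun u hu => mem_cMod.2 fun b _ => comm_mem_symm
      (comm_mem_of_card hG h.ZU (by rw [c1, c2, sq]) hu b))
      (aInv_cMod (aInv_self F₂ B) (aInv_self F₂ B) h.zB le_rfl le_rfl) hy).2, hn⟩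

namespace YD

variable (h : YD F₁ F₂ p A B Y)
include h

theorem nY : Y.Normal := h.hB.inv_normal h.invB

theorem iY : (uO F₁ p A).relIndex Y = p := relIndex_of_card h.UY (by rw [h.cY, h.cU', pow_succ'])

theorem iU : (zO p G).relIndex (uO F₁ p A) = p := relIndex_of_card h.ZU (by rw [h.cZ, h.cU', sq])

theorem cYU (hy : y ∈ Y) (g : G) : ⁅y, g⁆ ∈ uO F₁ p A :=
  have := h.nU; have := h.nY; comm_mem_of_relIndex h.hA.pg h.iY.dvd hy g

theorem cUZ (hy : y ∈ uO F₁ p A) (g : G) : ⁅y, g⁆ ∈ zO p G :=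
  have := h.nU; comm_mem_of_relIndex h.hA.pg h.iU.dvd hy g

theorem memY (hx : x ∈ cMod Y ⊥) (h1 : x ^ p = 1) : x ∈ Y :=
  h.hr.mem' h.el h.cY.ge h1 (mem_cMod.1 hx)

theorem fix (hg' : g ∉ B) : cfix Y (zO p G) g = uO F₁ p A := by
  refine (eq_or_eq_of_relIndex (fun x hx => mem_cfix'.2 ⟨h.UY hx, h.cUZ hx g⟩) (cfix_le _ _ _)
    h.iY).resolve_right fun e => hg' ?_
  obtain ⟨D, d1, d2, d3, -, d4⟩ := h.hB.crit h.odd
  have k : ∀ y ∈ Y, ∀ g ∈ (⊤ : Subgroup G), ⁅y, g⁆ ∈ zO p G := fun y hy s _ => comm_mem_symm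
    (h.hB.comm_all (h.YB y hy) hg' (comm_mem_symm (e.ge hy).2.2) s)
  exact h.hB.mem_of_det d4 d1 d2 (aInv_cMod (aInv_self F₂ B) h.invB (aInv_bot F₂ B) le_rfl
    (h.YM.trans inf_le_right)) h.zB (aInv_bot F₂ B) (h.hB.nI g) (fun x _ => ⟨h.hB.comm_mem _ _,
      mem_cMod.2 fun y hy => comm_comm_mem k (fun z hz g _ => zO_comm hz g) hy trivial trivial⟩)
    (fun x hx => k x (h.memY hx.2.2 (d3 x hx.1)) g trivial) (fun x hx => zO_comm hx.2 g)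
    fun x hx => by simp [mem_bot.1 hx.2]

theorem invA : F₁.AInv A Y := by
  haveI := h.nU
  have YA := h.YM.trans inf_le_left
  have i := aInv_orbCl (F := F₁) YA
  have l1 := orbCl_le_self (F := F₁) YA
  have l2 := le_orbCl (F := F₁) (U := A) (Z := Y) le_top
  have l3 := orbCl_le (le_inf YA fun y hy => mem_cMod.2 fun a _ => comm_mem_symm (h.cYU hy a))
    (aInv_cMod (aInv_self F₁ A) (aInv_self F₁ A) h.hA.aInv_uO le_rfl le_rfl)
  have k : ∀ x ∈ orbCl F₁ A Y, ∀ y ∈ orbCl F₁ A Y, ⁅x, y⁆ ∈ uO F₁ p A := fun x hx y hy =>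
    mem_cMod.1 (l3 hy).2 x (l1 hx)
  have cl : Cl2 p (orbCl F₁ A Y) := fun x hx y hy => ⟨h.hA.uO_pow (k x hx y hy), fun z hz =>
    comm_one_iff.1 (h.hA.uO_comm (k x hx y hy) (l1 hz))⟩
  have l4 := orbCl_le (A := om p _ ⊥ (cl.pcl h.odd ⊥)) (fun y hy => ⟨l2 hy, h.el.2 y hy⟩)
    (aInv_om i (aInv_bot F₁ A) l1 _)
  have c := h.hA.card_le h.vA h.hr h.cZ i (h.UY.trans l2) l1 (fun x hx => (l4 hx).2) fun x hx y hy =>
    ⟨l2 (h.UY (k x hx y hy)), (cl x hx y hy).2⟩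
  exact eq_of_le_of_card_ge l2 (c.trans h.cY.ge) ▸ i

theorem CM : cMod Y ⊥ ≤ A ⊓ B := fun g hg => ⟨h.hA.mem_of_cent_uO h.vA fun u hu =>
  comm_one_symm (mem_cMod.1 hg u (h.UY hu)), by_contra fun e => hp.out.one_lt.ne' (h.iY.symm.trans
    (relIndex_eq_one.2 (h.fix e ▸ fun y hy => mem_cfix'.2 ⟨hy, bot_le (a := zO p G) (mem_cMod.1 hg y hy)⟩)))⟩

theorem YC : Y ≤ cMod Y ⊥ := fun _ hy => mem_cMod.2 fun _ hx => elem_comm h.el hx hy

theorem invC : F₁.AInv A (cMod Y ⊥) ∧ F₂.AInv B (cMod Y ⊥) :=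
  ⟨inf_eq_right.2 (h.CM.trans inf_le_left) ▸ aInv_cMod (aInv_self F₁ A) h.invA (aInv_bot F₁ A) le_rfl
    (h.YM.trans inf_le_left), inf_eq_right.2 (h.CM.trans inf_le_right) ▸ aInv_cMod (aInv_self F₂ B)
    h.invB (aInv_bot F₂ B) le_rfl (h.YM.trans inf_le_right)⟩

theorem exY : ∃ y ∈ Y, y ∉ uO F₁ p A := SetLike.not_le_iff_exists.1 fun e =>
  hp.out.one_lt.ne' (h.iY.symm.trans (relIndex_eq_one.2 e))

theorem fix' (hs : s ∈ B) (hs' : s ∉ A) (hg' : g ∉ B) (hy : y ∈ Y) (e : ⁅y, ⁅s, g⁆⁆ = 1) :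
    y ∈ uO F₁ p A := by
  haveI := h.nY
  by_contra hy'
  have k := (sup_zpowers_eq h.UY h.iY hy hy').ge (Normal.conj_mem inferInstance y hy (g * s))
  have e1 := comm_one_iff.1 (comm_one_of_sup (fun u hu =>
    comm_one_symm (h.hA.uO_comm hu (h.hA.comm_mem s g))) e _ k)
  have e2 := comm_one_iff.1 ((mem_zO.1 (h.YB y hy s hs)).1 g)
  have e3 := comm_one_iff.1 ((mem_zO.1 (h.YB y hy s hs)).1 ⁅g, y⁆)
  refine hy' (h.fix hg' ▸ mem_cfix'.2 ⟨hy, comm_mem_symm (h.hA.uO_zO (comm_mem_symm (h.cYU hy g)) hs' ?_)⟩)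
  simp only [commutatorElement_def] at e1 e2 e3 ⊢
  calc _ = (s * g * s⁻¹ * g⁻¹ * (g * s * y * (g * s)⁻¹)) * (g * s * g⁻¹ * y⁻¹ * s⁻¹) *
      (y * g * y⁻¹ * g⁻¹) := by group
    _ = g * (s * y * s⁻¹ * y⁻¹) * (y * g⁻¹ * s * y⁻¹ * s⁻¹ * y * g * y⁻¹ * g⁻¹) := by rw [← e1]; group
    _ = (s * y * s⁻¹ * y⁻¹) * (g * y * g⁻¹ * y⁻¹) * (s * y * s⁻¹ * y⁻¹)⁻¹ * (y * g * y⁻¹ * g⁻¹) := by
      rw [e2]; group
    _ = 1 := by rw [← e3]; group

theorem uq (hX : F₂.AInv B X) (h1 : zO p G ≤ X) (h2 : X ≤ Y) (h3 : ¬ Y ≤ X) : X ≤ zO p G := by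
  by_contra e
  haveI := h.hB.inv_normal hX
  obtain ⟨g, -, hg⟩ := h.exA
  obtain ⟨-, c⟩ := card_eq_of_lt h.hA.pg (h1.lt_of_not_ge e) h.hA.zO_ne
    (card_le_of_lt h.hA.pg (h2.lt_of_not_ge h3) h.cY.le)
  exact h.mv (eq_of_le_of_card_ge (h.fix hg ▸ fun x hx => mem_cfix'.2 ⟨h2 hx, comm_mem_of_card h.hA.pg h1
    (by rw [c, h.cZ, sq]) hx g⟩) (h.cU'.trans c.symm).le ▸ hX)

theorem not_le : ¬ cMod Y ⊥ ≤ Y := fun hC => by
  haveI := h.nY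
  haveI := h.nM
  have hG := h.hA.pg
  obtain ⟨g, hg, hg'⟩ := h.exA
  obtain ⟨s, hs, hs'⟩ := h.exB
  obtain ⟨y, hy, hy'⟩ := h.exY
  have x1 : ⁅s, g⁆ ∉ Y := fun e => hy' (h.fix' hs hs' hg' hy (elem_comm h.el hy e))
  have i1 := relIndex_commMod_le (S := A ⊓ B) (normal_le_normalizer ⊥ _) (nle _ _)
    fun m hm => h.YB y hy m hm.2
  rw [relIndex_bot_left, h.cZ, ← inf_relIndex_right] at i1
  have i2 := relIndex_eq_of_le hG le_top ((relIndex_le_of_le_left (fun m (hm : m ∈ commMod ⊥ y ⊓ (A ⊓ B)) => hC (mem_cMod.2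
    ((sup_zpowers_eq h.UY h.iY hy hy') ▸ comm_one_of_sup (fun u hu => comm_one_symm
      (h.hA.uO_comm hu hm.2.1)) (comm_one_symm hm.1.2))))
    (relIndex_ne_zero_of_finite le_rfl)).trans i1) fun e => x1 (e (h.cM s g))
  have sM := sup_zpowers_eq h.YM i2 (h.cM s g) x1
  have c1 := comm_mem_of_relIndex hG i2.dvd (h.cM s g) s
  have l1 : zO p G ⊔ zpowers ⁅⁅s, g⁆, s⁆ ≤ Y := sup_le (h.ZU.trans h.UY) (zpowers_le.2 c1)
  have n1 : B ≤ normalizer ((zO p G ⊔ zpowers ⁅⁅s, g⁆, s⁆ : Subgroup G) : Set G) := fun b hb =>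
    normalizer_of_comm (S := ⊤) le_top fun x hx => mem_sup_left (h.YB x (l1 hx) b hb)
  have nY := (h.YM.trans inf_le_right).trans n1
  have k1 := commutator_sup_zpowers_le nY (n1 (h.cM s g).2)
    (fun a ha b hb => elem_comm h.el ha hb ▸ one_mem _) fun a ha => mem_sup_left (h.YB a ha _ (h.cM s g).2)
  rw [sM] at k1
  have k2 := commutator_sup_zpowers_le (inf_le_right.trans n1) (n1 hs)
    (fun a ha b hb => k1 (commutator_mem_commutator ha hb)) fun a ha => comm_mem_symm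
      (comm_mem_of_sup_zpowers nY (n1 (h.cM s g).2) (fun a ha => comm_mem_symm
        (mem_sup_left (h.YB a ha s hs))) (mem_sup_right (mem_zpowers _)) a (sM.ge ha))
  rw [h.supB hs hs'] at k2
  have k3 := h.uq (aInv_sup (aInv_commutator F₂ B) h.zB (commutator_le.2 fun x _ y _ =>
    h.hB.comm_mem x y) h.hB.zO_le) le_sup_right ((sup_le k2 le_sup_left).trans l1) fun e => by
      have := (card_le_of_le (e.trans (sup_le k2 le_sup_left))).trans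
        (card_sup_zp_le (p := p) (h.el.2 _ c1 ▸ one_mem _))
      rw [h.cY, h.cZ] at this
      nlinarith [hp.out.two_le, mul_pos hp.out.pos hp.out.pos]
  have k4 : ∀ a ∈ B, ∀ b ∈ B, ⁅a, b⁆ ∈ zO p G := fun a ha b hb =>
    k3 (mem_sup_left (commutator_mem_commutator ha hb))
  have cl : Cl2 p B := fun a ha b hb =>
    ⟨(mem_zO.1 (k4 a ha b hb)).2, fun z _ => comm_one_iff.1 ((mem_zO.1 (k4 a ha b hb)).1 z)⟩
  have k5 := h.uq (aInv_inf (aInv_zc F₂ B) h.invB) (le_inf (fun z hz => mem_zc'.2 ⟨h.hB.zO_le hz,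
    fun y _ => (mem_zO.1 hz).1 y⟩) (h.ZU.trans h.UY)) inf_le_right fun e => (h.hA.lt_uO h.vA).not_ge
      fun u hu => h.hA.uO_zO hu hs' ((mem_zc'.1 (e (h.UY hu)).1).2 s hs)
  exact h.hr.chain hG (h.hA.lt_uO h.vA) (h.UY.lt_of_not_ge fun e => hy' (e hy))
    (h.YM.lt_of_not_ge fun e => x1 (e (h.cM s g))) (inf_lt_right.2 fun e => hs' (e hs)) le_top k4
    fun x hx => k5 ⟨mem_zc'.2 ⟨B.pow_mem hx p, fun b hb => comm_one_symm (cl.pow_comm hx hb)⟩,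
      hC (mem_cMod.2 fun y hy => comm_one_symm (cl.pow_comm hx (h.YM hy).2))⟩

theorem false : False := by
  haveI := h.nY
  haveI := h.nU
  have hG := h.hA.pg
  obtain ⟨g, hg, hg'⟩ := h.exA
  obtain ⟨s, hs, hs'⟩ := h.exB
  obtain ⟨y, hy, hy'⟩ := h.exY
  have CA := h.CM.trans inf_le_left
  have CB := h.CM.trans inf_le_right
  set C := cMod Y ⊥
  set W := opc p C Y
  have WC : W ≤ C := fun _ hw => hw.1.1
  have wA : F₁.AInv A W := aInv_opc h.invC.1 h.invA CA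
  have wB : F₂.AInv B W := aInv_opc h.invC.2 h.invB CB
  haveI := h.hA.inv_normal wA
  have cW : ∀ w ∈ W, ∀ c ∈ C, ⁅w, c⁆ ∈ Y := fun w hw c hc => comm_mem_symm ((mem_opc.1 hw).2.1 c hc)
  have cY : ∀ y ∈ Y, ∀ c ∈ C, ⁅y, c⁆ = 1 := fun y hy c hc => mem_cMod.1 hc y hy
  have cl : Cl2 p W := fun a ha b hb => ⟨h.el.2 _ (cW a ha b (WC hb)), fun z hz =>
    (comm_one_iff.1 (cY _ (cW a ha b (WC hb)) z (WC hz))).symm⟩
  have pY : cl.pw h.odd ≤ Y := by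
    rintro _ ⟨w, hw, rfl⟩
    exact hw.2
  have UP := h.hA.uO_le_of h.cZ (cl.aInv_pw h.odd wA (WC.trans CA)) fun e => by
    obtain ⟨c, c1, c2, c3, c4⟩ := Fus.exists_central_mod (isPGroup_of_le hG (le_top (a := C))) le_rfl
      (normal_le_normalizer Y _) le_normalizer h.not_le
    exact c2 (h.memY c1 (e.le ⟨c, mem_opc.2 ⟨c1, fun y hy => comm_mem_symm
      (comm_mem_of_conj (nle _ _) (c4 y hy)), c3⟩, rfl⟩))
  have YP : Y ≤ cl.pw h.odd := by_contra fun e => (h.hA.lt_uO h.vA).not_ge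
    (UP.trans (h.uq (cl.aInv_pw h.odd wB (WC.trans CB)) (h.ZU.trans UP) pY e))
  have xM := h.cM s g
  have fx := fun y => h.fix' (y := y) hs hs' hg'
  have k1 : ∀ w ∈ om p W (zO p G) (cl.pcl h.odd _), ⁅w, ⁅s, g⁆⁆ ∈ uO F₁ p A := fun w hw =>
    comm_comm_mem (H := ⊤) (W := om p W (zO p G) (cl.pcl h.odd _)) (fun w hw g _ => comm_mem_symm (h.memY (WC (comm_mem_right _ g hw.1)) (by
      rw [cl.comm_pow h.odd (nle _ g) hw.1, (mem_zO.1 hw.2).1]))) (fun y hy g _ => h.cYU hy g) hw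
      trivial trivial
  generalize ⁅s, g⁆ = x at xM fx k1
  have k2 : ∀ w ∈ W, ⁅w, x ^ p⁆ = ⁅w ^ p, x⁆ := fun w hw => by
    have e1 := cl.comm_pow h.odd (nle _ x) hw
    have e2 := comm_mem_symm (k1 _ ⟨comm_mem_right _ x hw, e1 ▸ h.YB _ hw.2 x xM.2⟩)
    have e3 := conj_pow_formula (x := x) (w := w) (y := ⁅x, w⁆) (v := ⁅x, ⁅x, w⁆⁆)
      (by simp [commutatorElement_def]) (by rw [commutatorElement_def x ⁅x, w⁆, inv_mul_cancel_right])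
      (comm_one_iff.1 (h.hA.uO_comm e2 xM.1)).symm
      (comm_one_iff.1 (h.hA.uO_comm e2 (h.hA.comm_mem _ _))).symm p
    rw [pow_choose_two h.odd (h.hA.uO_pow e2), one_mul, e1] at e3
    rw [← commutatorElement_inv, ← commutatorElement_inv x, commutatorElement_def (x ^ p), e3,
      mul_inv_cancel_right]
  have x1 : x ^ p ∈ C := mem_cMod.2 fun y hy => have := comm_mem_symm (h.YB y hy x xM.2)
    comm_pow_mem (zO_comm this x) (mem_zO.1 this).2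
  have x2 : x ^ p ∈ C ⊓ cMod W (zO p G) :=
    ⟨x1, mem_cMod.2 fun w hw => k2 w hw ▸ comm_mem_symm (h.YB _ hw.2 x xM.2)⟩
  set V := om p W (uO F₁ p A) (cl.pcl h.odd _)
  have VW : V ≤ W := fun _ hw => hw.1
  have x3 : x ^ p ∈ cMod V ⊥ :=
    mem_cMod.2 fun w hw => k2 w hw.1 ▸ comm_one_symm (h.hA.uO_comm hw.2 xM.1)
  have x4 : ∀ w ∈ W, ⁅w, x ^ p⁆ = 1 → w ^ p ∈ uO F₁ p A := fun w hw e => fx _ hw.2 (k2 w hw ▸ e)
  generalize x ^ p = c at x1 x2 x3 x4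
  obtain ⟨w, hw, rfl⟩ := YP hy
  obtain ⟨τ, hτ, t1⟩ := h.hA.exists_mv h.vA h.cZ
  obtain ⟨σ, hσ, u, hu, hu'⟩ := not_aInv h.mv
  have l1 : C ⊓ cMod W (zO p G) ≤ C ⊓ cMod W (uO F₁ p A) := inf_le_inf_left _ (cMod_mono le_rfl h.ZU)
  have t2 := aInv_cMod (aInv_cMod h.invC.1 wA h.hA.aInv_uO CA (WC.trans CA)) (aInv_om wA h.hA.aInv_uO
    (WC.trans CA) _) (aInv_bot F₁ A) (inf_le_left.trans CA) (VW.trans (WC.trans CA)) τ hτ c ⟨l1 x2, x3⟩
  have t3 := hτ.homOn.map_commutator (CA (WC hw)) (CA x1)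
  have t4 : τ ⁅w, c⁆ ∉ zO p G := fun e => hy' (x4 w hw (t1 _ (mem_cMod.1 x2.2 w hw) e))
  have t5 := h.hA.aInv_uO τ hτ _ (h.ZU (mem_cMod.1 x2.2 w hw))
  refine h.hr.chain hG (A := C ⊓ cMod W ⊥) (B := C ⊓ cMod W (zO p G) ⊓ cMod V ⊥)
    (C := C ⊓ cMod W (uO F₁ p A) ⊓ cMod V ⊥) (D := C ⊓ cMod W (uO F₁ p A)) (H := C)
    (lt_of_le_not_ge (le_inf (inf_le_inf_left _ (cMod_mono le_rfl bot_le))
      (inf_le_right.trans (cMod_mono VW le_rfl))) fun e => hy' (x4 w hw (mem_cMod.1 (e ⟨x2, x3⟩).2 w hw)))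
    (lt_of_le_not_ge (inf_le_inf_right _ l1) fun e =>
      t4 (t3 ▸ mem_cMod.1 (e t2).1.2 _ (wA τ hτ w hw)))
    (inf_lt_left.2 fun e => ?_) (inf_lt_left.2 fun e => ?_) le_top (fun a ha b hb =>
      ⟨comm_mem_left C ha b, mem_cMod.2 fun w hw => comm_comm_mem cW cY hw ha hb⟩) fun a ha =>
      ⟨C.pow_mem ha p, mem_cMod.2 fun w hw => comm_pow_mem (cY _ (cW w hw a ha) a ha)
        (h.el.2 _ (cW w hw a ha))⟩
  · obtain ⟨v, hv, e1⟩ := YP (h.invB σ hσ u (h.UY hu))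
    have e2 := mem_cMod.1 (e (l1 (aInv_cMod h.invC.2 wB h.zB CB (WC.trans CB) _ hσ.symm c x2))) (σ⁻¹ v)
      ⟨wB _ hσ.symm v hv, by rw [← hσ.symm.homOn.map_pow (CB (WC hv)), e1]; simpa using hu⟩
    rw [← hσ.symm.homOn.map_commutator (CB (WC hv)) (CB x1)] at e2
    exact hu' (e1 ▸ x4 v hv (by_contra fun e => iso_ne hσ.symm e e2))
  · have e1 := mem_cMod.1 (e (h.invC.2 σ hσ _ t2.1.1)) _ (wB σ hσ _ (wA τ hτ w hw))
    rw [← hσ.homOn.map_commutator (CB (WC (wA τ hτ w hw))) (CB t2.1.1), ← t3] at e1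
    have e2 := sup_zpowers_eq h.ZU h.iU t5 t4
    exact hu' ((hσ.homOn.mono (e2.le.trans (h.UY.trans (h.YM.trans inf_le_right)))).mapsTo_sup
      (fun z hz => h.ZU (h.zB σ hσ z hz)) (fun z hz => zpowers_le.2 e1
        (map_zp hσ.homOn (h.YM (h.UY t5)).2 hz)) u (e2.ge hu))

end YD

theorem VZ.not_inv (h : VZ F₁ F₂ p A B) (hU : uO F₁ p A ≤ B) : ¬ F₂.AInv B (uO F₁ p A) := fun hi => by
  haveI := h.nU
  have hG := h.hA.pg
  obtain ⟨g, hg, hg'⟩ := h.exA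
  obtain ⟨y, hy, hy'⟩ := h.exB
  have UA : uO F₁ p A ≤ A := fun _ => h.hA.uO_mem
  have iM : F₂.AInv B (A ⊓ B) := by
    have := aInv_cMod (aInv_self F₂ B) hi (aInv_bot F₂ B) le_rfl hU
    rwa [inf_comm, show cMod (uO F₁ p A) ⊥ = A from le_antisymm (fun x hx => h.hA.mem_of_cent_uO h.vA
      fun u hu => comm_one_symm (mem_cMod.1 hx u hu)) fun x hx => mem_cMod.2 fun u hu =>
      comm_one_symm (h.hA.uO_comm hu hx)] at this
  obtain ⟨D, d1, d2, d3, d4, d5⟩ := h.hB.crit h.odd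
  have det : ∀ X, F₂.AInv B X → (∀ x ∈ D ⊓ (A ⊓ B), ⁅x, g⁆ ∈ X) →
      (∀ x ∈ D ⊓ X, ⁅x, g⁆ ∈ uO F₁ p A) → False := fun X h1 h2 h3 => hg' (h.hB.mem_of_det d5 d1 d2 iM h1 hi
    (h.hB.nI g) (fun x _ => h.cM x g) h2 h3 fun x hx => comm_one_symm (h.hA.uO_comm hx.2 hg))
  have iE := aInv_sup (aInv_inf d2 iM) hi (inf_le_left.trans d1) hU
  have EM : D ⊓ (A ⊓ B) ⊔ uO F₁ p A ≤ A ⊓ B := sup_le inf_le_right (le_inf UA hU)
  have DE := le_sup_left (a := D ⊓ (A ⊓ B)) (b := uO F₁ p A)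
  have UE := le_sup_right (a := D ⊓ (A ⊓ B)) (b := uO F₁ p A)
  have eE : ∀ x ∈ D ⊓ (A ⊓ B) ⊔ uO F₁ p A, x ^ p = 1 := fun x hx => by
    obtain ⟨d, hd, u, hu, rfl⟩ := (mem_sup_of_le_normalizer (normal_le_normalizer _ _)).1 hx
    rw [Commute.mul_pow (comm_one_iff.1 (h.hA.uO_comm hu hd.2.1)), d3 d hd.1, h.hA.uO_pow hu, one_mul]
  haveI := h.hB.inv_normal iE
  have UZ : uO F₁ p A ≤ zc (D ⊓ (A ⊓ B) ⊔ uO F₁ p A) := fun u hu =>
    mem_zc'.2 ⟨UE hu, fun y hy => h.hA.uO_comm hu (EM hy).1⟩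
  have nZ := fun X => (normal_le_normalizer (D ⊓ (A ⊓ B) ⊔ uO F₁ p A) X).trans
    (normalizer_le_normalizer_zc _)
  have cE : ∀ b ∈ B, ∀ x ∈ D ⊓ (A ⊓ B) ⊔ uO F₁ p A, ⁅x, b⁆ ∈ zc (D ⊓ (A ⊓ B) ⊔ uO F₁ p A) :=
    fun b hb => comm_mem_of_sup (nZ _) (nZ _) (fun d hd => mem_zc'.2
      ⟨DE ⟨(d4 d hd.1 b hb).1, h.cM _ _⟩, comm_mem_of_sup (D := ⊥) (normal_le_normalizer _ _)
        (normal_le_normalizer _ _) (fun x hx => (mem_zc'.1 (d4 d hd.1 b hb)).2 x hx.1)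
        fun u hu => comm_one_symm (h.hA.uO_comm hu (h.hA.comm_mem _ _))⟩)
      fun u hu => UZ (comm_mem_left _ hu b)
  generalize D ⊓ (A ⊓ B) ⊔ uO F₁ p A = E at *
  have n1 : ¬ ∀ x ∈ E, ⁅x, g⁆ ∈ uO F₁ p A := fun e =>
    det _ hi (fun x hx => e x (DE hx)) fun x hx => comm_mem_left _ hx.2 g
  have n2 : ¬ IsMulCommutative E := fun e => n1 fun x hx => comm_mem_of_card hG UE
    ((h.hr.elem ⟨e, eE⟩ le_top).trans (by nlinarith [h.hA.sq_le h.vA])) hx g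
  obtain ⟨eZ, c1, c2, t⟩ := h.hr.five hG UZ (h.hA.sq_le h.vA) eE (fun x hx y hy => cE y (EM hy).2 x hx) n2
  obtain ⟨c3, -⟩ := card_eq_of_lt hG (h.hA.lt_uO h.vA) h.hA.zO_ne c1.le
  have cUZ := fun x (hx : x ∈ uO F₁ p A) => comm_mem_of_card hG h.ZU (by rw [c1, c3, sq]) hx
  have k1 : ⁅E, E⁆ ≤ zO p G := (eq_of_le_of_card_ge (zO_le hG c3 fun e => n2 (isMulCommutative_of_comm
    fun x hx y hy => comm_one_iff.1 (e.le (commutator_mem_commutator hx hy))))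
    (t.card_commutator_le.trans c3.ge)).ge
  rw [eZ] at cE
  have UX : uO F₁ p A ≤ cfix E (uO F₁ p A) g := fun u hu => mem_cfix'.2 ⟨UE hu, comm_mem_left _ hu g⟩
  have l1 : cfix E (uO F₁ p A) g < E := (cfix_le _ _ _).lt_of_not_ge fun e => n1 fun x hx => (e hx).2.2
  have l2 : uO F₁ p A < cfix E (uO F₁ p A) g := UX.lt_of_not_ge fun e => by
    obtain ⟨x, x1, x2, -, x3⟩ := Fus.exists_central_mod hG le_top (normal_le_normalizer (uO F₁ p A) _)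
      (normal_le_normalizer E _) fun e => n1 fun x hx => comm_mem_left _ (e hx) g
    exact x2 (e (mem_cfix'.2 ⟨x1, comm_mem_of_conj (nle _ _) (x3 g trivial)⟩))
  have c4 := mul_card_le_of_lt hG l2 le_top
  have i1 : (cfix E (uO F₁ p A) g).relIndex E = p := relIndex_eq_of_le hG le_top
    (relIndex_le_of_card l1.le (by rw [c1] at c4; nlinarith)) l1.not_ge
  obtain ⟨x, hx, hx'⟩ := SetLike.exists_of_lt l1
  obtain ⟨a, W, t⟩ := h.hB.exists_gq ⟨le_top, EM.trans inf_le_right, UE, iE, hi, cE⟩ (h.hB.nI g) i1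
    (fun i => have := h.hB.inv_normal i; det _ i (fun x hx => comm_mem_of_relIndex hG i1.dvd (DE hx) g)
      fun x hx => hx.2.2.2) hx hx'
  generalize ⁅x, g⁆ = b at t
  obtain ⟨β, b1, b2, b3, b4, -⟩ := t.torus (-1) (-1) (by simp)
  have b5 := h.hB.oQ_triv iM (aInv_self F₂ B) le_rfl (fun s _ x _ => h.cM x s) b2 y hy
  have b6 := h.hB.oQ_triv h.zB hi hU (fun s _ x hx => cUZ x hx s) b2
  rw [h.hB.nI_eq] at b1
  have eW : uO F₁ p A = W := eq_of_le_of_card_ge t.le' (c1 ▸ card_le_of_lt hG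
    (t.le.lt_of_not_ge fun e => t.nmem (e t.memb)) (card_le_of_lt hG l1 c2))
  subst eW
  obtain ⟨φ, hφ, rfl⟩ := t.conj
  have a1 := iE φ hφ b t.memb.1
  have sE := sup_zpowers_eq l1.le i1 a1 fun e => t.ne e.2.2
  rw [← t.sup] at sE
  have e1 : y * β y = y ^ 2 * (y⁻¹ * β y) := by rw [sq]; group
  have y1 : y * β y ∉ A := fun e => hy' (mem_of_sq_mem hG h.odd trivial
    ((Subgroup.mul_mem_cancel_right _ b5.1).1 (e1 ▸ e)))
  have key : ∀ d ∈ E, (d ^ (-1 : ℤ))⁻¹ * β d ∈ uO F₁ p A → ⁅d, y * β y⁆ ∈ zO p G := fun d hd e => by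
    have q1 := fun g => comm_mem_iff_mk.1 (cUZ _ e g)
    have q2 := fun g => comm_mem_iff_mk.1 (cUZ _ (cE y hy d hd) g)
    have q3 := QuotientGroup.eq.2 (b6 _ (cE y hy d hd))
    rw [b1.homOn.map_commutator trivial trivial] at q3
    rw [comm_mem_iff_mk]
    simp only [commutatorElement_def, zpow_neg, zpow_one, inv_inv, QuotientGroup.mk_mul,
      QuotientGroup.mk_inv] at q1 q2 q3 ⊢
    calc _ = (d * y * (d : G ⧸ zO p G)⁻¹ * (y : G ⧸ zO p G)⁻¹) * (y * d : G) * β y := by simp [mul_assoc]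
      _ = y * (d * β d * β y) * ((β d : G ⧸ zO p G)⁻¹ * (β y : G ⧸ zO p G)⁻¹ * β y) := by
        rw [q2, q3]; simp [mul_assoc]
      _ = _ := by rw [q1]; group
  have k2 := commutator_sup_zpowers_le (normal_le_normalizer (zO p G) E) (nle _ (y * β y))
    (fun a ha b hb => k1 (commutator_mem_commutator ha hb)) fun x hx => comm_mem_symm (comm_sup_zp
      (comm_sup_zp (fun u hu => cUZ u hu _) (key b t.memb.1 b3)) (key _ a1 b4) x (sE.ge hx))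
  have yH := mem_sup_right (S := E) (mem_zpowers (y * β y))
  have EH := le_sup_left (a := E) (b := zpowers (y * β y))
  generalize E ⊔ zpowers (y * β y) = H at k2 yH EH
  have cl : Cl2 p H := fun a ha b hb => have := k2 (commutator_mem_commutator ha hb)
    ⟨(mem_zO.1 this).2, fun z _ => comm_one_iff.1 ((mem_zO.1 this).1 z)⟩
  have mono : ∀ {X Y : Subgroup G}, X ≤ Y → H ⊓ cMod Y ⊥ ≤ H ⊓ cMod X ⊥ := fun e =>
    inf_le_inf_left _ (cMod_mono e le_rfl)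
  have bU : ¬ ∀ x ∈ E, ⁅x, b⁆ = 1 := fun e => t.nmem (eZ.le (mem_zc'.2 ⟨t.memb.1, e⟩))
  obtain ⟨u, hu, hu'⟩ := SetLike.exists_of_lt (h.hA.lt_uO h.vA)
  exact h.hr.chain hG (A := H ⊓ cMod H ⊥) (B := H ⊓ cMod E ⊥)
    (C := H ⊓ cMod (uO F₁ p A ⊔ zpowers b) ⊥) (D := H ⊓ cMod (uO F₁ p A) ⊥)
    ((mono EH).lt_of_not_ge fun e => hu' (h.hA.uO_zO hu y1 (mem_cMod.1 (e ⟨EH (UE hu),
      mem_cMod.2 fun x hx => h.hA.uO_comm hu (EM hx).1⟩).2 _ yH)))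
    ((mono (sup_le UE (zpowers_le.2 t.memb.1))).lt_of_not_ge fun e => bU (mem_cMod.1 (e ⟨EH t.memb.1,
      mem_cMod.2 (comm_one_of_sup (fun u hu => comm_one_symm (h.hA.uO_comm hu (EM t.memb.1).1))
        (commutatorElement_self b))⟩).2))
    ((mono le_sup_left).lt_of_not_ge fun e => bU fun x hx => comm_one_symm (mem_cMod.1 (e ⟨EH hx,
      mem_cMod.2 fun u hu => comm_one_symm (h.hA.uO_comm hu (EM hx).1)⟩).2 b
        (mem_sup_right (mem_zpowers b))))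
    (inf_lt_left.2 fun e => y1 (h.hA.mem_of_cent_uO h.vA fun u hu =>
      comm_one_symm (mem_cMod.1 (e yH) u hu))) le_top
    (fun a ha b hb => ⟨commutator_le_self H (commutator_mem_commutator ha hb), mem_cMod.2 fun x _ =>
      (mem_zO.1 (k2 (commutator_mem_commutator ha hb))).1 x⟩)
    fun a ha => ⟨H.pow_mem ha p, mem_cMod.2 fun x hx => comm_one_symm (cl.pow_comm ha hx)⟩

theorem VZ.main (h : VZ F₁ F₂ p A B) : SP F₁ p A B := by
  by_cases hU : uO F₁ p A ≤ B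
  · exact ((h.yd hU (h.not_inv hU)).false).elim
  obtain ⟨a, ha, ha'⟩ := SetLike.not_le_iff_exists.1 hU
  exact h.sp ha ha'

end Cfsg.Agent.H1
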