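import Cfsg.Agent.H1.Sp4
import Cfsg.Agent.H9.Core

/-!
# Fusion systems of sectional rank three with normal essential subgroups
-/

set_option autoImplicit false
set_option linter.unusedSectionVars false

namespace Cfsg.Agent.H1

open Equiv Cfsg.Fus Cfsg.FusionSystem Subgroup
open scoped commutatorElement

variable {p : ℕ} [hp : Fact p.Prime]

section Top

variable {G : Type*} [Group G] [Finite G] {F : FusionSystem (⊤ : Subgroup G)} {A B E : Subgroup G}

theorem ne_of_essential (hG : IsPGroup p (⊤ : Subgroup G)) (hF : F.IsSaturated p)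
    (hr : SR3 p (⊤ : Subgroup G)) (hE : F.IsEssential p E) (hn : ⊤ ≤ normalizer (E : Set G)) :
    NE F p E := ⟨lEs_of_essential hG hF hr hE, normalizer_eq_top_iff.1 (top_unique hn)⟩

theorem card_of_central (hF : F.IsSaturated p) (hp2 : p ≠ 2) (hO : F.core = ⊥) (hA : NE F p A)
    (hB : NE F p B) (hne : A ≠ B) (h : ∀ x ∈ A ⊓ B, ∀ g : G, ⁅g, x⁆ = 1) :
    Nat.card (⊤ : Subgroup G) = p ^ 3 ∧ ¬ IsMulCommutative (⊤ : Subgroup G) := by
  obtain ⟨a, ha, ha'⟩ := hA.exists_mem hB.idx' hne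
  have t : Cls2 p (⊤ : Subgroup G) := by
    refine ⟨hA.pg, (relIndex_le_of_le_left (fun x hx => mem_zc'.2 ⟨mem_top x, fun y _ => h x hx y⟩)
      (relIndex_ne_zero_of_finite le_rfl)).trans_eq ?_, fun e => ha' (hB.mem_of_cent fun y _ =>
        comm_one_iff.2 (comm_of_isMulCommutative e y trivial a trivial))⟩
    rw [← relIndex_mul_relIndex _ A _ inf_le_left le_top, hB.relIndex_inf ha ha', hA.idx', sq]
  exact ⟨(t.final hF hO (t.zc_le_of_odd hp2 hF hO)).2.1, t.nonab⟩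

theorem exists_sp (hG : IsPGroup p (⊤ : Subgroup G)) (hF : F.IsSaturated p) (hp2 : p ≠ 2)
    (hr : SR3 p (⊤ : Subgroup G)) (hO : F.core = ⊥) (hne : (⊤ : Subgroup G) ≠ ⊥)
    (hn : ∀ E, F.IsEssential p E → ⊤ ≤ normalizer (E : Set G)) :
    (Nat.card (⊤ : Subgroup G) = p ^ 3 ∧ ¬ IsMulCommutative (⊤ : Subgroup G)) ∨
      ∃ A B, F.IsEssential p B ∧ VZ F F p A B := by
  have k := fun E hE => ne_of_essential hG hF hr hE (hn E hE)
  obtain ⟨A, hA, vA⟩ : ∃ A, F.IsEssential p A ∧ ¬ F.AInv A (zO p G) := by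
    by_contra! e
    obtain ⟨z, -, h1, h2⟩ := exists_zO hG hne
    refine h1 (hO.le ((hF.isNormal_of_essential hG ?_).le_core h2))
    rintro R (rfl | hR)
    · exact ⟨le_top, fun τ hτ x => map_mem_zO (toAut hτ)⟩
    · exact ⟨(k R hR).zO_le, e R hR⟩
  obtain ⟨B, hB, ne⟩ : ∃ B, F.IsEssential p B ∧ A ≠ B := by
    by_contra! e
    refine (k A hA).ne_bot (le_bot_iff.1 (hO ▸ (hF.isNormal_of_essential hG ?_).le_core))
    rintro R (rfl | hR)
    · exact ⟨le_top, fun τ hτ x hx => e _ (hτ.transp_self.isEssential hA) ▸ mem_img_of_mem τ hx⟩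
    · exact e R hR ▸ ⟨le_rfl, aInv_self F A⟩
  by_cases zB : F.AInv B (zO p G)
  · exact Or.inr ⟨A, B, hB, hr, hp2, k A hA, k B hB, ne, vA, zB⟩
  · exact Or.inl (card_of_central hF hp2 hO (k A hA) (k B hB) ne
      fun x hx => vv hr (k A hA) (k B hB) ne vA zB hx)

end Top

variable {Ω : Type*} [Group Ω] {S : Subgroup Ω} [Finite S] {F : FusionSystem S}

theorem SR3.top (h : SR3 p S) : SR3 p (⊤ : Subgroup S) := fun A B hAB _ h1 h2 => by
  rw [← card_map_of_injective (K := A) S.subtype_injective,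
    ← card_map_of_injective (K := B) S.subtype_injective]
  refine h _ _ (map_mono hAB) (map_subtype_le _) ?_ ?_
  · rintro _ ⟨x, hx, rfl⟩ _ ⟨y, hy, rfl⟩
    exact ⟨_, h1 x hx y hy, rfl⟩
  · rintro _ ⟨x, hx, rfl⟩
    exact ⟨_, h2 x hx, rfl⟩

theorem img_val (P : Subgroup S) : img (fun x : S => (x : Ω)) P = P.map S.subtype :=
  closure_eq (P.map S.subtype)

theorem exists_transp_top (F : FusionSystem S) : ∃ (θ : Ω → S) (F' : FusionSystem (⊤ : Subgroup S)),
    L.Transp ⊤ S (fun x : S => (x : Ω)) θ F' F :=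
  let ⟨F', t⟩ := (L.pIso_subtype S).symm.exists_transp le_rfl F (L.pIso_subtype S).symm.img_self
  ⟨_, F', t.symm⟩

theorem top_ne_bot (h : ¬ SectionalPRankLE p 2 S) : (⊤ : Subgroup S) ≠ ⊥ := fun e => h fun H N _ A _ _ =>
  (A.card_le_card_group.trans ((Nat.card_le_card_of_surjective _ QuotientGroup.mk_surjective).trans
    (card_le_of_le (le_top.trans e.le)))).trans (by simpa using Nat.one_le_pow _ _ hp.out.pos)

theorem not_card_cube (h : ¬ SectionalPRankLE p 2 S) :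
    ¬ (Nat.card (⊤ : Subgroup S) = p ^ 3 ∧ ¬ IsMulCommutative (⊤ : Subgroup S)) := fun e =>
  h (sr2_of_card (card_top.symm.trans e.1) fun _ => e.2 inferInstance)

theorem normalizer_top_of {E : Subgroup S} (h : S ≤ normalizer (E.map S.subtype : Set Ω)) :
    ⊤ ≤ normalizer (E : Set S) := fun g _ => mem_normalizer_of_finite fun _ hx =>
  (mem_map_iff_mem S.subtype_injective).1 (conj_mem_of_mem_normalizer (h g.2) ⟨_, hx, rfl⟩)

end Cfsg.Agent.H1
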