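import Cfsg.Agent.H1.R6

/-!
# Passing to factor systems
-/

set_option autoImplicit false
set_option linter.unusedSectionVars false

namespace Cfsg.Agent.H1

open Equiv Cfsg.Fus Cfsg.FusionSystem Subgroup
open scoped commutatorElement

variable {p : ℕ} [hp : Fact p.Prime]

theorem char_comap {H K : Type*} [Group H] [Group K] (θ : H →* K) (hs : Function.Surjective θ)
    (h1 : θ.ker.Characteristic) {T : Subgroup K} (h2 : T.Characteristic) : (T.comap θ).Characteristic :=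
  characteristic_iff_le_comap.2 fun α x hx => by
    exact char_mem T ((QuotientGroup.quotientKerEquivOfSurjective θ hs).symm.trans
      ((QuotientGroup.congr _ _ α (characteristic_iff_map_eq.1 h1 α)).trans
        (QuotientGroup.quotientKerEquivOfSurjective θ hs))) _
      (show QuotientGroup.quotientKerEquivOfSurjective θ hs (x : H ⧸ θ.ker) ∈ T from hx) |> fun e => by
        rw [MulEquiv.trans_apply, MulEquiv.symm_apply_apply] at e
        exact e

theorem SR3.of_surj {H K : Type*} [Group H] [Group K] [Finite H] [Finite K] (h : SR3 p (⊤ : Subgroup H))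
    (θ : H →* K) (hs : Function.Surjective θ) : SR3 p (⊤ : Subgroup K) := fun A B hAB _ h1 h2 => by
  have := h (A.comap θ) (B.comap θ) (comap_mono hAB) le_top (fun x hx y hy => by
    rw [mem_comap, map_commutatorElement]; exact h1 _ hx _ hy) fun x hx => by
    rw [mem_comap, map_pow]; exact h2 _ hx
  rw [card_comap_of_surjective hs, card_comap_of_surjective hs, ← mul_assoc] at this
  exact Nat.le_of_mul_le_mul_right this Nat.card_pos

variable {Ω : Type*} [Group Ω] {S E X Z : Subgroup Ω} [Finite S] {F : FusionSystem S}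
  {K : Type*} [Group K] [Finite K] {θ : S →* K} {F' : FusionSystem (⊤ : Subgroup K)} {T : Subgroup K}
  {σ : Perm Ω} {σ' : Perm K} {x : Ω}

theorem sc_of_aInv (h : F.IsNormal E) (hZ : Z ≤ E) (hi : F.AInv E Z) : F.StronglyClosed Z :=
  (h.of_invariant9 hZ fun f hf e => (hf.mono hZ).img_eq_self fun x hx => by
    obtain ⟨σ, h1, h2⟩ := hf.exists_perm
    exact h2 x (hZ hx) ▸ hi σ (h1.iso_self fun y hy => (h2 y hy).symm ▸ e.le (mem_img_of_mem f hy))
      x hx).stronglyClosed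

/-- The factor system modulo an invariant subgroup on which `O^{p'}` is unipotent. -/
structure FT (F : FusionSystem S) (p : ℕ) (E Z : Subgroup Ω) (θ : S →* K)
    (F' : FusionSystem (⊤ : Subgroup K)) : Prop where
  fac : F.IsFactorSystem Z θ F'
  nrm : F.IsNormal E
  les : LEs F p E
  ut : UT F p E Z

namespace FT

variable (h : FT F p E Z θ F')
include h

theorem wc : F.WeaklyClosed Z := (sc_of_aInv h.nrm h.ut.le h.ut.inv).weaklyClosed

theorem pre : preimageAlong θ (img (extFun θ) E) = E := h.fac.pre_img_of_le h.les.le h.ut.le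

theorem ind (hσ : F.Iso E E σ) : ∃ σ', F'.Iso (img (extFun θ) E) (img (extFun θ) E) σ' ∧
    ∀ x ∈ E, σ' (extFun θ x) = extFun θ (σ x) :=
  let ⟨σ', h1, h2⟩ := h.fac.exists_ind_of_le h.wc hσ.isMap h.ut.le
  ⟨σ', iso_of_ind hσ h1 h2, h2⟩

theorem lift (hσ : F'.Iso (img (extFun θ) E) (img (extFun θ) E) σ') :
    ∃ σ, F.Iso E E σ ∧ ∀ x ∈ E, σ' (extFun θ x) = extFun θ (σ x) := by
  simpa only [h.pre] using h.fac.exists_lift_iso h.wc hσ

theorem oQ_le : H8.oQ F p E ≤ indSub (extFun θ) E (H8.oQ F' p (img (extFun θ) E)) :=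
  H8.oQ_le_iff.2 fun σ ⟨hσ, k, hk⟩ => by
    obtain ⟨σ', h1, h2⟩ := h.ind hσ
    refine ⟨hσ.mem_setStab, σ', H8.QEl.mem_oQ ⟨h1, k, fun y hy => ?_⟩, h2⟩
    obtain ⟨x, hx, rfl⟩ := (mem_img_extFun h.les.le).1 hy
    rw [ind_pow hσ.mem_setStab h2 _ x hx, hk x hx]

theorem aInv_img (hX : F.AInv E X) (hXE : X ≤ E) : F'.AInv (img (extFun θ) E) (img (extFun θ) X) :=
  fun σ' hσ y hy => by
    obtain ⟨σ, h1, h2⟩ := h.lift hσ
    obtain ⟨x, hx, rfl⟩ := (mem_img_extFun (hXE.trans h.les.le)).1 hy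
    exact h2 x (hXE hx) ▸ mem_img_of_mem _ (hX σ h1 x hx)

theorem pow_fix (hσ : σ ∈ H8.oQ F p E) (hX : F.AInv E X) (hXE : X ≤ E)
    (h1 : ∀ x ∈ E, σ' (extFun θ x) = extFun θ (σ x)) {k : ℕ}
    (h2 : ∀ x ∈ X, (σ' ^ p ^ k) (extFun θ x) = extFun θ x) : ∃ l, σ ^ p ^ l ∈ fixP X := by
  have hS := h.les.le
  have i := H8.iso_of_mem_oQ hS hσ
  have i' := i.pow (p ^ k)
  haveI := finite_of_le (hXE.trans hS)
  obtain ⟨m, hm⟩ := h.ut.uni _ (Subgroup.pow_mem _ hσ (p ^ k))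
  obtain ⟨l, hl⟩ := exists_pow_mem_fixP_of_trivOn (isPGroup_of_le h.les.pg (hXE.trans hS)) (A := Z)
    ⟨⟨i'.homOn.mono hXE, hX.mem_setStab i'⟩, fun x hx => (h.fac.eq_iff (hS (hXE hx))
      (hS (i'.mem (hXE hx)))).1 (by rw [← ind_pow i.mem_setStab h1 _ x (hXE hx), h2 x hx])⟩
    (fixP_anti inf_le_left hm)
  exact ⟨k + l, by rwa [pow_add, pow_mul]⟩

theorem ut_pre (hT : UT F' p (img (extFun θ) E) T) : UT F p E (preimageAlong θ T) := by
  have l := (preimageAlong_mono θ hT.le).trans_eq h.pre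
  have i : F.AInv E (preimageAlong θ T) := fun σ hσ x hx => by
    obtain ⟨σ', h1, h2⟩ := h.ind hσ
    exact mem_preimageAlong.2 ⟨h.les.le (hσ.mem (l hx)),
      h2 x (l hx) ▸ hT.inv σ' h1 _ (mem_preimageAlong.1 hx).2⟩
  refine ⟨l, i, fun σ hσ => ?_⟩
  obtain ⟨-, σ', h1, h2⟩ := h.oQ_le hσ
  obtain ⟨k, hk⟩ := hT.uni σ' h1
  exact h.pow_fix hσ i l h2 fun x hx => hk _ (mem_preimageAlong.1 hx).2

theorem nrm' : F'.IsNormal (img (extFun θ) E) := h.fac.isNormal_img h.wc h.nrm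

theorem ne : NE F' p (img (extFun θ) E) := by
  have hS := h.les.le
  have n := h.nrm.le_normalizer
  have n' := h.nrm'.le_normalizer
  refine ⟨⟨h.fac.isPGroup h.les.pg, h.fac.isSaturated h.wc h.les.sat h.les.pg,
    F'.isFullyNormalized_of_le_normalizer le_top n', fun g' _ hg' => ?_, ?_⟩,
    normalizer_eq_top_iff.1 (top_unique n')⟩
  · obtain ⟨g, hg, rfl⟩ := h.fac.exists_eq le_rfl (mem_top g')
    have gS := preimageAlong_le _ _ hg
    refine mem_img_of_mem _ (h.les.rad g gS (le_opStab hS (U := H8.oQ F p E ⊓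
      indSub (extFun θ) E (F'.opStab p (img (extFun θ) E))) (inf_le_left.trans (H8.oQ_le_stab F p E))
      (fun σ ⟨h1, _, σ', h2, h3⟩ => ?_) (fun τ hτ σ ⟨h1, h0, σ', h2, h3⟩ => ?_)
      ⟨cj_mem_oQ h.les.pg hS gS (n gS), (F.iso_cj hS gS (n gS)).mem_setStab, _, hg',
        fun x hx => ind_cj (hS hx) gS⟩))
    · obtain ⟨k, hk⟩ := F'.isPMod_opStab p _ σ' h2
      exact h.pow_fix h1 (aInv_self F E) le_rfl h3 fun x hx => hk _ (mem_img_of_mem _ hx)
    · obtain ⟨τ', t1, t2⟩ := h.ind hτ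
      refine ⟨H8.conj_mem_oQ hτ h1, (hτ.conj (H8.iso_of_mem_oQ hS h1)).mem_setStab, _,
        t1.conj_mem_opStab h2, fun x hx => ?_⟩
      obtain ⟨y, hy, rfl⟩ := hτ.exists_eq hx
      rw [← t2 y hy]
      simp only [Perm.mul_apply, Perm.coe_inv, symm_apply_apply]
      rw [h3 y hy, t2 _ ((h0 y).2 hy)]
  · have e := h.les.idx
    rw [show normalizerIn S E = S from inf_eq_left.2 n] at e
    rw [show normalizerIn ⊤ (img (extFun θ) E) = ⊤ from inf_eq_left.2 n', relIndex_top_right,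
      ← index_comap_of_surjective _ (MonoidHom.range_eq_top.1 h.fac.range_eq), ← e, ← h.pre, h.fac.img_pre le_top]
    exact congrArg index (comap_map_eq_self_of_injective S.subtype_injective _).symm

end FT

theorem FT.ne_img {F₂ : FusionSystem S} {F₂' : FusionSystem (⊤ : Subgroup K)} {E₂ : Subgroup Ω}
    (h : FT F p E Z θ F') (h₂ : FT F₂ p E₂ Z θ F₂') (hne : E ≠ E₂) :
    img (extFun θ) E ≠ img (extFun θ) E₂ := fun e => hne (by rw [← h.pre, e, h₂.pre])

theorem FT.pull {F₂ : FusionSystem S} {F₂' : FusionSystem (⊤ : Subgroup K)} {E₂ : Subgroup Ω}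
    (h : FT F p E Z θ F') (h₂ : FT F₂ p E₂ Z θ F₂') (hc : θ.ker.Characteristic)
    (hT : ∃ T : Subgroup K, T.Characteristic ∧ UT F' p (img (extFun θ) E) T ∧
      UT F₂' p (img (extFun θ) E₂) T ∧ ∀ x ∈ img (extFun θ) E ⊓ img (extFun θ) E₂, ∀ g, ⁅x, g⁆ ∈ T) :
    ∃ T : Subgroup Ω, (T.subgroupOf S).Characteristic ∧ UT F p E T ∧ UT F₂ p E₂ T ∧
      ∀ x ∈ E ⊓ E₂, ∀ g ∈ S, ⁅x, g⁆ ∈ T := by
  obtain ⟨T, t1, t2, t3, t4⟩ := hT
  refine ⟨_, ?_, h.ut_pre t2, h₂.ut_pre t3, fun x hx g hg => mem_preimageAlong.2 ⟨commutator_le_self S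
    (commutator_mem_commutator (h.les.le hx.1) hg), ?_⟩⟩
  · rw [show (preimageAlong θ T).subgroupOf S = T.comap θ from
      comap_map_eq_self_of_injective S.subtype_injective _]
    exact char_comap θ (MonoidHom.range_eq_top.1 h.fac.range_eq) hc t1
  · rw [(homOn_extFun θ).map_commutator (h.les.le hx.1) hg]
    exact t4 _ ⟨mem_img_of_mem _ hx.1, mem_img_of_mem _ hx.2⟩ _

end Cfsg.Agent.H1
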