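import Cfsg.Agent.H1.R7
import Cfsg.Agent.H1.PStab

/-!
# The structure of a pair of subgroups of index `p` with large automisers
-/

set_option autoImplicit false
set_option linter.unusedSectionVars false

namespace Cfsg.Agent.H1

open Equiv Cfsg.Fus Cfsg.FusionSystem Subgroup
open scoped commutatorElement

universe u

variable {p : ℕ} [hp : Fact p.Prime]

section Top

variable {G : Type*} [Group G] [Finite G] {F F₁ F₂ : FusionSystem (⊤ : Subgroup G)} {A B : Subgroup G}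

theorem NE.basis (h : NE F p A) (t : SP F p A B) : ∃ y : G, ∃ a ∈ A, ⁅y, ⁅y, a⁆⁆ ≠ 1 ∧
    ⁅y, ⁅y, a⁆⁆ ∈ zO p G ∧ A ≤ zpowers ⁅y, ⁅y, a⁆⁆ ⊔ zpowers ⁅y, a⁆ ⊔ zpowers a := by
  haveI := h.normal
  have hG := h.pg
  obtain ⟨y, hy⟩ := h.exists_not_mem
  have el := elem_mono h.uO_elem t.le
  have fx : ∀ x ∈ A, ⁅y, x⁆ = 1 → x ∈ zO p G := fun x hx => h.uO_zO (t.le hx) hy
  have ZX : zO p G ≤ cfix A (zO p G) y := fun z hz => mem_cfix'.2 ⟨h.zO_le hz, comm_mem_left _ hz y⟩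
  have cX : ∀ x ∈ cfix A (zO p G) y, ∀ g, ⁅g, x⁆ ∈ zO p G := fun x hx => h.comm_all
    (fun e he => elem_comm el he hx.1 ▸ one_mem _) hy (comm_mem_symm hx.2.2)
  haveI : (cfix A (zO p G) y).Normal := normal_of_comm_mem fun x hx g => ZX (comm_mem_symm (cX x hx g))
  have i1 := relIndex_commMod_le (S := cfix A (zO p G) y) (normal_le_normalizer ⊥ _) (nle _ y)
    fun m hm => hm.2.2
  rw [relIndex_bot_left, t.cardZ] at i1
  have c1 := (card_le_of_relIndex i1).trans (Nat.mul_le_mul_left p (card_le_of_le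
    fun x hx => fx x hx.1.1 (comm_one_symm hx.2.2)))
  have c0 : p * p < p ^ 3 := by nlinarith [hp.out.two_le, mul_pos hp.out.pos hp.out.pos]
  have c2 := mul_card_le_of_lt hG (ZX.lt_of_not_ge fun e => by
    obtain ⟨x, x1, x2, -, x3⟩ := Fus.exists_central_mod hG le_top (normal_le_normalizer (zO p G) _)
      (normal_le_normalizer A _) fun e => by
        have := card_le_of_le e
        rw [t.card, t.cardZ] at this
        nlinarith [hp.out.two_le]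
    exact x2 (e (mem_cfix'.2 ⟨x1, comm_mem_of_conj (nle _ _) (x3 y trivial)⟩))) le_top
  have c3 : Nat.card A ≤ p * Nat.card (cfix A (zO p G) y) := by rw [t.card]; rw [t.cardZ] at c2; nlinarith
  obtain ⟨a, ha, ha'⟩ : ∃ a ∈ A, a ∉ cfix A (zO p G) y := SetLike.not_le_iff_exists.1 fun e => by
    have := (card_le_of_le e).trans c1
    rw [t.card, t.cardZ] at this
    omega
  have b1 := comm_mem_symm (comm_mem_of_card hG (cfix_le _ _ _) c3 ha y)
  have b2 : ⁅y, a⁆ ∉ zO p G := fun e => ha' (mem_cfix'.2 ⟨ha, comm_mem_symm e⟩)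
  have z2 : ⁅y, ⁅y, a⁆⁆ ≠ 1 := fun e => b2 (fx _ b1.1 e)
  refine ⟨y, a, ha, z2, cX _ b1 y, ?_⟩
  rw [eq_of_card_prime (zpowers_le.2 (cX _ b1 y)) t.cardZ (zpowers_ne_bot.2 z2),
    eq_sup_of_card hG ZX le_top c1 b1 b2, eq_sup_of_card hG (cfix_le _ _ _) le_top c3 ha ha']

theorem NE.not_irr (h : NE F p A) (hr : SR3 p (⊤ : Subgroup G)) (hp2 : p ≠ 2) (hZ : F.AInv A (zO p G))
    (irr : ∀ X, F.AInv A X → zO p G ≤ X → X ≤ A → ¬ X ≤ zO p G → A ≤ X)
    (h1 : ∀ x ∈ A, ∀ y ∈ A, ⁅x, y⁆ ∈ zO p G) (h2 : ∀ x ∈ A, x ^ p ∈ zO p G)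
    (hc : p ^ 3 * Nat.card (zO p G) ≤ Nat.card A) {y a : G} (ha : a ∈ A) (h3 : ⁅y, ⁅y, a⁆⁆ ∉ zO p G)
    (h4 : ∀ g, ⁅⁅y, ⁅y, a⁆⁆, g⁆ ∈ zO p G)
    (h5 : A ≤ zO p G ⊔ zpowers ⁅y, ⁅y, a⁆⁆ ⊔ zpowers ⁅y, a⁆ ⊔ zpowers a) : False := by
  haveI := h.normal
  have b1 := h.comm_mem y a
  have c1 := h.comm_mem y ⁅y, a⁆
  have cz : ∀ x ∈ A, ∀ y ∈ A, ∀ g, g * ⁅x, y⁆ = ⁅x, y⁆ * g := fun x hx y hy g =>
    comm_one_iff.1 ((mem_zO.1 (h1 x hx y hy)).1 g)
  have k1 := comm_comm_mem (H := ⊤) (N := ⊥) (fun w hw g _ => comm_mem_of_zpowers (nle _ _) (h4 g) w hw)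
    (fun z hz g _ => zO_comm hz g) (mem_zpowers _) (mem_top y) (mem_top a)
  have e1 : y * a * y⁻¹ = ⁅y, a⁆ * a := by simp [commutatorElement_def]
  have e2 : y * ⁅y, a⁆ * y⁻¹ = ⁅y, ⁅y, a⁆⁆ * ⁅y, a⁆ := by
    rw [commutatorElement_def y ⁅y, a⁆, inv_mul_cancel_right]
  have e4 : ⁅y, ⁅y, a⁆⁆ ^ p = ⁅y, ⁅y, a⁆ ^ p⁆ → ⁅y, ⁅y, a⁆⁆ ^ p = 1 := fun e =>
    e.trans ((mem_zO.1 (h2 _ b1)).1 y)
  have e5 := fun cl : Cl2 p A => e4 (cl.comm_pow hp2 (nle A y) b1)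
  generalize ⁅y, ⁅y, a⁆⁆ = c at *
  generalize ⁅y, a⁆ = b at *
  have k2 : ⁅a, c⁆ = 1 := by
    have e3 : y * ⁅a, b⁆ * y⁻¹ = ⁅y * a * y⁻¹, y * b * y⁻¹⁆ := by simp [commutatorElement_def, mul_assoc]
    have e6 : ⁅b * a, c * b⁆ = b * ⁅a, c * b⁆ * b⁻¹ * (b * c * b⁻¹ * c⁻¹) := by
      simp only [commutatorElement_def, mul_assoc, mul_inv_rev, inv_mul_cancel_left, mul_inv_cancel_left]
    have e7 : ⁅a, c * b⁆ = ⁅a, c⁆ * (c * ⁅a, b⁆ * c⁻¹) := by simp [commutatorElement_def, mul_assoc]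
    rw [e1, e2, e6, cz a ha _ (A.mul_mem c1 b1), e7, cz a ha b b1, cz a ha b b1, ← comm_one_iff.1 k1] at e3
    simpa using e3
  have ZA : zO p G ≤ zc A := fun z hz => mem_zc'.2 ⟨h.zO_le hz, fun y _ => (mem_zO.1 hz).1 y⟩
  have k3 := irr _ (aInv_zc F A) ZA inf_le_left fun e => h3 (e (mem_zc'.2 ⟨c1, fun x hx =>
    comm_one_of_sup (comm_one_of_sup (comm_one_of_sup (fun z hz => zO_comm hz c)
      (commutatorElement_self c)) (comm_one_symm k1)) k2 x (h5 hx)⟩))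
  have k4 : ∀ x ∈ A, ∀ y ∈ A, ⁅x, y⁆ = 1 := fun x hx y hy => (mem_zc'.1 (k3 hy)).2 x hx
  have k5 := irr _ (aInv_om (aInv_self F A) (aInv_bot F A) le_rfl (pcl_of_comm (normal_le_normalizer _ _) k4))
    (fun z hz => ⟨h.zO_le hz, (mem_zO.1 hz).2⟩) (fun _ hx => hx.1) fun e => h3 (e ⟨c1, e5 fun x hx y hy =>
      by simp [k4 x hx y hy]⟩)
  have := hc.trans (hr.elem (elem_of k4 fun x hx => (k5 hx).2) le_top)
  nlinarith [le_card' h.pg le_top h.zO_ne, hp.out.two_le, pow_pos hp.out.pos 3]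

theorem img_comp_top {K : Type*} [Group K] (f : G →* K) (A : Subgroup G) :
    img (extFun (f.comp (⊤ : Subgroup G).subtype)) A = A.map f := by
  rw [img_congr (g := f) fun x _ => extFun_of_mem _ (mem_top x)]
  exact closure_eq (A.map f)

theorem FT.not_sp {F' : FusionSystem (⊤ : Subgroup (G ⧸ zO p G))} {B' : Subgroup (G ⧸ zO p G)}
    (t : FT F p A (zO p G) ((QuotientGroup.mk' _).comp (⊤ : Subgroup G).subtype) F') (h : NE F p A)
    (hr : SR3 p (⊤ : Subgroup G)) (hp2 : p ≠ 2) :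
    ¬ SP F' p (img (extFun ((QuotientGroup.mk' _).comp (⊤ : Subgroup G).subtype)) A) B' := fun s => by
  obtain ⟨y, a, ha, h1, h2, h3⟩ := t.ne.basis s
  have el := elem_mono t.ne.uO_elem s.le
  have c := s.card
  have irr := fun X hX hXA hn => s.le.trans (t.ne.uO_le_of s.cardZ (t.aInv_img (X := X) hX hXA) hn)
  simp only [img_comp_top] at ha h3 el c irr
  obtain ⟨y, rfl⟩ := QuotientGroup.mk'_surjective _ y
  obtain ⟨a, ha, rfl⟩ := ha
  simp only [← map_commutatorElement] at h1 h2 h3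
  have pre : ∀ {X Y : Subgroup G}, X.map (QuotientGroup.mk' (zO p G)) ≤ Y.map (QuotientGroup.mk' _) →
      X ≤ zO p G ⊔ Y := fun e => by
    rwa [map_le_map_iff', QuotientGroup.ker_mk', sup_le_iff, sup_comm _ (zO p G), and_iff_left le_sup_left] at e
  refine h.not_irr hr hp2 t.ut.inv (fun X hX hZ hXA hn => (pre (irr X hX hXA fun e => hn ?_)).trans
    (sup_le hZ le_rfl)) (fun x hx y hy => comm_mem_iff_mk.2 (comm_one_iff.1
      (elem_comm el ⟨x, hx, rfl⟩ ⟨y, hy, rfl⟩))) (fun x hx => (QuotientGroup.eq_one_iff _).1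
      (el.2 _ ⟨x, hx, rfl⟩)) ?_ ha (fun e => h1 (mk_eq_one_of_mem e))
    (fun g => comm_mem_iff_mk.2 (comm_one_iff.1 (zO_comm h2 g))) ?_
  · simpa using (Subgroup.map_eq_bot_iff _).1 e
  · rw [← card_map_mk'_mul (zO p G) A, c, inf_eq_left.2 h.zO_le]
  · rw [sup_assoc, sup_assoc, ← sup_assoc (zpowers _)]
    exact pre (by simpa only [Subgroup.map_sup, MonoidHom.map_zpowers] using h3)

end Top

theorem pair_main (hp2 : p ≠ 2) (n : ℕ) : ∀ (G : Type u) [Group G] [Finite G], Nat.card G = n →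
    ∀ (F₁ F₂ : FusionSystem (⊤ : Subgroup G)) (A B : Subgroup G), SR3 p (⊤ : Subgroup G) →
    NE F₁ p A → NE F₂ p B → F₁.IsNormal A → F₂.IsNormal B → A ≠ B →
    (∃ T : Subgroup G, T.Characteristic ∧ UT F₁ p A T ∧ UT F₂ p B T ∧ ∀ x ∈ A ⊓ B, ∀ g, ⁅x, g⁆ ∈ T) ∨
      SP F₁ p A B ∨ SP F₂ p B A := by
  induction n using Nat.strong_induction_on with
  | _ n ih =>
  intro G _ _ hn F₁ F₂ A B hr hA hB nA nB hne
  by_cases zA : F₁.AInv A (zO p G) <;> by_cases zB : F₂.AInv B (zO p G)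
  rotate_left
  · exact Or.inr (Or.inr (VZ.main ⟨hr, hp2, hB, hA, hne.symm, zB, zA⟩))
  · exact Or.inr (Or.inl (VZ.main ⟨hr, hp2, hA, hB, hne, zA, zB⟩))
  · exact Or.inl ⟨⊥, inferInstance, ut_bot le_top, ut_bot le_top,
      fun x hx g => comm_one_symm (vv hr hA hB hne zA zB hx g)⟩
  have key : ∀ {F : FusionSystem (⊤ : Subgroup G)} {E}, NE F p E → F.IsNormal E → F.AInv E (zO p G) →
      ∃ F', FT F p E (zO p G) ((QuotientGroup.mk' _).comp (⊤ : Subgroup G).subtype) F' := fun h n z => by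
    obtain ⟨F', hF'⟩ := exists_factorSystem (S' := ⊤) _ (sc_of_aInv n h.zO_le z)
      ((QuotientGroup.mk' (zO p G)).comp (⊤ : Subgroup G).subtype) (by
        ext x
        simp [mem_preimageAlong_bot, extFun_of_mem _ (mem_top x)])
      (MonoidHom.range_eq_top.2 fun x => QuotientGroup.induction_on x fun x => ⟨⟨x, trivial⟩, rfl⟩)
    exact ⟨F', hF', n, h.toLEs, h.zO_le, z, fun τ hτ => ⟨0, fun x hx => by
      simpa using (inv_mul_eq_one.1 (h.oQ_triv (aInv_bot _ _) z h.zO_le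
        (fun s _ x hx => zO_comm hx s) hτ x hx)).symm⟩⟩
  obtain ⟨F₁', t₁⟩ := key hA nA zA
  obtain ⟨F₂', t₂⟩ := key hB nB zB
  obtain h | h | h := ih _ (hn ▸ card_quotient_lt hA.zO_ne) _ rfl F₁' F₂' _ _
    (hr.of_surj _ (QuotientGroup.mk'_surjective _)) t₁.ne t₂.ne t₁.nrm' t₂.nrm' (t₁.ne_img t₂ hne)
  · obtain ⟨T, h1, h2, h3, h4⟩ := t₁.pull t₂ (by
      rw [← MonoidHom.comap_ker, QuotientGroup.ker_mk']
      exact char_comap _ (fun x => ⟨⟨x, trivial⟩, rfl⟩) (by rw [ker_subtype]; infer_instance)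
        (characteristic_iff_le_comap.2 fun α _ => map_mem_zO α)) h
    have := char_comap (topEquiv (G := G)).symm.toMonoidHom topEquiv.symm.surjective (by
      rw [(MonoidHom.ker_eq_bot_iff (topEquiv (G := G)).symm.toMonoidHom).2 topEquiv.symm.injective]
      infer_instance) h1
    exact Or.inl ⟨T, this, h2, h3, fun x hx g => h4 x hx g trivial⟩
  · exact absurd h (t₁.not_sp hA hr hp2)
  · exact absurd h (t₂.not_sp hB hr hp2)

theorem SP.ext {G : Type*} [Group G] [Finite G] {F₁ F₂ : FusionSystem (⊤ : Subgroup G)}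
    {A B : Subgroup G} (t : SP F₁ p A B) (hA : NE F₁ p A) (hB : NE F₂ p B) (hp2 : p ≠ 2) :
    Nat.card B = p ^ 3 ∧ ¬ IsMulCommutative B ∧ ∀ x ∈ B, x ^ p = 1 := by
  obtain ⟨y, hy, hy', py⟩ := t.ex
  have c1 : Nat.card B = p ^ 3 := Nat.eq_of_mul_eq_mul_left hp.out.pos
    (by rw [← hB.card_top, hA.card_top, t.card])
  have n : ¬ IsMulCommutative B := fun e => by
    have c2 := card_le_of_le (H := B ⊓ A) fun x hx => hA.uO_zO (t.le hx.2) hy'
      (comm_one_iff.2 (comm_of_isMulCommutative e y hy x hx.1))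
    rw [card_of_relIndex inf_le_left (hA.relIndex_inf hy hy')] at c1
    rw [t.cardZ] at c2
    nlinarith [hp.out.two_le, mul_pos hp.out.pos hp.out.pos, Nat.mul_le_mul_left p c2]
  obtain ⟨c, -⟩ := cls2_of_card (isPGroup_of_le hA.pg le_top) c1 n
  have cl := cl2_of (fun x hx y hy => c.commutator_le (commutator_mem_commutator hx hy)) fun _ => c.pow_mem
  exact ⟨c1, n, fun x hx => ((sup_le (fun m (hm : m ∈ B ⊓ A) => ⟨hm.1, hA.uO_pow (t.le hm.2)⟩) (zpowers_le.2 ⟨hy, py⟩) :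
    _ ≤ om p B ⊥ (cl.pcl hp2 ⊥)) ((hA.inf_sup hy hy').ge hx)).2⟩

variable {Ω : Type u} [Group Ω] {S N E A B T W M : Subgroup Ω} [Finite S] {F : FusionSystem S}
  {g y a b : Ω}

/-- The configuration of the two radical subgroups in a Sylow subgroup of `Sp₄(p)`. -/
structure SPc (p : ℕ) [Fact p.Prime] (N A B : Subgroup Ω) : Prop where
  el : IsElementaryAbelian p A
  card : Nat.card A = p ^ 3
  ex : IsExtraspecial p B
  card' : Nat.card B = p ^ 3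
  nab : ¬ IsMulCommutative B
  pow : ∀ x ∈ B, x ^ p = 1
  syl : ∃ P : Sylow p (Matrix.symplecticGroup (Fin 2) (ZMod p)),
    Nonempty (N ≃* (P : Subgroup (Matrix.symplecticGroup (Fin 2) (ZMod p))))

theorem spc_of {F₁ F₂ : FusionSystem (⊤ : Subgroup S)} (hA : A ≤ S) (hB : B ≤ S) (hp2 : p ≠ 2)
    (h₁ : NE F₁ p (A.subgroupOf S)) (h₂ : NE F₂ p (B.subgroupOf S))
    (t : SP F₁ p (A.subgroupOf S) (B.subgroupOf S)) : SPc p S A B := by
  obtain ⟨c1, c2, c3⟩ := t.ext h₁ h₂ hp2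
  have el := elem_mono h₁.uO_elem t.le
  rw [Nat.card_congr (subgroupOfEquivOfLe hB).toEquiv] at c1
  haveI := finite_of_le hB
  have n : ¬ IsMulCommutative B := fun e => c2 (isMulCommutative_of_comm fun x hx y hy =>
    Subtype.ext (comm_of_isMulCommutative e _ hx _ hy))
  have pB : IsPGroup p B := .of_card c1
  obtain ⟨c, c4⟩ := cls2_of_card pB c1 n
  exact ⟨⟨isMulCommutative_of_comm fun x hx y hy => congrArg Subtype.val
    (comm_of_isMulCommutative el.1 ⟨x, hA hx⟩ hx ⟨y, hA hy⟩ hy), fun x hx =>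
    congrArg Subtype.val (el.2 ⟨x, hA hx⟩ hx)⟩,
    (Nat.card_congr (subgroupOfEquivOfLe hA).toEquiv).symm.trans t.card,
    isExtraspecial_of pB (eq_of_card_prime c.commutator_le c4 fun e => n (isMulCommutative_of_comm
      fun x hx y hy => commutatorElement_eq_one_iff_mul_comm.1 (e.le (commutator_mem_commutator hx hy))))
      (fun _ => c.pow_mem) c4, c1, n, fun x hx => congrArg Subtype.val (c3 ⟨x, hB hx⟩ hx),
    h₁.sylow_sp t hp2⟩

theorem img_id (hA : A ≤ S) : img (extFun (MonoidHom.id S)) A = A.subgroupOf S := by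
  ext x
  rw [mem_img_extFun hA]
  exact ⟨fun ⟨y, hy, e⟩ => by rw [← e, extFun_of_mem _ (hA hy)]; exact hy,
    fun hx => ⟨x, hx, extFun_coe _ x⟩⟩

theorem LEs.exists_ft (h : LEs F p E) [Finite N] (hN : normalizerIn S E = N) :
    ∃ (F₀ : FusionSystem N) (F' : FusionSystem (⊤ : Subgroup N)), FT F₀ p E ⊥ (MonoidHom.id N) F' ∧
      ∀ T, UT F₀ p E T → UT F p E T := by
  subst hN
  have n := F.isNormalizerSystem_normSys9 E h.le
  have l := le_normalizerIn h.le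
  have i : ∀ σ, F.Iso E E σ → (F.normSys9 E h.le).Iso E E σ := fun σ hσ =>
    iso_normalizerSystem n hσ le_rfl hσ fun _ _ => rfl
  obtain ⟨F', hF'⟩ := exists_factorSystem (S' := ⊤) _ (stronglyClosed_bot (F.normSys9 E h.le))
    (MonoidHom.id _) (by simp [preimageAlong_bot]) (MonoidHom.range_eq_top.2 Function.surjective_id)
  refine ⟨_, F', ⟨hF', n.isNormal h.le, ⟨isPGroup_of_le h.pg (normalizerIn_le S E),
    n.isSaturated h.sat h.pg h.fn, isFullyNormalized_of_le_normalizer _ l inf_le_right,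
    fun g hg e => h.rad g hg.1 (opStab_le_of_iso n.isSubsystemOf l i e), ?_⟩, ut_bot l⟩,
    fun T t => ⟨t.le, fun τ hτ => t.inv τ (i τ hτ), fun τ hτ => t.uni τ (H8.oQ_le_iff.2
      (fun σ hσ => H8.QEl.mem_oQ ⟨i σ hσ.1, hσ.2⟩) hτ)⟩⟩
  rw [show normalizerIn (normalizerIn S E) E = normalizerIn S E from inf_eq_left.2 inf_le_right, h.idx]

theorem pair_amb (hp2 : p ≠ 2) (hr : SR3 p S) (hA : LEs F p A) (hB : LEs F p B)
    (nA : normalizerIn S A = N) (nB : normalizerIn S B = N) (hne : A ≠ B) :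
    (∃ T : Subgroup Ω, (T.subgroupOf N).Characteristic ∧ UT F p A T ∧ UT F p B T ∧
      ∀ x ∈ A ⊓ B, ∀ g ∈ N, ⁅x, g⁆ ∈ T) ∨ SPc p N A B ∨ SPc p N B A := by
  have NS : N ≤ S := nA ▸ normalizerIn_le S A
  haveI := finite_of_le NS
  obtain ⟨F₁, F₁', t₁, u₁⟩ := hA.exists_ft nA
  obtain ⟨F₂, F₂', t₂, u₂⟩ := hB.exists_ft nB
  have n₁ := t₁.ne
  have n₂ := t₂.ne
  refine (pair_main hp2 _ _ rfl F₁' F₂' _ _ (hr.mono NS).top n₁ n₂ t₁.nrm' t₂.nrm'
    (t₁.ne_img t₂ hne)).imp (fun h => ?_) fun h => ?_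
  · obtain ⟨T, h1, h2, h3, h4⟩ := t₁.pull t₂ (by rw [MonoidHom.ker_id]; infer_instance) h
    exact ⟨T, h1, u₁ T h2, u₂ T h3, h4⟩
  · rw [img_id t₁.les.le, img_id t₂.les.le] at *
    exact h.imp (spc_of t₁.les.le t₂.les.le hp2 n₁ n₂) (spc_of t₂.les.le t₁.les.le hp2 n₂ n₁)

end Cfsg.Agent.H1
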