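import Cfsg.Agent.H1.R8

/-!
# Consequences of the structure theorem for pairs
-/

set_option autoImplicit false
set_option linter.unusedSectionVars false

namespace Cfsg.Agent.H1

open Equiv Cfsg.Fus Cfsg.FusionSystem Subgroup
open scoped commutatorElement

variable {p : ℕ} [hp : Fact p.Prime] {Ω : Type*} [Group Ω] {S N E A B R T W M : Subgroup Ω} [Finite S]
  {F : FusionSystem S} {g x y a b : Ω} {β : Perm Ω} {c : ℤ}

theorem zpow_inv_mul_mem (hx : x ∈ normalizer (T : Set Ω)) (h : x⁻¹ * y ∈ T) (c : ℤ) :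
    (x ^ c)⁻¹ * y ^ c ∈ T := by
  haveI := normal_in_normalizer (H := T)
  have hy := (Subgroup.mul_mem_cancel_left _ (Subgroup.inv_mem _ hx)).1 (le_normalizer h)
  have e : ((⟨x, hx⟩ : normalizer (T : Set Ω)) : _ ⧸ T.subgroupOf (normalizer (T : Set Ω))) =
    (⟨y, hy⟩ : normalizer (T : Set Ω)) := QuotientGroup.eq.2 h
  have e' : ((⟨x, hx⟩ ^ c : normalizer (T : Set Ω)) :
      _ ⧸ T.subgroupOf (normalizer (T : Set Ω))) = (⟨y, hy⟩ ^ c : normalizer (T : Set Ω)) := by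
    rw [QuotientGroup.mk_zpow, QuotientGroup.mk_zpow, e]
  exact (QuotientGroup.eq.1 e' :)

theorem wt_pow (hβ : F.Iso R R β) (hT : ∀ x ∈ T, β x ∈ T) (hTR : T ≤ R)
    (hn : x ∈ normalizer (T : Set Ω)) (hx : x ∈ R) (h : (x ^ c)⁻¹ * β x ∈ T) (n : ℕ) :
    (x ^ c ^ n)⁻¹ * (β ^ n) x ∈ T := by
  induction n with
  | zero => simp
  | succ n ih =>
    have h1 := hT _ ih
    rw [hβ.homOn.map_mul (R.inv_mem (R.zpow_mem hx _)) ((hβ.pow n).mem hx), hβ.homOn.map_inv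
      (R.zpow_mem hx _), hβ.homOn.map_zpow hx] at h1
    have h2 := T.mul_mem (zpow_inv_mul_mem (Subgroup.zpow_mem _ hn c) h (c ^ n)) h1
    rwa [mul_assoc, mul_inv_cancel_left, ← zpow_mul, ← pow_succ', ← Perm.mul_apply, ← pow_succ'] at h2

theorem neg_one_pow_pow (hp2 : p ≠ 2) (l : ℕ) : (-1 : ℤ) ^ p ^ l = -1 :=
  (hp.out.odd_of_ne_two hp2).pow.neg_one_pow

theorem comm_of_fix (hβ : HomOn β R) (hW : W ≤ R) (h : β ∈ fixP W) (hx : x ∈ R)
    (hn : x ∈ normalizer (W : Set Ω)) {w : Ω} (hw : w ∈ W) : w * (x⁻¹ * β x) = x⁻¹ * β x * w := by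
  have e := h _ (conj_mem_of_mem_normalizer hn hw)
  rw [hβ.map_conj hx (hW hw), h w hw] at e
  calc _ = x⁻¹ * (x * w * x⁻¹) * β x := by group
    _ = _ := by rw [← e]; group

theorem GQ.exists_fix (t : GQ F p E E T g b a W) (hE : LEs F p E) (hT : UT F p E T)
    (hβ : β ∈ H8.oQ F p E) (h : ∀ w ∈ W, w⁻¹ * β w ∈ T) : ∃ l, β ^ p ^ l ∈ fixP W := by
  have WE := t.le.trans (cfix_le _ _ _)
  have i := H8.iso_of_mem_oQ hE.le hβ
  haveI := finite_of_le (WE.trans hE.le)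
  obtain ⟨k, hk⟩ := hT.uni β hβ
  exact exists_pow_mem_fixP_of_trivOn (isPGroup_of_le hE.pg (WE.trans hE.le)) (A := T)
    ⟨⟨i.homOn.mono WE, t.invW.mem_setStab i⟩, h⟩ (fixP_anti inf_le_left hk)

theorem LEs.st (hE : LEs F p E) (hp2 : p ≠ 2) (hr : SR3 p S) (hT : UT F p E T) (hM : M ≤ E)
    (iM : M.relIndex E = p) (TM : T ≤ M) (hc : ∀ x ∈ M, ∀ s ∈ normalizerIn S E, ⁅x, s⁆ ∈ T)
    (hc' : ∀ x ∈ E, ⁅x, g⁆ ∈ M) (hg : g ∈ normalizerIn S E) (hgE : g ∉ E) (hy : y ∈ E) (hy' : y ∉ M) :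
    cfix E T g = M ∧ ∃ a W, GQ F p E E T g ⁅y, g⁆ a W ∧ (∀ w ∈ W, ∀ x ∈ E, w * x = x * w) ∧
      (∀ x ∈ M, ∀ y ∈ M, x * y = y * x) ∧ ∀ x ∈ E, ∀ y ∈ E, ⁅x, y⁆ ∈ T := by
  have hS := hE.pg
  have nT := hT.inv.le_normalizer hE.le
  have EN := le_normalizerIn hE.le
  have k := commutator_sup_zpowers_le (hM.trans nT) (nT hy) (fun a ha b hb => hc a ha b (EN (hM hb)))
    fun a ha => comm_mem_symm (hc a ha y (EN hy))
  rw [sup_zpowers_eq hM iM hy hy'] at k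
  have k' : ∀ x ∈ E, ∀ y ∈ E, ⁅x, y⁆ ∈ T := fun x hx y hy => k (commutator_mem_commutator hx hy)
  have e : cfix E T g = M := (eq_or_eq_of_relIndex (fun x hx => (mem_cfix nT).2 ⟨hM hx, hc x hx g hg⟩)
    (cfix_le _ _ _) iM).resolve_right fun e => hgE (hE.mem_of_ut hT hT.inv hT.le hg
      (fun x hx => (e.ge hx).2.2) fun x hx => hc x (TM hx) g hg)
  obtain ⟨a, W, t⟩ := hE.exists_gq ⟨hE.le, le_rfl, hT.le, aInv_self F E, hT.inv,
    fun e he x hx => k' x hx e he⟩ hg (e ▸ iM) (fun i => hgE (hE.mem_of_ut hT (e ▸ i) hM hg hc'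
      fun x hx => hc x hx g hg)) hy (e ▸ hy')
  refine ⟨e, a, W, t, ?_⟩
  generalize ⁅y, g⁆ = b at t
  obtain ⟨β, -, b1, b2, b3, b4, -⟩ := t.torus (-1) (-1) (by simp)
  obtain ⟨l, hl⟩ := t.exists_fix hE hT b1 b4
  have i := H8.iso_of_mem_oQ hE.le b1
  obtain ⟨φ, hφ, rfl⟩ := t.conj
  have bM := e ▸ t.memb
  have WM := e ▸ t.le
  have aE := hφ.mem (hM bM)
  have b5 := wt_pow i (hT.inv β i) hT.le (nT (hM bM)) (hM bM) b2 (p ^ l)
  have b6 := wt_pow i (hT.inv β i) hT.le (nT aE) aE b3 (p ^ l)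
  rw [neg_one_pow_pow hp2, zpow_neg, zpow_one, inv_inv] at b5 b6
  have i' := i.pow (p ^ l)
  generalize β ^ p ^ l = γ at hl b5 b6 i'
  have nW := t.invW.le_normalizer hE.le
  have cen := fun x (hx : x ∈ E) w => comm_of_fix (w := w) i'.homOn (WM.trans hM) hl hx (nW hx)
  have e1 : ∀ x, x⁻¹ * γ x = (x ^ 2)⁻¹ * (x * γ x) := fun x => by rw [sq]; group
  have nm : ∀ X, T ≤ X → ∀ x ∈ E, x * γ x ∈ T → x⁻¹ * γ x ∈ X → x ∈ X := fun X hX x hx h1 h2 =>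
    mem_of_sq_mem hS hp2 (hE.le hx) (X.inv_mem_iff.1 ((X.mul_mem_cancel_right (hX h1)).1 (e1 x ▸ h2)))
  have iO := aInv_om (aInv_self F E) hT.inv le_rfl (pcl_of_comm (p := p) nT k')
  have pw : ∀ x ∈ om p E T (pcl_of_comm nT k'), (x⁻¹ * γ x) ^ p ∈ W := fun x hx =>
    t.le' (Subgroup.mul_mem _ (Subgroup.inv_mem _ hx) (iO γ i' x hx)).2
  have b7 : b⁻¹ * γ b ∈ M := e1 b ▸ M.mul_mem (M.inv_mem (M.pow_mem bM 2)) (TM b5)
  have a7 : (φ b)⁻¹ * γ (φ b) ∈ E := E.mul_mem (E.inv_mem aE) (i'.mem aE)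
  have b8 := fun h => t.nmem (nm W t.le' b (hM bM) b5 h)
  have a8 := fun h => t.ne (e.ge (nm M TM _ aE b6 h)).2.2
  have s1 := sup_zpowers_eq (p := p) WM (by
    rw [← e, ← t.sup]; exact relIndex_sup_zpowers (nW (hM bM)) t.nmem (t.le' t.powb)) b7 b8
  have s2 := sup_zpowers_eq hM iM a7 a8
  have cW := hr.comm_of_pair hS (WM.trans (hM.trans hE.le)) (hE.le a7) (hE.le (hM b7)) (cen _ aE)
    (cen _ (hM bM)) (t.le' (k' _ a7 _ (hM b7))) (pw _ (iO φ hφ b ⟨hM bM, t.powb⟩))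
    (pw _ ⟨hM bM, t.powb⟩) b8 (s1.symm ▸ a8)
  refine ⟨fun w hw x hx => ?_, s1 ▸ comm_sup_zpowers cW fun w hw => (cen _ (hM bM) w hw).symm, k'⟩
  exact mem_centralizer_singleton_iff.1 ((sup_le (sup_le (fun x hx => mem_centralizer_singleton_iff.2
    (cW x hx w hw)) (zpowers_le.2 (mem_centralizer_singleton_iff.2 (cen _ (hM bM) w hw).symm)))
    (zpowers_le.2 (mem_centralizer_singleton_iff.2 (cen _ aE w hw).symm)) : _ ≤ centralizer {w})
    ((s1.symm ▸ s2).ge hx)) |>.symm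

theorem relIndex_inf_of (hS : IsPGroup p S) (hN : N ≤ S) (hA : A ≤ N) (h : B.relIndex N = p)
    (ha : a ∈ A) (ha' : a ∉ B) : (A ⊓ B).relIndex A = p := by
  haveI := finite_of_le hN
  rw [inf_relIndex_left]
  exact relIndex_eq_of_le hS (hA.trans hN) (h ▸ relIndex_le_of_le_right hA
    (relIndex_ne_zero_of_finite le_rfl)) fun e => ha' (e ha)

theorem exists_mem_of_ne (hA : A ≤ N) (hB : B ≤ N) (h1 : A.relIndex N = p) (h2 : B.relIndex N = p)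
    (hne : A ≠ B) : ∃ a ∈ A, a ∉ B :=
  SetLike.not_le_iff_exists.1 fun e => (eq_or_eq_of_relIndex e hB h1).elim (hne ·.symm)
    fun e => hp.out.one_lt.ne' (h2.symm.trans (relIndex_eq_one.2 e.ge))

theorem comm_of_ut (hp2 : p ≠ 2) (hr : SR3 p S) (hA : LEs F p A) (hB : LEs F p B)
    (nA : normalizerIn S A = S) (nB : normalizerIn S B = S) (hne : A ≠ B) (i : F.AInv S B)
    (tA : UT F p A T) (tB : UT F p B T) (hc : ∀ x ∈ A ⊓ B, ∀ g ∈ S, ⁅x, g⁆ ∈ T) :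
    ∀ x ∈ B, ∀ y ∈ B, x * y = y * x := by
  have hS := hA.pg
  have iA := nA ▸ hA.idx
  have iB := nB ▸ hB.idx
  obtain ⟨g, hg, hg'⟩ := exists_mem_of_ne hA.le hB.le iA iB hne
  obtain ⟨s, hs, hs'⟩ := exists_mem_of_ne hB.le hA.le iB iA hne.symm
  have cM : ∀ x ∈ S, ∀ y ∈ S, ⁅x, y⁆ ∈ A ⊓ B := fun x hx y hy =>
    ⟨commutator_le_of_relIndex hS hA.le iA (commutator_mem_commutator hx hy),
      commutator_le_of_relIndex hS hB.le iB (commutator_mem_commutator hx hy)⟩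
  have iM := relIndex_inf_of hS le_rfl hB.le iA hs hs'
  rw [inf_comm] at iM
  obtain ⟨-, a, W, t, -⟩ := hA.st hp2 hr tA inf_le_left (relIndex_inf_of hS le_rfl hA.le iB hg hg')
    (le_inf tA.le tB.le) (nA.symm ▸ hc) (fun x hx => cM x (hA.le hx) s (hB.le hs)) (nA.ge (hB.le hs)) hs'
    hg fun e => hg' e.2
  obtain ⟨e, a', W', t', k1, k2, -⟩ := hB.st hp2 hr tB inf_le_right iM (le_inf tA.le tB.le)
    (nB.symm ▸ hc) (fun x hx => cM x (hB.le hx) g (hA.le hg)) (nB.ge (hA.le hg)) hg' hs fun e => hs' e.1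
  obtain ⟨β, b1, b2, b3, -, -, b4⟩ := t.torus (-1) (-1) (by simp)
  rw [nA] at b1
  have bM := cM g (hA.le hg) s (hB.le hs)
  have e1 := t'.sup
  rw [e, ← commutatorElement_inv, zpowers_inv] at e1
  generalize ⁅g, s⁆ = b at b3 bM e1
  have c1 := hc b bM s (hB.le hs)
  have c2 : β ⁅b, s⁆ = ⁅b, s⁆ ^ (-1 : ℤ) := by
    have b5 : (s ^ (-1 * -1 : ℤ))⁻¹ * β s ∈ A ⊓ B :=
      ⟨b4, B.mul_mem (B.inv_mem (B.zpow_mem hs _)) (i β b1 s hs)⟩
    have := comm_mul_central (k1 _ (t'.le' b3) _ (B.mul_mem (B.zpow_mem hs (-1 * -1)) b5.2))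
      (k2 _ b5 _ (Subgroup.zpow_mem _ bM (-1)))
    rw [mul_inv_cancel_left, mul_inv_cancel_left, ← b1.homOn.map_commutator (hA.le bM.1) (hB.le hs),
      neg_mul_neg, one_mul, zpow_one, comm_zpow_left (k1 _ (t'.le' c1) _ bM.2)] at this
    exact this
  obtain ⟨k, hk⟩ := tA.uni β b2
  have c3 := wt_pow b1 (aInv_bot F S β b1) bot_le (le_normalizer_of_le_zc bot_le (hA.le (tA.le c1)))
    (hA.le (tA.le c1)) (c := -1) (by rw [c2, inv_mul_cancel]; exact one_mem _) (p ^ k)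
  rw [neg_one_pow_pow hp2, hk _ c1, zpow_neg, zpow_one, inv_inv, ← sq] at c3
  have c4 := commutatorElement_eq_one_iff_mul_comm.1 (mem_of_sq_mem hS hp2 (hA.le (tA.le c1)) c3)
  rw [← sup_zpowers_eq inf_le_right iM hs fun e => hs' e.1]
  refine comm_sup_zpowers k2 fun x hx => (mem_centralizer_singleton_iff.1 ((sup_le (fun w hw =>
    mem_centralizer_singleton_iff.2 (k1 w hw s hs)) (zpowers_le.2 (mem_centralizer_singleton_iff.2 c4)) :
    _ ≤ centralizer {s}) (e1.ge hx))).symm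

theorem aInv_of_map (hE : E ≤ S)
    (h : ∀ φ : MulAut S, φ ∈ F.autGroup S → (E.subgroupOf S).map φ.toMonoidHom = E.subgroupOf S) :
    F.AInv S E := fun τ hτ x hx => by
  have := (h _ hτ.resAut_mem).le ⟨⟨x, hE hx⟩, hx, rfl⟩
  rwa [mem_subgroupOf, MulEquiv.coe_toMonoidHom, resAut_apply hτ.mem_autStab] at this

theorem spc_of_aInv (hS : IsPGroup p S) (hF : F.IsSaturated p) (hp2 : p ≠ 2) (hr : SR3 p S)
    (h2 : ¬ SectionalPRankLE p 2 S) (hO : F.core = ⊥) (hA : F.IsEssential p A) (hB : F.IsEssential p B)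
    (hne : A ≠ B) (iA : F.AInv S A) (iB : F.AInv S B) : SPc p S A B ∨ SPc p S B A := by
  have lA := lEs_of_essential hS hF hr hA
  have lB := lEs_of_essential hS hF hr hB
  have nA : normalizerIn S A = S := inf_eq_left.2 (iA.le_normalizer le_rfl)
  have nB : normalizerIn S B = S := inf_eq_left.2 (iB.le_normalizer le_rfl)
  refine (pair_amb hp2 hr lA lB nA nB hne).resolve_left fun ⟨T, _, tA, tB, hc⟩ => ?_
  have cA := comm_of_ut hp2 hr lB lA nB nA hne.symm iA tB tA (inf_comm A B ▸ hc)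
  have cB := comm_of_ut hp2 hr lA lB nA nB hne iB tA tB hc
  have i1 := nA ▸ lA.idx
  have i2 := nB ▸ lB.idx
  obtain ⟨g, hg, hg'⟩ := exists_mem_of_ne hA.le hB.le i1 i2 hne
  have t : Cls2 p S := by
    refine ⟨hS, (relIndex_le_of_le_left (fun x (hx : x ∈ A ⊓ B) => mem_zc.2 ⟨hA.le hx.1, fun y hy => ?_⟩)
      (relIndex_ne_zero_of_finite le_rfl)).trans_eq ?_, not_comm_of_essential hS hF hA⟩
    · exact mem_centralizer_singleton_iff.1 ((sup_le (fun w hw => mem_centralizer_singleton_iff.2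
        (cB w hw x hx.2)) (zpowers_le.2 (mem_centralizer_singleton_iff.2 (cA g hg x hx.1))) :
        _ ≤ centralizer {x}) ((sup_zpowers_eq hB.le i2 (hA.le hg) hg').ge hy))
    · rw [← relIndex_mul_relIndex _ A _ inf_le_left hA.le, relIndex_inf_of hS le_rfl hA.le i2 hg hg', i1, sq]
  exact h2 (sr2_of_card (t.final hF hO (t.zc_le_of_odd hp2 hF hO)).2.1 t.nonab)

end Cfsg.Agent.H1
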