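import Cfsg.Agent.H1.Pearl2
import Cfsg.Agent.H7.Crit

/-!
# Transvections on sections of essential subgroups
-/

set_option autoImplicit false
set_option linter.unusedSectionVars false

namespace Cfsg.Agent.H1

open Equiv Cfsg.Fus Cfsg.FusionSystem Subgroup
open scoped commutatorElement

variable {Ω : Type*} [Group Ω] {S E D Z : Subgroup Ω} [Finite S] {F : FusionSystem S} {p : ℕ}
  [hp : Fact p.Prime] {g a b : Ω} {σ τ : Perm Ω}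

/-- `D / Z` is an abelian section of `E` on which `Out_F(E)` acts faithfully. -/
structure FSec (F : FusionSystem S) (p : ℕ) (E D Z : Subgroup Ω) : Prop where
  ess : F.IsEssential p E
  le : D ≤ E
  le' : Z ≤ D
  invD : F.AInv E D
  invZ : F.AInv E Z
  inn : ∀ e ∈ E, ∀ x ∈ D, x⁻¹ * (e * x * e⁻¹) ∈ Z
  ker : ∀ σ, F.Iso E E σ → (∀ x ∈ D, x⁻¹ * σ x ∈ Z) → σ ∈ innS E E

namespace FSec

variable (h : FSec F p E D Z)
include h

theorem norm : E ≤ normalizer (Z : Set Ω) := h.invZ.le_normalizer h.ess.le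

theorem normal : (Z.subgroupOf D).Normal := normal_subgroupOf_of_le_normalizer (h.le.trans h.norm)

theorem mem_autStab (hσ : F.Iso E E σ) : σ ∈ autStab D :=
  ⟨hσ.homOn.mono h.le, h.invD.mem_setStab hσ⟩

theorem comm [(Z.subgroupOf D).Normal] : IsMulCommutative (D ⧸ Z.subgroupOf D) := ⟨⟨fun x y => by
  obtain ⟨x, rfl⟩ := QuotientGroup.mk_surjective x
  obtain ⟨y, rfl⟩ := QuotientGroup.mk_surjective y
  refine comm_mem_iff_mk.1 ?_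
  simpa [mem_subgroupOf, commutatorElement_def, mul_assoc] using
    h.inn _ (h.le y.2) _ (D.inv_mem x.2)⟩⟩

/-- The action on the section. -/
noncomputable def act [(Z.subgroupOf D).Normal] : F.stab E →* MulAut (D ⧸ Z.subgroupOf D) where
  toFun σ := QuotientGroup.congr _ _ (resHom D ⟨σ, h.mem_autStab ((mem_stab h.ess.le).1 σ.2)⟩) (by
    have h1 := h.invZ.mem_setStab ((mem_stab h.ess.le).1 σ.2)
    ext x
    refine mem_map_equiv.trans ?_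
    rw [mem_subgroupOf, ← h1, ← resHom_apply
      ⟨σ.1, h.mem_autStab ((mem_stab h.ess.le).1 σ.2)⟩, MulEquiv.apply_symm_apply, mem_subgroupOf])
  map_one' := by ext x; induction x using QuotientGroup.induction_on; rfl
  map_mul' φ ψ := by ext x; induction x using QuotientGroup.induction_on; rfl

theorem act_mk [(Z.subgroupOf D).Normal] (σ : F.stab E) (x : D) :
    h.act σ x = (⟨σ.1 x, h.invD _ ((mem_stab h.ess.le).1 σ.2) x x.2⟩ : D) := rfl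

theorem act_mk_eq [(Z.subgroupOf D).Normal] (σ : F.stab E) (x y : D) :
    h.act σ x = y ↔ (y : Ω)⁻¹ * σ.1 x ∈ Z := by
  rw [h.act_mk, eq_comm, QuotientGroup.eq, mem_subgroupOf]; rfl

theorem act_eq_one [(Z.subgroupOf D).Normal] (σ : F.stab E) : h.act σ = 1 ↔ σ.1 ∈ innS E E := by
  refine ⟨fun e => h.ker _ ((mem_stab h.ess.le).1 σ.2) fun x hx =>
    (h.act_mk_eq σ ⟨x, hx⟩ ⟨x, hx⟩).1 (by rw [e]; rfl), fun hσ => ?_⟩
  obtain ⟨e, he, h1⟩ := mem_innS_self.1 hσ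
  ext x
  obtain ⟨x, rfl⟩ := QuotientGroup.mk_surjective x
  exact (h.act_mk_eq σ x x).2 (h1 x (h.le x.2) ▸ h.inn e he x x.2)

theorem strEmb [(Z.subgroupOf D).Normal] : ∃ Y, StrEmbMod p ⊥ h.act.range Y := by
  haveI := finite_of_le (h.le.trans h.ess.le)
  haveI := finite_mulAut (D ⧸ Z.subgroupOf D)
  exact (exists_strEmbMod_iff (N := ⊥) (MonoidHom.id h.act.range) Function.surjective_id
    (fun b => by simp)).2 ((exists_strEmbMod_iff h.act.rangeRestrict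
      h.act.rangeRestrict_surjective fun b => by
        rw [← h.act_eq_one, Subtype.ext_iff]; rfl).1 (isEssential_iff.1 h.ess).2.2)

end FSec

/-- The structure of a faithful section on which `g` acts as a transvection. -/
structure QTv (F : FusionSystem S) (p : ℕ) (E D Z : Subgroup Ω) (g b a : Ω) (W : Subgroup Ω) :
    Prop where
  gp : g ^ p ∈ E
  norm : ∀ s ∈ S, s ∈ normalizer (E : Set Ω) → ∃ k : ℤ, (g ^ k)⁻¹ * s ∈ E
  nmem : b ∉ Z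
  conj : ∃ φ, F.Iso E E φ ∧ φ b = a
  ne : a⁻¹ * (g * a * g⁻¹) ∉ Z
  le : W ≤ D
  le' : Z ≤ W
  fix : ∀ w ∈ W, w⁻¹ * (g * w * g⁻¹) ∈ Z
  invW : F.AInv E W
  decomp : ∀ x ∈ D, ∃ w ∈ W, ∃ i j : ℤ, x = w * b ^ i * a ^ j
  indep : ∀ i j : ℤ, b ^ i * a ^ j ∈ W → b ^ i ∈ Z ∧ a ^ j ∈ Z
  torus : ∀ c d : ℤ, c * d ≡ 1 [ZMOD p] → ∃ τ, F.Iso E E τ ∧ (b ^ c)⁻¹ * τ b ∈ Z ∧
    (a ^ d)⁻¹ * τ a ∈ Z ∧ (∀ w ∈ W, w⁻¹ * τ w ∈ Z) ∧
    (cj (g ^ (c * c)))⁻¹ * (τ * cj g * τ⁻¹) ∈ innS E E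

theorem Tv.conj_torus {A : Type*} [CommGroup A] {u u' τ : MulAut A} {z z' : A} (t : Tv p u z)
    (t' : Tv p u' z') (h : u z' ≠ z') (h' : u' z ≠ z) {c d : ℤ} (hcd : c * d ≡ 1 [ZMOD p])
    (h1 : τ z = z ^ c) (h2 : τ z' = z' ^ d) (h3 : ∀ w, u w = w → u' w = w → τ w = w) :
    τ * u * τ⁻¹ = u ^ (c * c) := by
  rw [mul_inv_eq_iff_eq_mul]
  ext x
  obtain ⟨w, i, j, e, e', rfl⟩ := t.decomp t' h h' x
  obtain ⟨k, hk⟩ := t.mem z'
  have h4 : u z' = z' * z ^ k := by rw [show z ^ k = _ from hk, mul_inv_cancel_left]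
  obtain ⟨m, hm⟩ := hcd.symm.dvd
  have h5 : z ^ (k * (c * c) * d) = z ^ (c * k) := by
    rw [show k * (c * c) * d = c * k + p * (m * c * k) by linear_combination c * k * hm, zpow_add,
      zpow_mul z p, zpow_natCast, t.pow, one_zpow, mul_one]
  simp only [MulAut.mul_apply, map_mul, map_zpow, e, t.fix, h4, h1, h2, h3 w e e',
    aut_zpow_fix e, aut_zpow_fix t.fix, t.zpow_apply z', inv_mul_cancel_left, mul_zpow _ _ d,
    ← zpow_mul, h5]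

open scoped IsMulCommutative in
theorem FSec.exists_qTv (h : FSec F p E D Z) (hS : IsPGroup p S) (hg : g ∈ S)
    (hn : g ∈ normalizer (E : Set Ω)) (hgE : g ∉ E) (hb : b ∈ D) (hbp : b ^ p ∈ Z)
    (hgb : b⁻¹ * (g * b * g⁻¹) ∈ Z) (ht : ∀ x ∈ D, x⁻¹ * (g * x * g⁻¹) ∈ Z ⊔ zpowers b) :
    ∃ a W, QTv F p E D Z g b a W := by
  have hE := h.ess.le
  haveI := finite_of_le (h.le.trans hE)
  haveI := h.normal
  haveI := h.comm
  have hA := (isPGroup_of_le hS (h.le.trans hE)).to_quotient (Z.subgroupOf D)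
  have one : ∀ x : D, (x : D ⧸ Z.subgroupOf D) = 1 ↔ (x : Ω) ∈ Z := fun x =>
    QuotientGroup.eq_one_iff x
  set γ : F.stab E := ⟨cj g, (F.iso_cj hE hg hn).mem_stab⟩ with hγ
  have t : Tv p (h.act γ) (⟨b, hb⟩ : D) := by
    refine ⟨fun e => hgE (h.ess.isCentric.mem_of_cj_mem_innS hg ((h.act_eq_one γ).1 e)),
      (one ((⟨b, hb⟩ : D) ^ p)).2 hbp, (h.act_mk_eq γ _ _).2 hgb, fun x => ?_⟩
    obtain ⟨x, rfl⟩ := QuotientGroup.mk_surjective x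
    obtain ⟨c, hc, k, e⟩ := (mem_sup_zpowers (h.norm (h.le hb))).1 (ht x x.2)
    refine ⟨k, eq_inv_mul_of_mul_eq ((h.act_mk_eq γ x (x * (⟨b, hb⟩ : D) ^ k)).2 ?_).symm⟩
    have := conj_inv_mem_of_mem_normalizer (h.norm (E.zpow_mem (h.le hb) k)) hc
    rw [eq_mul_inv_of_mul_eq e.symm] at this
    simpa [γ, mul_assoc] using this
  obtain ⟨h1, _, ⟨φ, rfl⟩, h2, h3, h4⟩ := t.main hA h.strEmb ⟨γ, rfl⟩
  have t' := t.conj (h.act φ)
  have hφ := (mem_stab hE).1 φ.2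
  have ha := h.invD _ hφ b hb
  have hcl : closure {h.act γ, h.act φ * h.act γ * (h.act φ)⁻¹} ≤ h.act.range := by
    rw [closure_le]
    rintro _ (rfl | rfl)
    · exact ⟨γ, rfl⟩
    · exact ⟨φ * γ * φ⁻¹, by simp⟩
  set W := ((H8.fixAut (h.act γ) ⊓ H8.fixAut (h.act φ * h.act γ * (h.act φ)⁻¹)).comap
    (QuotientGroup.mk' _)).map D.subtype with hW
  have memW : ∀ w : D, (w : Ω) ∈ W ↔ h.act γ w = w ∧ (h.act φ * h.act γ * (h.act φ)⁻¹) w = w :=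
    fun w => mem_map_iff_mem D.subtype_injective
  have mw : ∀ (ψ : F.stab E) w, h.act γ w = w → (h.act φ * h.act γ * (h.act φ)⁻¹) w = w →
      h.act γ (h.act ψ w) = h.act ψ w := fun ψ w e e' => by
    have := closure_pair_fix e e' (h4 _ (inv_mem ⟨ψ, rfl⟩))
    apply (h.act ψ)⁻¹.injective
    simpa using this
  refine ⟨φ.1 b, W, ?_, fun s hs hsn => ?_, fun e => t.ne_one ((one _).2 e), ⟨φ, hφ, rfl⟩,
    fun e => h2 ((h.act_mk_eq γ ⟨_, ha⟩ ⟨_, ha⟩).2 e), map_subtype_le _, fun x hx => ?_, ?_, ?_,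
    fun x hx => ?_, fun i j hij => ?_, fun c d hcd => ?_⟩
  · refine h.ess.isCentric.mem_of_cj_mem_innS (S.pow_mem hg p) ?_
    rw [map_pow]
    exact (h.act_eq_one (γ ^ p)).1 (by rw [map_pow, t.pow_eq_one])
  · obtain ⟨k, hk⟩ := h1 (((innS S E).subgroupOf (F.stab E)).map h.act) (map_le_range _ _) (by
      rintro ⟨_, σ, hσ, rfl⟩
      obtain ⟨k, hk⟩ := isPMod_innS hS E σ hσ
      exact ⟨k, Subtype.ext ((map_pow _ _ _).symm.trans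
        ((h.act_eq_one _).2 (fixP_le_innS E E hk)))⟩) ⟨γ, cj_mem_innS hg hn, rfl⟩
      ⟨⟨cj s, (F.iso_cj hE hs hsn).mem_stab⟩, cj_mem_innS hs hsn, rfl⟩
    refine ⟨k, h.ess.isCentric.mem_of_cj_mem_innS (S.mul_mem (S.inv_mem (S.zpow_mem hg k)) hs) ?_⟩
    rw [map_mul, map_inv, map_zpow]
    refine (h.act_eq_one ((γ ^ k)⁻¹ * ⟨cj s, (F.iso_cj hE hs hsn).mem_stab⟩)).1 ?_
    rw [map_mul, map_inv, map_zpow, ← hk, inv_mul_cancel]
  · rw [memW ⟨x, h.le' hx⟩, (one ⟨x, h.le' hx⟩).2 hx]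
    exact ⟨map_one _, map_one _⟩
  · rintro _ ⟨w, hw, rfl⟩
    exact (h.act_mk_eq γ w w).1 hw.1
  · rintro τ hτ _ ⟨w, hw, rfl⟩
    refine (memW ⟨_, h.invD τ hτ w w.2⟩).2 ⟨mw ⟨τ, hτ.mem_stab⟩ w hw.1 hw.2, ?_⟩
    have := mw (φ⁻¹ * ⟨τ, hτ.mem_stab⟩) w hw.1 hw.2
    apply (h.act φ)⁻¹.injective
    simpa [← h.act_mk ⟨τ, hτ.mem_stab⟩ w] using this
  · obtain ⟨w, i, j, e, e', h5⟩ := t.decomp t' h2 h3 (⟨x, hx⟩ : D)
    refine ⟨x * (φ.1 b ^ j)⁻¹ * (b ^ i)⁻¹, (memW (⟨x, hx⟩ * (⟨_, ha⟩ ^ j)⁻¹ * (⟨b, hb⟩ ^ i)⁻¹)).2 ?_,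
      i, j, by simp⟩
    have : ((⟨x, hx⟩ * (⟨_, ha⟩ ^ j)⁻¹ * (⟨b, hb⟩ ^ i)⁻¹ : D) : D ⧸ Z.subgroupOf D) = w := by
      simp [h5, h.act_mk]
    rw [this]
    exact ⟨e, e'⟩
  · obtain ⟨e, e'⟩ := (memW ((⟨b, hb⟩ : D) ^ i * ⟨_, ha⟩ ^ j)).1 hij
    obtain ⟨a, b⟩ := t.indep t' h2 h3 e e'
    exact ⟨(one ((⟨_, hb⟩ : D) ^ i)).1 a, (one ((⟨_, ha⟩ : D) ^ j)).1 b⟩
  · obtain ⟨_, h5, h6, h7⟩ := t.torus t' h2 h3 hcd
    obtain ⟨τ, rfl⟩ := hcl h5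
    refine ⟨τ, (mem_stab hE).1 τ.2, (h.act_mk_eq τ ⟨b, hb⟩ ((⟨b, hb⟩ : D) ^ c)).1 h6,
      (h.act_mk_eq τ ⟨_, ha⟩ ((⟨_, ha⟩ : D) ^ d)).1 h7, ?_, ?_⟩
    · rintro _ ⟨w, hw, rfl⟩
      exact (h.act_mk_eq τ w w).1 (closure_pair_fix hw.1 hw.2 h5)
    · rw [map_zpow]
      refine (h.act_eq_one ((γ ^ (c * c))⁻¹ * (τ * γ * τ⁻¹))).1 ?_
      rw [map_mul, map_mul, map_mul, map_inv, map_inv, map_zpow,
        t.conj_torus t' h2 h3 hcd h6 h7 fun w e e' => closure_pair_fix e e' h5, inv_mul_cancel]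

/-- Extension of an automorphism normalising `⟨c_g⟩` modulo inner automorphisms. -/
theorem exists_ext_of_conj (hS : IsPGroup p S) (hF : F.IsSaturated p) (hE : F.IsCentric E)
    (hg : g ∈ S) (hn : g ∈ normalizer (E : Set Ω)) (hτ : F.Iso E E τ) {m : ℤ}
    (h : (cj (g ^ m))⁻¹ * (τ * cj g * τ⁻¹) ∈ innS E E) :
    ∃ β, F.Iso (E ⊔ zpowers g) (E ⊔ zpowers g) β ∧ (∀ x ∈ E, β x = τ x) ∧ (g ^ m)⁻¹ * β g ∈ E := by
  have h1 : τ * cj g * τ⁻¹ ∈ innS S E := (mul_mem_cancel_left (Subgroup.inv_mem _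
    (cj_mem_innS (S.zpow_mem hg m) (zpow_mem hn m)))).1 (innS_mono hE.le E h)
  obtain ⟨β, h2, h3⟩ := (hE.isReceptive hF hS).exists_ext_of_le hτ (T := zpowers g)
    (zpowers_le.2 ⟨hg, hn⟩) (by
      rintro _ ⟨k, rfl⟩
      simp only [map_zpow, ← conj_zpow]
      exact zpow_mem h1 k)
  have hg' : g ∈ E ⊔ zpowers g := mem_sup_right (mem_zpowers g)
  have h4 : (g ^ m)⁻¹ * β g ∈ E := by
    refine hE.mem_of_cj_mem_innS (S.mul_mem (S.inv_mem (S.zpow_mem hg m)) (h2.mem hg'))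
      (mem_of_congr (fixP_le_innS E E) h fun x hx => ?_)
    obtain ⟨y, hy, rfl⟩ := hτ.exists_eq hx
    simp only [map_mul, map_inv, Perm.mul_apply, cj_apply]
    rw [show τ⁻¹ (τ y) = y by simp, ← h3 _ (conj_mem_of_mem_normalizer hn hy),
      h2.homOn.map_conj hg' (mem_sup_left hy), h3 y hy]
  refine ⟨β, h2.iso_self (h2.homOn.mapsTo_sup (fun x hx => mem_sup_left (h3 x hx ▸ hτ.mem hx)) ?_),
    h3, h4⟩
  rintro _ ⟨k, rfl⟩
  rw [h2.homOn.map_zpow hg']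
  exact zpow_mem ((mul_mem_cancel_left (Subgroup.inv_mem _ (zpow_mem hg' m))).1
    (mem_sup_left h4)) k

end Cfsg.Agent.H1
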