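import Cfsg.Agent.H1.R5

/-!
# The Sylow `p`-subgroup of `Sp₄(p)`
-/

set_option autoImplicit false
set_option linter.unusedSectionVars false

namespace Cfsg.Agent.H1

open Cfsg.Fus Cfsg.FusionSystem Subgroup Matrix
open scoped commutatorElement

variable {p : ℕ} [hp : Fact p.Prime]

/-- The upper unitriangular symplectic matrices. -/
def spm (a b c t : ZMod p) : Matrix (Fin 2 ⊕ Fin 2) (Fin 2 ⊕ Fin 2) (ZMod p) :=
  fromBlocks !![1, t; 0, 1] !![c - t * b, b; b - t * a, a] 0 !![1, 0; -t, 1]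

theorem spm_mul (a b c t a' b' c' t' : ZMod p) : spm a b c t * spm a' b' c' t' =
    spm (a + a') (b + (b' + t * a')) (c + (c' + 2 * t * b' + t ^ 2 * a')) (t + t') := by
  ext (i | i) (j | j) <;> fin_cases i <;> fin_cases j <;>
    simp [spm, Matrix.mul_apply, Fintype.sum_sum_type, Fin.sum_univ_two] <;> ring

theorem spm_zero : spm (0 : ZMod p) 0 0 0 = 1 := by
  ext (i | i) (j | j) <;> fin_cases i <;> fin_cases j <;> simp [spm]

theorem spm_mem (a b c t : ZMod p) : spm a b c t ∈ symplecticGroup (Fin 2) (ZMod p) := by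
  rw [SymplecticGroup.mem_iff]
  ext (i | i) (j | j) <;> fin_cases i <;> fin_cases j <;>
    simp [spm, J, Matrix.mul_apply, Fintype.sum_sum_type, Fin.sum_univ_two] <;> ring

/-- The group of upper unitriangular symplectic matrices. -/
def spU (p : ℕ) [Fact p.Prime] : Subgroup (symplecticGroup (Fin 2) (ZMod p)) where
  carrier := {g | ∃ a b c t, g.1 = spm a b c t}
  one_mem' := ⟨0, 0, 0, 0, spm_zero.symm⟩
  mul_mem' := by
    rintro g h ⟨a, b, c, t, e⟩ ⟨a', b', c', t', e'⟩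
    exact ⟨_, _, _, _, by rw [Submonoid.coe_mul, e, e', spm_mul]⟩
  inv_mem' := by
    rintro g ⟨a, b, c, t, e⟩
    refine ⟨-a, t * a - b, 2 * t * b - t ^ 2 * a - c, -t, congrArg Subtype.val
      (inv_eq_of_mul_eq_one_right (b := ⟨_, spm_mem _ _ _ _⟩) (Subtype.ext ?_))⟩
    rw [Submonoid.coe_mul, e, spm_mul, Submonoid.coe_one, ← spm_zero]
    congr 1 <;> ring

theorem mem_spU_of_normalizer {g : symplecticGroup (Fin 2) (ZMod p)}
    (hn : g ∈ normalizer (spU p : Set _)) {k : ℕ} (hk : g ^ p ^ k = 1) : g ∈ spU p := by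
  have key : ∀ a t : ZMod p, ∃ a' b' c' t', spm a 0 0 t * g.1 = g.1 * spm a' b' c' t' := fun a t => by
    obtain ⟨a', b', c', t', e⟩ := conj_inv_mem_of_mem_normalizer hn
      (show ⟨_, spm_mem a 0 0 t⟩ ∈ spU p from ⟨_, _, _, _, rfl⟩)
    refine ⟨a', b', c', t', ?_⟩
    rw [← e, ← Submonoid.coe_mul, ← mul_assoc, ← mul_assoc, mul_inv_cancel, one_mul]; rfl
  obtain ⟨a₁, b₁, c₁, t₁, e₁⟩ := key 0 1
  obtain ⟨a₂, b₂, c₂, t₂, e₂⟩ := key 1 0
  have h1 := congrFun (congrFun e₁ (.inl 0)) (.inl 0)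
  have h2 := congrFun (congrFun e₁ (.inr 1)) (.inl 0)
  have h3 := congrFun (congrFun e₂ (.inl 1)) (.inl 0)
  have h4 := congrFun (congrFun e₁ (.inr 1)) (.inl 1)
  have h5 := congrFun (congrFun e₂ (.inl 1)) (.inl 1)
  simp [spm, Matrix.mul_apply, Fintype.sum_sum_type, Fin.sum_univ_two] at h1 h2 h3 h4 h5
  simp [h1, h3] at h4 h5
  have pw : ∀ n : ℕ, (g ^ n).1 (.inl 1) (.inl 0) = 0 ∧
      (g ^ n).1 (.inl 0) (.inl 0) = g.1 (.inl 0) (.inl 0) ^ n ∧
      (g ^ n).1 (.inl 1) (.inl 1) = g.1 (.inl 1) (.inl 1) ^ n := fun n => by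
    induction n with
    | zero => simp
    | succ n ih =>
      rw [pow_succ, Submonoid.coe_mul]
      simp only [Matrix.mul_apply, Fintype.sum_sum_type, Fin.sum_univ_two, h1, h2, h3, h4, h5, ih,
        pow_succ]
      simp
  obtain ⟨-, h6, h7⟩ := pw (p ^ k)
  rw [hk, ZMod.pow_card_pow] at h6 h7
  have e := SymplecticGroup.mem_iff'.1 g.2
  have f1 := congrFun (congrFun e (.inr 0)) (.inl 0)
  have f2 := congrFun (congrFun e (.inr 1)) (.inl 0)
  have f3 := congrFun (congrFun e (.inr 0)) (.inl 1)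
  have f4 := congrFun (congrFun e (.inr 1)) (.inl 1)
  have f5 := congrFun (congrFun e (.inr 0)) (.inr 1)
  simp at h6 h7
  simp [J, Matrix.mul_apply, Fintype.sum_sum_type, Fin.sum_univ_two, h1, h2, h3, h4, h5, ← h6, ← h7]
    at f1 f2 f3 f4 f5
  simp [f1, f2] at f3 f4 f5
  refine ⟨g.1 (.inl 1) (.inr 1), g.1 (.inl 0) (.inr 1), g.1 (.inl 0) (.inr 0) +
    g.1 (.inl 0) (.inl 1) * g.1 (.inl 0) (.inr 1), g.1 (.inl 0) (.inl 1), ?_⟩
  ext (i | i) (j | j) <;> fin_cases i <;> fin_cases j <;>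
    simp [spm, h1, h2, h3, h4, h5, ← h6, ← h7, f1, f2, f4]
  · rw [f4] at f5
    linear_combination -f5 + g.1 (.inl 1) (.inr 1) * f3
  · linear_combination f3

variable {G : Type*} [Group G] [Finite G] {x y c₀ c₁ c₂ : G}

theorem pow_val_add (hx : x ^ p = 1) (a b : ZMod p) : x ^ (a + b).val = x ^ a.val * x ^ b.val := by
  rw [ZMod.val_add, ← pow_eq_pow_mod _ hx, pow_add]

theorem pow_val_int (hx : x ^ p = 1) (k : ℤ) : x ^ (k : ZMod p).val = x ^ k := by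
  rw [← zpow_natCast, ZMod.val_intCast, ← zpow_eq_zpow_emod' _ hx]

theorem exists_sylow_sp (hc : Nat.card G = p ^ 4) (p0 : c₀ ^ p = 1) (p1 : c₁ ^ p = 1) (p2 : c₂ ^ p = 1)
    (py : y ^ p = 1) (h01 : Commute c₀ c₁) (h02 : Commute c₀ c₂) (h12 : Commute c₁ c₂)
    (y0 : y * c₀ * y⁻¹ = c₀ * c₁ * c₂) (y1 : y * c₁ * y⁻¹ = c₁ * c₂ * c₂) (y2 : y * c₂ * y⁻¹ = c₂)
    (gen : ∀ g, ∃ i j k l : ℤ, g = c₀ ^ i * c₁ ^ j * c₂ ^ k * y ^ l) :
    ∃ P : Sylow p (symplecticGroup (Fin 2) (ZMod p)), 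
      Nonempty (G ≃* (P : Subgroup (symplecticGroup (Fin 2) (ZMod p)))) := by
  obtain ⟨κ, hκ⟩ : ∃ κ : ZMod p → ZMod p → ZMod p → G,
    ∀ a b c, κ a b c = c₀ ^ a.val * c₁ ^ b.val * c₂ ^ c.val := ⟨_, fun _ _ _ => rfl⟩
  have add : ∀ a b c a' b' c', κ a b c * κ a' b' c' = κ (a + a') (b + b') (c + c') := fun a b c a' b' c' => by
    rw [hκ, hκ, hκ, pow_val_add p0, pow_val_add p1, pow_val_add p2,
      ((h02.symm.pow_pow _ _).mul_right (h12.symm.pow_pow _ _)).mul_mul_mul_comm,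
      (h01.symm.pow_pow _ _).mul_mul_mul_comm]
  have cj1 : ∀ a b c, y * κ a b c * y⁻¹ = κ a (b + a) (c + 2 * b + a) := fun a b c => by
    calc _ = (y * c₀ * y⁻¹) ^ a.val * (y * c₁ * y⁻¹) ^ b.val * (y * c₂ * y⁻¹) ^ c.val := by
          rw [hκ, conj_pow, conj_pow, conj_pow]; group
      _ = κ a a a * (κ 0 b b * κ 0 0 b) * κ 0 0 c := by
          rw [y0, y1, y2, (h02.mul_left h12).mul_pow, h01.mul_pow, (h12.mul_left rfl).mul_pow, h12.mul_pow]
          simp [hκ]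
      _ = _ := by rw [add, add, add]; congr 1 <;> ring
  have cjn : ∀ (n : ℕ) a b c, y ^ n * κ a b c = κ a (b + n * a) (c + 2 * n * b + n ^ 2 * a) * y ^ n :=
    fun n => by
    induction n with
    | zero => simp
    | succ n ih =>
      intro a b c
      rw [pow_succ, mul_assoc, mul_inv_eq_iff_eq_mul.1 (cj1 a b c), ← mul_assoc, ih, mul_assoc]
      congr 2 <;> push_cast <;> ring
  let θ : spU p →* G := MonoidHom.mk' (fun g => κ (g.1.1 (.inl 1) (.inr 1)) (g.1.1 (.inl 0) (.inr 1))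
    (g.1.1 (.inl 0) (.inr 0) + g.1.1 (.inl 0) (.inl 1) * g.1.1 (.inl 0) (.inr 1)) *
      y ^ (g.1.1 (.inl 0) (.inl 1)).val) (by
    rintro ⟨g, a, b, c, t, e⟩ ⟨g', a', b', c', t', e'⟩
    simp only [Subgroup.coe_mul, Submonoid.coe_mul, e, e', spm_mul]
    simp only [spm, fromBlocks_apply₁₁, fromBlocks_apply₁₂, of_apply, cons_val', cons_val_zero,
      cons_val_one, cons_val_fin_one, sub_add_cancel]
    rw [mul_assoc (κ a b c), ← mul_assoc (y ^ _), cjn, mul_assoc (κ a' _ _), ← mul_assoc (κ a b c), add,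
      pow_val_add py]
    simp)
  have sj : Function.Surjective θ := fun g => by
    obtain ⟨i, j, k, l, rfl⟩ := gen g
    refine ⟨⟨⟨_, spm_mem i j k l⟩, _, _, _, _, rfl⟩, ?_⟩
    simp [θ, spm, hκ, pow_val_int p0, pow_val_int p1, pow_val_int p2, pow_val_int py]
  have c1 : Nat.card (spU p) ≤ Nat.card G := by
    have := Nat.card_le_card_of_surjective (fun v : ZMod p × ZMod p × ZMod p × ZMod p =>
      (⟨⟨_, spm_mem v.1 v.2.1 v.2.2.1 v.2.2.2⟩, _, _, _, _, rfl⟩ : spU p)) (by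
        rintro ⟨g, a, b, c, t, e⟩
        exact ⟨(a, b, c, t), Subtype.ext (Subtype.ext e.symm)⟩)
    simp only [Nat.card_prod, Nat.card_zmod] at this
    rw [hc]; linarith
  have e := MulEquiv.ofBijective θ (sj.bijective_of_nat_card_le c1)
  refine ⟨⟨spU p, (IsPGroup.of_card hc).of_equiv e.symm, fun {Q} hQ hle => by_contra fun ne => ?_⟩,
    ⟨e.symm⟩⟩
  obtain ⟨g, hg, hg'⟩ := SetLike.exists_of_lt (lt_normalizerIn hQ (hle.lt_of_ne' ne))
  obtain ⟨k, hk⟩ := hQ ⟨g, hg.1⟩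
  exact hg' (mem_spU_of_normalizer hg.2 (congrArg Subtype.val hk))

theorem NE.sylow_sp {F : FusionSystem (⊤ : Subgroup G)} {A B : Subgroup G} (h : NE F p A)
    (t : SP F p A B) (hp2 : p ≠ 2) : ∃ P : Sylow p (symplecticGroup (Fin 2) (ZMod p)),
      Nonempty (G ≃* (P : Subgroup (symplecticGroup (Fin 2) (ZMod p)))) := by
  haveI := h.normal
  have hG := h.pg
  obtain ⟨y, -, hy, py⟩ := t.ex
  have el := elem_mono h.uO_elem t.le
  have fx : ∀ x ∈ A, ⁅y, x⁆ = 1 → x ∈ zO p G := fun x hx => h.uO_zO (t.le hx) hy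
  have ZX : zO p G ≤ cfix A (zO p G) y := fun z hz => mem_cfix'.2 ⟨h.zO_le hz, comm_mem_left _ hz y⟩
  have cX : ∀ x ∈ cfix A (zO p G) y, ∀ g, ⁅g, x⁆ ∈ zO p G := fun x hx => h.comm_all
    (fun e he => elem_comm el he hx.1 ▸ one_mem _) hy (comm_mem_symm hx.2.2)
  haveI : (cfix A (zO p G) y).Normal := normal_of_comm_mem fun x hx g => ZX (comm_mem_symm (cX x hx g))
  have i1 := relIndex_commMod_le (S := cfix A (zO p G) y) (normal_le_normalizer ⊥ _) (nle _ y)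
    fun m hm => hm.2.2
  rw [relIndex_bot_left, t.cardZ] at i1
  have c1 := (card_le_of_relIndex i1).trans (Nat.mul_le_mul_left p (card_le_of_le
    fun x hx => fx x hx.1.1 (comm_one_symm hx.2.2)))
  have c2 := mul_card_le_of_lt hG (ZX.lt_of_not_ge fun e => by
    obtain ⟨x, x1, x2, -, x3⟩ := Fus.exists_central_mod hG le_top (normal_le_normalizer (zO p G) _)
      (normal_le_normalizer A _) fun e => by
        have := card_le_of_le e
        rw [t.card, t.cardZ] at this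
        nlinarith [hp.out.two_le, mul_pos hp.out.pos hp.out.pos]
    exact x2 (e (mem_cfix'.2 ⟨x1, comm_mem_of_conj (nle _ _) (x3 y trivial)⟩))) le_top
  have c3 : Nat.card A ≤ p * Nat.card (cfix A (zO p G) y) := by rw [t.card]; rw [t.cardZ] at c2; nlinarith
  obtain ⟨a, ha, ha'⟩ : ∃ a ∈ A, a ∉ cfix A (zO p G) y := SetLike.not_le_iff_exists.1 fun e => by
    have := (card_le_of_le e).trans c1
    rw [t.card, t.cardZ] at this
    nlinarith [hp.out.two_le, mul_pos hp.out.pos hp.out.pos]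
  have b1 := comm_mem_symm (comm_mem_of_card hG (cfix_le _ _ _) c3 ha y)
  have b2 : ⁅y, a⁆ ∉ zO p G := fun e => ha' (mem_cfix'.2 ⟨ha, comm_mem_symm e⟩)
  have b3 : y * a * y⁻¹ = ⁅y, a⁆ * a := by simp [commutatorElement_def]
  generalize ⁅y, a⁆ = b at b1 b2 b3
  have z1 := cX b b1 y
  have z2 : ⁅y, b⁆ ≠ 1 := fun e => b2 (fx b b1.1 e)
  have z3 : y * b * y⁻¹ = ⁅y, b⁆ * b := by simp [commutatorElement_def]
  obtain ⟨d, hd⟩ := exists_half hp2
  have z4 : ⁅y, b⁆ = ⁅y, b⁆ ^ d * ⁅y, b⁆ ^ d := by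
    rw [← _root_.zpow_add, ← two_mul, zpow_eq_zpow_emod' _ (mem_zO.1 z1).2, hd,
      ← zpow_eq_zpow_emod' _ (mem_zO.1 z1).2, _root_.zpow_one]
  have z5 := Subgroup.zpow_mem _ z1 d
  have z6 : ⁅y, b⁆ ^ d ≠ 1 := fun e => z2 (by rw [z4, e, one_mul])
  rw [z4] at z3
  generalize ⁅y, b⁆ ^ d = z at z3 z5 z6
  have cz : ∀ g, Commute g z := fun g => comm_one_iff.1 ((mem_zO.1 z5).1 g)
  have b4 := Subgroup.mul_mem _ b1 (ZX (Subgroup.inv_mem _ z5))
  have ab : Commute a (b * z⁻¹) := comm_one_iff.1 (elem_comm el ha b4.1)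
  have e1 := eq_of_card_prime (zpowers_le.2 z5) t.cardZ (zpowers_ne_bot.2 z6)
  have e2 := eq_sup_of_card hG ZX le_top c1 b4 fun e =>
    b2 ((Subgroup.mul_mem_cancel_right _ (Subgroup.inv_mem _ z5)).1 e)
  have e3 := eq_sup_of_card hG (cfix_le _ _ _) le_top c3 ha ha'
  refine exists_sylow_sp (by rw [← Subgroup.card_top, h.card_top, t.card, ← pow_succ']) (el.2 a ha) (el.2 _ b4.1)
    (mem_zO.1 z5).2 py ab (cz a) (cz _) ?_ ?_ (by rw [(cz y).eq, mul_inv_cancel_right]) fun g => ?_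
  · rw [b3, mul_assoc, inv_mul_cancel_right, comm_one_iff.1 (elem_comm el ha b1.1)]
  · calc _ = y * b * y⁻¹ * (y * z * y⁻¹)⁻¹ := by group
      _ = _ := by
        rw [z3, (cz y).eq, mul_inv_cancel_right, ← ((cz b).mul_right (cz b)).eq]; group
  obtain ⟨x, hx, l, rfl⟩ := (mem_sup_zpowers (nle A y)).1 (h.sup_top hy g)
  obtain ⟨x₁, hx₁, i, rfl⟩ := (mem_sup_zpowers (nle _ a)).1 (e3.ge hx)
  obtain ⟨x₂, hx₂, j, rfl⟩ := (mem_sup_zpowers (nle _ _)).1 (e2.ge hx₁)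
  obtain ⟨k, rfl⟩ := e1.ge hx₂
  refine ⟨i, j, k, l, ?_⟩
  rw [mul_assoc (z ^ k), ← ((cz _).zpow_right k).eq, (ab.zpow_zpow i j).eq]

end Cfsg.Agent.H1
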