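import Cfsg.Agent.H1.QuadPair2
import Cfsg.Agent.H1.QdFree
import Cfsg.Agent.H1.Rank2
import Cfsg.Agent.H9.Fit

/-!
# `p`-stability passes to central quotients for `p ≥ 5`
-/

set_option autoImplicit false
set_option linter.unusedSectionVars false

namespace Cfsg.Agent.H1

open Equiv Cfsg.Fus Cfsg.FusionSystem Subgroup
open scoped commutatorElement

section Grp

variable {Γ Q : Type*} [Group Γ] [Group Q] {p : ℕ} [hp : Fact p.Prime]

/-- Restriction of an action to an invariant subgroup. -/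
def resAct (ρ : Γ →* MulAut Q) (H : Subgroup Q) (h : ∀ g, ∀ a ∈ H, ρ g a ∈ H) : Γ →* MulAut H where
  toFun g :=
    { toFun := fun a => ⟨ρ g a, h g a a.2⟩
      invFun := fun a => ⟨ρ g⁻¹ a, h _ a a.2⟩
      left_inv := fun a => Subtype.ext (by simp)
      right_inv := fun a => Subtype.ext (by simp)
      map_mul' := fun a b => Subtype.ext (map_mul _ _ _) }
  map_one' := by ext; simp
  map_mul' g g' := by ext; simp

/-- The action on the quotient by an invariant normal subgroup. -/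
def quoAct (ρ : Γ →* MulAut Q) (H : Subgroup Q) [H.Normal] (h : ∀ g, ∀ a ∈ H, ρ g a ∈ H) :
    Γ →* MulAut (Q ⧸ H) where
  toFun g := QuotientGroup.congr _ _ (ρ g) (by
    ext x
    refine mem_map_equiv.trans ⟨fun hx => by simpa using h g _ hx, fun hx => ?_⟩
    simpa using h g⁻¹ _ hx)
  map_one' := by ext x; induction x using QuotientGroup.induction_on; simp
  map_mul' φ ψ := by ext x; induction x using QuotientGroup.induction_on; simp

theorem eq_one_of_pow_of_dvd (hp5 : 5 ≤ p) {x : Γ} {k m : ℕ} (h1 : x ^ p ^ k = 1) (h2 : x ^ m = 1)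
    (hm : m ∣ 72) : x = 1 := by
  have h3 : ¬ p ∣ m := fun e => not_dvd_small hp5 (k := m) (Int.natCast_dvd_natCast.2 hm)
    (Int.natCast_dvd_natCast.2 e)
  simpa [((hp.out.coprime_iff_not_dvd.2 h3).pow_left k).gcd_eq_one] using pow_gcd_eq_one.2 ⟨h1, h2⟩

theorem pow_eq_self_of_sq (hp5 : 5 ≤ p) {x : Γ} (h : x ^ 2 = 1) (k : ℕ) : x ^ p ^ k = x := by
  obtain ⟨m, hm⟩ := (hp.out.odd_of_ne_two (by omega)).pow (n := k)
  rw [hm, pow_succ, pow_mul, h, one_pow, one_mul]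

theorem braid_mem {M : Subgroup Γ} [M.Normal] {c e : Γ} (h : (c * e * c)⁻¹ * (e * c * e) ∈ M)
    (hc : c ∈ M) : c * e * c ∈ M := by
  rw [← QuotientGroup.eq] at h
  rw [← QuotientGroup.eq_one_iff] at hc ⊢
  simp only [QuotientGroup.mk_mul, hc, one_mul, mul_one, left_eq_mul] at h ⊢
  exact h

theorem braid_mem' (hp5 : 5 ≤ p) {M : Subgroup Γ} [M.Normal] (hM : ∀ g, ∃ k : ℕ, g ^ p ^ k ∈ M)
    {c e : Γ} (h : (c * e * c)⁻¹ * (e * c * e) ∈ M) (h4 : (c * e * c) ^ 4 ∈ M) : c ∈ M := by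
  have h1 : ∀ (g : Γ) (m : ℕ), g ^ m ∈ M → m ∣ 72 → (g : Γ ⧸ M) = 1 := fun g m hg hm => by
    obtain ⟨k, hk⟩ := hM g
    exact eq_one_of_pow_of_dvd hp5 ((QuotientGroup.eq_one_iff _).2 hk)
      ((QuotientGroup.eq_one_iff _).2 hg) hm
  have h2 := h1 _ 4 h4 (by norm_num)
  have h3 := h1 (c * e) 3 (by
    rw [← QuotientGroup.eq_one_iff, show (c * e) ^ 3 = c * e * c * (e * c * e) by
      simp [pow_succ, mul_assoc], QuotientGroup.mk_mul, ← QuotientGroup.eq.2 h, h2, one_mul])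
    (by norm_num)
  rwa [QuotientGroup.mk_mul, h3, one_mul, QuotientGroup.eq_one_iff] at h2

theorem quad_of_comm_inv (hp5 : 5 ≤ p) (hQ : IsPGroup p Q) {H : Subgroup Q} (hH : H ≤ center Q)
    (hc : ∀ a b : Q, ⁅a, b⁆ ∈ H) {c t : MulAut Q} (hct : t * c = c * t) (h1 : ∀ a ∈ H, c a = a)
    (h2 : ∀ a ∈ H, t a = a) (h3 : ∀ a, a * t a ∈ H)
    (h4 : ∀ a, (a⁻¹ * c a)⁻¹ * c (a⁻¹ * c a) ∈ H) (a : Q) : c (a⁻¹ * c a) = a⁻¹ * c a := by
  let f : Q → Q := fun a => (a⁻¹ * c a)⁻¹ * c (a⁻¹ * c a)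
  have z : ∀ b ∈ H, ∀ a, b * a = a * b := fun b hb a => (mem_center_iff.1 (hH hb) a).symm
  have g1 : ∀ a, ∀ b ∈ H, (a * b)⁻¹ * c (a * b) = a⁻¹ * c (a * b) * b⁻¹ := fun a b hb => by
    rw [mul_inv_rev, mul_assoc, z _ (inv_mem hb)]
  have f1 : ∀ a, ∀ b ∈ H, f (a * b) = f a := fun a b hb => by
    simp only [f]
    rw [g1 a b hb, map_mul c a, h1 b hb, ← mul_assoc, mul_inv_cancel_right]
  have f2 : f (t a) = f a := by
    have e : ∀ b, c (t b) = t (c b) := fun b => (DFunLike.congr_fun hct b).symm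
    simp only [f, e, ← map_inv t, ← map_mul t]
    exact h2 _ (h4 a)
  have f3 : f a⁻¹ = (f a)⁻¹ := by
    have e : a⁻¹⁻¹ * c a⁻¹ = (a⁻¹ * c a)⁻¹ * ⁅a⁻¹ * c a, a⁆ := by
      simp [commutatorElement_def, mul_assoc]
    have e2 : c (a⁻¹ * c a) = a⁻¹ * c a * f a := (mul_inv_cancel_left _ _).symm
    simp only [f] at e2 ⊢
    rw [e, g1 _ _ (hc _ _), map_mul c (_⁻¹), h1 _ (hc _ _), map_inv c (_ * _), e2, mul_inv_rev (_ * _),
      z _ (inv_mem (h4 a))]
    group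
  rw [← inv_mul_cancel_left a (t a), f1 _ _ (h3 a), f3, inv_eq_iff_mul_eq_one, ← pow_two] at f2
  obtain ⟨k, hk⟩ := hQ (f a)
  exact (inv_mul_eq_one.1 (eq_one_of_pow_of_dvd hp5 hk f2 (by norm_num))).symm

open scoped IsMulCommutative in
theorem stabM_step [Finite Γ] [Finite Q] (hp5 : 5 ≤ p) (hQ : IsPGroup p Q) {x y : Γ}
    (hxy : closure {x, y} = ⊤) (ρ : Γ →* MulAut Q) {Z : Subgroup Q} (hZ : Z ≤ center Q)
    (hfix : ∀ g, ∀ z ∈ Z, ρ g z = z) (hx : ∀ a, (a⁻¹ * ρ x a)⁻¹ * ρ x (a⁻¹ * ρ x a) ∈ Z)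
    (hy : ∀ a, (a⁻¹ * ρ y a)⁻¹ * ρ y (a⁻¹ * ρ y a) ∈ Z)
    (hst : ∀ c, (∀ a, ρ c (a⁻¹ * ρ c a) = a⁻¹ * ρ c a) →
      ∀ g ∈ normalClosure {c}, ∃ k : ℕ, ρ (g ^ p ^ k) = 1)
    (ih : ∀ K : Subgroup Q, (∀ g, ∀ a ∈ K, ρ g a ∈ K) → Z ≤ K → K ≠ ⊤ →
      ∀ g, ∃ k : ℕ, ∀ a ∈ K, ρ (g ^ p ^ k) a = a) (g : Γ) : ∃ k : ℕ, ρ (g ^ p ^ k) = 1 := by
  by_cases h0 : Z ⊔ frattini Q = ⊤
  · exact ⟨0, MulEquiv.ext fun a => hfix _ a (eq_top_of_sup_le_frattini le_rfl h0 ▸ mem_top a)⟩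
  obtain ⟨H, ⟨hi, hle, hne⟩, hmax⟩ := Set.Finite.exists_maximal (Set.toFinite
    {K : Subgroup Q | (∀ g, ∀ a ∈ K, ρ g a ∈ K) ∧ Z ⊔ frattini Q ≤ K ∧ K ≠ ⊤})
    ⟨Z ⊔ frattini Q, fun g => H8.inv_sup (A := ρ.range) (by
      rintro _ ⟨g, rfl⟩ z hz; exact (hfix g z hz).symm ▸ hz) (H8.char_inv _) _ ⟨g, rfl⟩, le_rfl, h0⟩
  have hΦ := le_sup_right.trans hle
  have hcH := (commutator_le_frattini_of_isPGroup hQ).trans hΦ
  haveI : H.Normal := Normal.of_commutator_le _ hcH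
  haveI : IsMulCommutative (Q ⧸ H) := Normal.quotient_commutative_iff_commutator_le.2 hcH
  set act := quoAct ρ H hi
  have ha : ∀ g (a : Q), act g a = (ρ g a : Q) := fun _ _ => rfl
  have hN : ∀ g, g ∈ (resAct ρ H hi).ker ↔ ∀ a ∈ H, ρ g a = a := fun g =>
    ⟨fun h a ha => congrArg Subtype.val (DFunLike.congr_fun h (⟨a, ha⟩ : H)),
      fun h => MulEquiv.ext fun a => Subtype.ext (h a a.2)⟩
  set N := (resAct ρ H hi).ker
  have hNp : ∀ g, ∃ k : ℕ, g ^ p ^ k ∈ N := fun g =>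
    (ih H hi (le_sup_left.trans hle) hne g).imp fun k => (hN _).2
  have hNK : ∀ g ∈ N ⊓ act.ker, ∃ k : ℕ, ρ g ^ p ^ k = 1 := fun g hg =>
    aut_pow_eq_one_of_sub_quot _ H (hQ.to_subgroup H) ((hN g).1 hg.1) fun a =>
      QuotientGroup.eq.1 (DFunLike.congr_fun hg.2 (a : Q ⧸ H)).symm
  have hq : ∀ s, (∀ a, (a⁻¹ * ρ s a)⁻¹ * ρ s (a⁻¹ * ρ s a) ∈ Z) → ∀ v, (autEnd _).comp act s
      ((autEnd _).comp act s v - v) = (autEnd _).comp act s v - v := fun s h v => by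
    obtain ⟨a, rfl⟩ : ∃ a : Q, Additive.ofMul (a : Q ⧸ H) = v :=
      QuotientGroup.mk_surjective (Additive.toMul v)
    rw [sub_eq_neg_add]
    exact congrArg Additive.ofMul (QuotientGroup.eq.2 (hle (mem_sup_left (h a)))).symm
  rcases exists_rel_of_quadratic (p := p) (by omega) (fun v => by
      obtain ⟨a, rfl⟩ : ∃ a : Q, Additive.ofMul (a : Q ⧸ H) = v :=
        QuotientGroup.mk_surjective (Additive.toMul v)
      exact congrArg Additive.ofMul ((QuotientGroup.eq_one_iff (a ^ p)).2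
        (hΦ (pow_mem_frattini hQ a)))) ((autEnd _).comp act) (hq x hx) (hq y hy) with
      h | ⟨c, d, U, hU, h⟩
  · obtain ⟨k, hk⟩ := h g (hxy ▸ mem_top g)
    obtain ⟨l, hl⟩ := hNp (g ^ p ^ k)
    obtain ⟨m, hm⟩ := hNK _ ⟨hl, pow_mem (show g ^ p ^ k ∈ act.ker from
      autEnd_injective _ (hk.trans (map_one _).symm)) _⟩
    exact ⟨k + l + m, by rw [pow_add, pow_add, pow_mul, pow_mul, map_pow, hm]⟩
  exfalso
  have hU' : ∀ v, Additive.ofMul v ∈ U := by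
    let U' := (AddSubgroup.toSubgroup U : Subgroup (Multiplicative (Additive (Q ⧸ H)))).comap
      (QuotientGroup.mk' H)
    have h1 : H ≤ U' := fun a ha => by
      change Additive.ofMul (a : Q ⧸ H) ∈ U
      rw [(QuotientGroup.eq_one_iff a).2 ha]; exact U.zero_mem
    have h2 : U' = ⊤ := by
      by_contra h2
      refine hU (eq_bot_iff.2 fun v hv => ?_)
      obtain ⟨a, rfl⟩ : ∃ a : Q, Additive.ofMul (a : Q ⧸ H) = v :=
        QuotientGroup.mk_surjective (Additive.toMul v)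
      refine congrArg Additive.ofMul ((QuotientGroup.eq_one_iff a).2
        (hmax (y := U') ⟨fun g => ?_, hle.trans h1, h2⟩ h1 hv))
      induction (hxy ▸ mem_top g : g ∈ closure {x, y}) using closure_induction with
      | mem g hg => rcases hg with rfl | rfl; exacts [fun a ha => (h _ ha).1, fun a ha => (h _ ha).2.1]
      | one => simp
      | mul g g' _ _ h h' => exact fun a ha => map_mul ρ g g' ▸ h _ (h' a ha)
      | inv g _ h =>
        rw [inv_eq_of_mul_eq_one_right (mul_pow_sub_one (orderOf_pos g).ne' g |>.trans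
          (pow_orderOf_eq_one g))]
        induction orderOf g - 1 with
        | zero => simp
        | succ n ih => exact fun a ha => pow_succ g n ▸ map_mul ρ _ g ▸ ih _ (h a ha)
    intro v
    obtain ⟨a, rfl⟩ := QuotientGroup.mk_surjective v
    exact (h2 ▸ mem_top a : a ∈ U')
  have r1 : ∀ v, act c (v⁻¹ * act c v) = v⁻¹ * act c v := fun v => by
    have := (h _ (hU' v)).2.2.1
    rw [sub_eq_neg_add] at this
    exact this
  have r2 : ∀ v, act ((c * d⁻¹ * c) ^ 2) v = v⁻¹ := fun v => (h _ (hU' v)).2.2.2.1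
  have r3 : (c * d⁻¹ * c)⁻¹ * (d⁻¹ * c * d⁻¹) ∈ act.ker := by
    rw [MonoidHom.mem_ker, map_mul, map_inv, inv_mul_eq_one]
    exact MulEquiv.ext fun v => (h _ (hU' v)).2.2.2.2
  have sq : ∀ s, (∀ v, act s v = v⁻¹) → act s ^ 2 = 1 := fun s h =>
    MulEquiv.ext fun v => by simp [pow_two, h]
  have nt : ∀ s, (∀ v, act s v = v⁻¹) → act s ≠ 1 := fun s h e => hne (eq_top_iff.2 fun a _ => by
    obtain ⟨k, hk⟩ := hQ.to_quotient H a
    refine (QuotientGroup.eq_one_iff a).1 (eq_one_of_pow_of_dvd hp5 hk (m := 2) ?_ (by norm_num))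
    rw [pow_two, mul_eq_one_iff_eq_inv, ← h, e]; rfl)
  have hc : c ∈ N ⊔ act.ker := braid_mem' hp5 (fun g => (hNp g).imp fun k h => mem_sup_left h)
    (mem_sup_right r3) (mem_sup_right (by
      rw [MonoidHom.mem_ker, show 4 = 2 * 2 from rfl, pow_mul, map_pow, sq _ r2]))
  have dec : ∀ (M : Subgroup Γ), ∀ s ∈ M ⊔ act.ker, ∃ n ∈ M, act n = act s := fun M s hs => by
    obtain ⟨n, hn, k, hk, rfl⟩ := mem_sup_of_normal_right.1 hs
    exact ⟨n, hn, by rw [map_mul, MonoidHom.mem_ker.1 hk, mul_one]⟩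
  obtain ⟨n, hn, hnc⟩ := dec N c hc
  obtain ⟨t₀, ht₀, e₀⟩ := dec N _ (pow_mem (braid_mem (mem_sup_right r3) hc) 2)
  obtain ⟨l, hl⟩ := hNK (t₀ ^ 2) ⟨pow_mem ht₀ 2, MonoidHom.mem_ker.2 (by
    rw [map_pow, e₀, sq _ r2])⟩
  have t1 : ∀ v, act (t₀ ^ p ^ l) v = v⁻¹ := by
    rw [map_pow, e₀, pow_eq_self_of_sq hp5 (sq _ r2)]; exact r2
  have t2 : ρ (t₀ ^ p ^ l) ^ 2 = 1 := by rw [← hl, map_pow, map_pow, ← pow_mul, ← pow_mul, mul_comm]
  have t3 := pow_mem ht₀ (p ^ l)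
  generalize t₀ ^ p ^ l = t at t1 t2 t3
  have hH : H ≤ center Q := by
    have hC : centralizer (H : Set Q) = ⊤ := by
      by_contra hC
      obtain ⟨k, hk⟩ := ih (centralizer (H : Set Q)) (fun g a ha b hb => by
        simpa using congrArg (ρ g) (ha _ (hi g⁻¹ b hb))) (hZ.trans (center_le_centralizer _)) hC t
      rw [map_pow, pow_eq_self_of_sq hp5 t2] at hk
      refine nt t t1 (MulEquiv.ext fun v => ?_)
      obtain ⟨a, rfl⟩ := QuotientGroup.mk_surjective v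
      have h1 := hk (a⁻¹ * ρ t a) fun b hb => by
        have := (hN t).1 t3 _ (Normal.conj_mem inferInstance b hb a)
        rw [map_mul, map_mul, map_inv, (hN t).1 t3 b hb] at this
        calc b * (a⁻¹ * ρ t a) = a⁻¹ * (a * b * a⁻¹) * ρ t a := by group
          _ = _ := by rw [← this]; group
      obtain ⟨k, hk⟩ := hQ (a⁻¹ * ρ t a)
      rw [map_mul, map_inv, ← MulAut.mul_apply, ← pow_two, t2, MulAut.one_apply] at h1
      rw [ha, ← inv_mul_eq_one.1 (eq_one_of_pow_of_dvd hp5 hk (m := 2)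
        (by rw [pow_two]; nth_rw 1 [← h1]; group) (by norm_num))]
      rfl
    exact fun a ha => mem_center_iff.2 fun b => ((hC ▸ mem_top b : b ∈ centralizer _) a ha).symm
  haveI := finite_mulAut Q
  obtain ⟨_, ⟨m, hm, e⟩, h5⟩ := H8.exists_fixed_in_coset (q := 2) (k := 1)
    (α := MulAut.conj (ρ t)) (by rw [pow_one, ← map_pow, t2, map_one]) (L := (N ⊓ act.ker).map ρ)
    (fun h => by
      obtain ⟨j, hj⟩ := IsPGroup.iff_card.1 (show IsPGroup p ((N ⊓ act.ker).map ρ) by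
        rintro ⟨_, s, hs, rfl⟩
        exact (hNK s hs).imp fun k hk => Subtype.ext hk)
      have := (Nat.prime_dvd_prime_iff_eq Nat.prime_two hp.out).1
        (Nat.prime_two.dvd_of_dvd_pow (hj ▸ h))
      omega)
    (by rintro _ ⟨s, hs, rfl⟩; exact ⟨_, Normal.conj_mem inferInstance s hs t, by simp⟩)
    (x := ρ n) ⟨n⁻¹ * (t * n * t⁻¹), ⟨N.mul_mem (N.inv_mem hn) (Normal.conj_mem inferInstance n hn t),
      MonoidHom.mem_ker.2 (by
      rw [map_mul, map_inv, inv_mul_eq_one, map_mul, map_inv, eq_mul_inv_iff_mul_eq, map_mul]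
      exact MulEquiv.ext fun v => by simp [t1])⟩, by simp⟩
  rw [eq_inv_mul_iff_mul_eq, ← map_mul] at e
  subst e
  have h6 : act (n * m) = act c := by rw [map_mul, MonoidHom.mem_ker.1 hm.2, mul_one, hnc]
  have h7 := hst (n * m) (quad_of_comm_inv hp5 hQ hH (fun a b => hcH (commutator_mem_commutator
    trivial trivial)) (mul_inv_eq_iff_eq_mul.1 h5) ((hN _).1 (mul_mem hn hm.1)) ((hN _).1 t3)
    (fun a => by simpa using QuotientGroup.eq.1 (t1 a).symm)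
    fun a => QuotientGroup.eq.1 (h6 ▸ r1 a : act (n * m) _ = _ * act (n * m) a).symm)
  obtain ⟨s, hs, e⟩ := dec (normalClosure {n * m}) _ (pow_mem (braid_mem
    (M := normalClosure {n * m} ⊔ act.ker) (mem_sup_right r3) ((mul_mem_cancel_left
    (Subgroup.inv_mem _ (mem_sup_left (subset_normalClosure (Set.mem_singleton _))))).1 (mem_sup_right
      (by rw [MonoidHom.mem_ker, map_mul, map_inv, h6, inv_mul_cancel])))) 2)
  obtain ⟨k, hk⟩ := h7 s hs
  refine nt _ r2 ?_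
  rw [← pow_eq_self_of_sq hp5 (sq _ r2) k, ← e, ← map_pow]
  exact MulEquiv.ext fun v => by
    obtain ⟨a, rfl⟩ := QuotientGroup.mk_surjective v
    rw [ha, hk]; rfl

theorem stabM [Finite Γ] [Finite Q] (hp5 : 5 ≤ p) (hQ : IsPGroup p Q) {x y : Γ}
    (hxy : closure {x, y} = ⊤) (ρ : Γ →* MulAut Q) {Z : Subgroup Q} (hZ : Z ≤ center Q)
    (hfix : ∀ g, ∀ z ∈ Z, ρ g z = z) (hx : ∀ a, (a⁻¹ * ρ x a)⁻¹ * ρ x (a⁻¹ * ρ x a) ∈ Z)
    (hy : ∀ a, (a⁻¹ * ρ y a)⁻¹ * ρ y (a⁻¹ * ρ y a) ∈ Z)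
    (hst : ∀ H : Subgroup Q, (∀ g, ∀ a ∈ H, ρ g a ∈ H) → ∀ c,
      (∀ a ∈ H, ρ c (a⁻¹ * ρ c a) = a⁻¹ * ρ c a) →
      ∀ g ∈ normalClosure {c}, ∃ k : ℕ, ∀ a ∈ H, ρ (g ^ p ^ k) a = a)
    (H : Subgroup Q) (hi : ∀ g, ∀ a ∈ H, ρ g a ∈ H) (hH : Z ≤ H) (g : Γ) :
    ∃ k : ℕ, ∀ a ∈ H, ρ (g ^ p ^ k) a = a := by
  induction H using (wellFounded_lt (α := Subgroup Q)).induction generalizing g with
  | _ H ih =>
  obtain ⟨k, hk⟩ := stabM_step hp5 (hQ.to_subgroup H) hxy (resAct ρ H hi) (Z := Z.subgroupOf H)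
    (fun z hz => mem_center_iff.2 fun w => Subtype.ext (mem_center_iff.1 (hZ hz) w))
    (fun g z hz => Subtype.ext (hfix g z hz)) (fun a => hx a) (fun a => hy a)
    (fun c hc g hg => (hst H hi c (fun a ha => congrArg Subtype.val (hc ⟨a, ha⟩)) g hg).imp
      fun k hk => MulEquiv.ext fun a => Subtype.ext (hk a a.2))
    (fun K h1 h2 h3 g => (ih (K.map H.subtype) (lt_of_le_of_ne (map_subtype_le K) fun e => h3
      (map_injective H.subtype_injective (e.trans H.range_subtype.symm |>.trans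
        (MonoidHom.range_eq_map _))))
      (by rintro g _ ⟨a, ha, rfl⟩; exact ⟨_, h1 g a ha, rfl⟩)
      (fun z hz => ⟨⟨z, hH hz⟩, h2 hz, rfl⟩) g).imp fun k hk a ha => Subtype.ext (hk a ⟨a, ha, rfl⟩)) g
  exact ⟨k, fun a ha => congrArg Subtype.val (DFunLike.congr_fun hk (⟨a, ha⟩ : H))⟩

end Grp

variable {Ω : Type*} [Group Ω] {S R Z : Subgroup Ω} [Finite S] {F : FusionSystem S} {p : ℕ}
  [hp : Fact p.Prime] {σ : Perm Ω}

theorem PStable.mem_of_central (h : PStable F p) (hS : IsPGroup p S) (hp5 : 5 ≤ p)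
    (hZ : F.IsCentral Z) (hZR : Z ≤ R) (hσ : F.Iso R R σ)
    (hq : ∀ a ∈ R, (a⁻¹ * σ a)⁻¹ * σ (a⁻¹ * σ a) ∈ Z) : σ ∈ F.opStab p R := by
  have hR := hσ.le_left
  haveI := finite_of_le hR
  haveI := finite_mulAut R
  have he : ∀ x : R, ((resAut R σ x : R) : Ω) = σ x := resAut_apply hσ.mem_autStab
  let χ : F.autGroup R := ⟨resAut R σ, hσ.resAut_mem⟩
  refine mem_of_congr (F.fixP_le_opStab p R) (mem_opStab_iff.2 ⟨χ, H2.baer_mem_pCore fun g => ?_, rfl⟩)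
    fun x hx => (extAut_resAut hσ.mem_autStab hx).symm
  set Γ := (closure {χ, g * χ * g⁻¹} : Subgroup (F.autGroup R))
  have ext : ∀ α : F.autGroup R, F.Iso R R (extAut R α) := fun α => (mem_autGroup_iff hR).1 α.2
  have hfix : ∀ α : F.autGroup R, ∀ z ∈ Z.subgroupOf R, α.1 z = z := fun α z hz =>
    Subtype.ext ((extAut_coe _ z).symm.trans (hZ.apply_eq (ext α).isMap z.2 hz))
  have hq' : ∀ a : R, (a⁻¹ * χ.1 a)⁻¹ * χ.1 (a⁻¹ * χ.1 a) ∈ Z.subgroupOf R := fun a => by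
    simpa only [mem_subgroupOf, coe_mul, coe_inv, χ, he] using hq a a.2
  intro s
  refine (stabM hp5 (isPGroup_of_le hS hR) (Γ := Γ)
    (x := ⟨χ, subset_closure (by simp)⟩) (y := ⟨g * χ * g⁻¹, subset_closure (by simp)⟩)
    (map_injective Γ.subtype_injective (by
      rw [MonoidHom.map_closure, Set.image_pair, ← MonoidHom.range_eq_map, range_subtype]; rfl))
    ((F.autGroup R).subtype.comp Γ.subtype) (Z := Z.subgroupOf R)
    (fun z hz => mem_center_iff.2 fun w => Subtype.ext (hZ.le_centralizer hz w (hR w.2)))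
    (fun α => hfix α) hq' (fun a => by
      have := hq' (g.1⁻¹ a)
      rw [← hfix g _ this] at this
      simpa using this)
    (fun H hi c hc => ?_) ⊤ (fun _ _ _ => trivial) le_top s).imp
    fun k hk => Subtype.ext (Subtype.ext (MulEquiv.ext fun a => hk a trivial))
  have hH := (map_subtype_le H).trans hR
  have ext' : ∀ α : Γ, F.Iso (H.map R.subtype) (H.map R.subtype) (extAut R α.1) := fun α =>
    ((ext α).isMap.mono (map_subtype_le H)).iso_self (by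
      rintro _ ⟨a, ha, rfl⟩; exact ⟨_, hi α a ha, (extAut_coe _ a).symm⟩)
  let f := (extAut R).comp ((F.autGroup R).subtype.comp Γ.subtype)
  haveI : ((F.opStab p (H.map R.subtype)).comap f).Normal := ⟨fun n hn α => by
    rw [mem_comap, map_mul, map_mul, map_inv]; exact (ext' α).conj_mem_opStab hn⟩
  intro s hs
  obtain ⟨k, hk⟩ := F.isPMod_opStab p _ _ (normalClosure_le_normal
    (N := (F.opStab p (H.map R.subtype)).comap f) (Set.singleton_subset_iff.2 (h.mem (ext' c) (by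
      rintro _ ⟨a, ha, rfl⟩
      change extAut R c.1.1 ((a : Ω)⁻¹ * extAut R c.1.1 a) = (a : Ω)⁻¹ * extAut R c.1.1 a
      rw [extAut_coe, ← coe_inv, ← coe_mul, extAut_coe]
      exact congrArg Subtype.val (hc a ha)))) hs)
  refine ⟨k, fun a ha => Subtype.ext ?_⟩
  rw [← map_pow] at hk
  exact (extAut_coe _ a).symm.trans (hk a ⟨a, ha, rfl⟩)

theorem PStable.factor {Ω' : Type*} [Group Ω'] {S' : Subgroup Ω'} {D : FusionSystem S'}
    {θ : S →* Ω'} (h : PStable F p) (hS : IsPGroup p S) (hp5 : 5 ≤ p) (hZ : F.IsCentral Z)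
    (hD : F.IsFactorSystem Z θ D) : PStable D p := by
  intro Q σ' _ hσ' hq
  have hQ := hσ'.le_left
  have hw := hZ.isNormal.stronglyClosed.weaklyClosed
  have hR := preimageAlong_le θ Q
  have hθ := homOn_extFun θ
  let U : Subgroup (Perm Ω') :=
    { carrier := {τ' | D.Iso Q Q τ' ∧ ∃ τ ∈ F.opStab p (preimageAlong θ Q),
        ∀ x ∈ preimageAlong θ Q, τ' (extFun θ x) = extFun θ (τ x)}
      one_mem' := ⟨D.iso_one hQ, 1, one_mem _, fun _ _ => rfl⟩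
      mul_mem' := by
        rintro a b ⟨h1, c, h2, h3⟩ ⟨h4, d, h5, h6⟩
        exact ⟨h4.trans h1, c * d, mul_mem h2 h5, ind_mul9 h6 h3 fun x hx =>
          ((mem_stab hR).1 (F.opStab_le_stab p _ h5)).mem hx⟩
      inv_mem' := by
        rintro a ⟨h1, c, h2, h3⟩
        exact ⟨h1.symm, c⁻¹, Subgroup.inv_mem _ h2,
          ind_inv9 ((mem_stab hR).1 (F.opStab_le_stab p _ h2)) h3⟩ }
  obtain ⟨σ, h1, h2⟩ := hD.exists_lift_iso hw hσ'
  refine le_opStab hQ (U := U) (fun τ hτ => hτ.1.mem_stab) ?_ ?_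
    ⟨hσ', σ, h.mem_of_central hS hp5 hZ (hD.le_pre Q) h1 fun a ha => ?_, h2⟩
  · rintro τ' hτ'
    obtain ⟨-, τ, h3, h4⟩ := id hτ'
    obtain ⟨k, hk⟩ := F.isPMod_opStab p _ _ h3
    refine ⟨k, fun y hy => ?_⟩
    obtain ⟨x, hx, rfl⟩ := exists_extFun_eq (hD.range_eq ▸ hQ) hy
    have : ∀ n : ℕ, ∀ x ∈ preimageAlong θ Q, (τ' ^ n) (extFun θ x) = extFun θ ((τ ^ n) x) :=
      fun n => by
        induction n with
        | zero => exact fun _ _ => rfl
        | succ n ih =>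
          rw [pow_succ, pow_succ]
          exact ind_mul9 h4 ih fun x hx => ((mem_stab hR).1 (F.opStab_le_stab p _ h3)).mem hx
    rw [this _ x hx, hk x hx]
  · rintro τ' hτ' u' ⟨h3, u, h4, h5⟩
    obtain ⟨τ, h6, h7⟩ := hD.exists_lift_iso hw hτ'
    exact ⟨hτ'.conj h3, _, h6.conj_mem_opStab h4, ind_mul9 (ind_inv9 h6 h7)
      (ind_mul9 h5 h7 fun x hx => ((mem_stab hR).1 (F.opStab_le_stab p _ h4)).mem hx)
      fun x hx => h6.symm.mem hx⟩
  · have h3 := mul_mem (Subgroup.inv_mem _ ha) (h1.mem ha)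
    rw [← hD.eq_iff (hR h3) (hR (h1.mem h3)), ← h2 _ h3, extFun_inv_mul9 (hR ha) (hR (h1.mem ha)),
      ← h2 a ha, hq _ (mem_preimageAlong.1 ha).2]

theorem PStable.isConstrained (h : PStable F p) (hF : F.IsSaturated p) (hS : IsPGroup p S)
    (hp5 : 5 ≤ p) : F.IsConstrained p := by
  refine hF.isConstrained_of hS fun T C hC => ?_
  haveI := finite_of_le hC.le
  have hT := isPGroup_of_le hS hC.le
  obtain ⟨D, h1, h2⟩ := hC.2.exists_factor
  have hZ := C.isCentral_center9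
  have hD := h1.isPGroup hT
  rcases h2.2.2 _ _ (D.isNormal_core9.inner_isNormalIn h2.1 hD) with h3 | ⟨h3, h4⟩
  · exact ((h.of_subsystem hC.sub).factor hT hp5 hZ h1).core_ne_bot h2.1 hD h2.2.1 h3
  · have h5 := H8.hyp_mono (F := innerFusionSystem _) (E := D) (fun P => (h4 P).ge) p
    rw [H8.hyp_inner (h3.symm ▸ hD), h1.hyp_eq hZ.isNormal.stronglyClosed hC.2.sat hT, hC.2.hyp_eq,
      h1.img_top, le_bot_iff] at h5
    exact absurd h5 h2.2.1

end Cfsg.Agent.H1
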