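import Cfsg.Agent.H1.FocTv

/-!
# Weights of automorphisms on sections of prime order
-/

set_option autoImplicit false
set_option linter.unusedSectionVars false

namespace Cfsg.Agent.H1

open Cfsg.Fus Subgroup
open scoped commutatorElement

variable {G : Type*} [Group G] {p : ℕ} [hp : Fact p.Prime] {α : G ≃* G}
  {A B N X Y : Subgroup G} {x y : G} {c d : ℤ}

/-- `α` raises `x` to the power `c` modulo `N`. -/
def Wt (α : G ≃* G) (N : Subgroup G) (x : G) (c : ℤ) : Prop := (x ^ c)⁻¹ * α x ∈ N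

theorem wt_iff [N.Normal] : Wt α N x c ↔ ((α x : G) : G ⧸ N) = (x : G ⧸ N) ^ c := by
  rw [Wt, ← QuotientGroup.eq, eq_comm, QuotientGroup.mk_zpow]

theorem Wt.mono (h : Wt α A x c) (hA : A ≤ N) : Wt α N x c := hA h

theorem wt_bot : Wt α ⊥ x c ↔ α x = x ^ c := by rw [Wt, mem_bot, inv_mul_eq_one, eq_comm]

theorem wt_of_eq (h : α x = x ^ c) : Wt α N x c := (wt_bot.2 h).mono bot_le

theorem mk_eq_one_of_mem [N.Normal] (h : x ∈ N) : (x : G ⧸ N) = 1 := (QuotientGroup.eq_one_iff x).2 h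

theorem Wt.uniq [N.Normal] (h : Wt α N x c) (h' : Wt α N x d) (hx : x ∉ N) (hxp : x ^ p ∈ N) :
    c ≡ d [ZMOD p] := by
  have h1 : orderOf (x : G ⧸ N) = p := orderOf_eq_prime (mk_eq_one_of_mem hxp)
    fun e => hx ((QuotientGroup.eq_one_iff x).1 e)
  rw [← h1, ← zpow_eq_zpow_iff_modEq, ← wt_iff.1 h, wt_iff.1 h']

theorem Wt.congr [N.Normal] (h : Wt α N x c) (hxp : x ^ p ∈ N) (hc : c ≡ d [ZMOD p]) :
    Wt α N x d := by
  obtain ⟨k, rfl⟩ := hc.dvd.imp fun _ e => eq_add_of_sub_eq' e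
  rw [wt_iff, wt_iff.1 h, zpow_add, zpow_mul, zpow_natCast,
    show (x : G ⧸ N) ^ p = 1 from mk_eq_one_of_mem hxp, one_zpow, mul_one]

theorem exists_wt [N.Normal] (h : α x ∈ N ⊔ zpowers x) : ∃ c, Wt α N x c := by
  obtain ⟨n, hn, k, e⟩ := (mem_sup_zpowers (normal_le_normalizer N ⊤ trivial)).1 h
  exact ⟨k, wt_iff.2 (by simp [e, mk_eq_one_of_mem hn])⟩

theorem Wt.of_mem [N.Normal] (h : Wt α N x c) (hN : ∀ n ∈ N, α n ∈ N) (hy : y ∈ N ⊔ zpowers x) :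
    Wt α N y c := by
  obtain ⟨n, hn, k, rfl⟩ := (mem_sup_zpowers (normal_le_normalizer N ⊤ trivial)).1 hy
  rw [wt_iff] at h ⊢
  simp only [map_mul, map_zpow, QuotientGroup.mk_mul, QuotientGroup.mk_zpow, mk_eq_one_of_mem hn,
    mk_eq_one_of_mem (hN n hn), h, one_mul]
  exact zpow_comm _ _ _

theorem Wt.mem (h : Wt α A x c) (hA : A ≤ N) (hx : x ∈ N) : α x ∈ N :=
  (mul_mem_cancel_left (inv_mem (zpow_mem hx c))).1 (hA h)

theorem Wt.not_dvd [Finite G] [N.Normal] (h : Wt α N x c) (hN : ∀ n ∈ N, α n ∈ N) (hx : x ∉ N)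
    (hxp : x ^ p ∈ N) : ¬ (p : ℤ) ∣ c := fun e => by
  have h1 : α x ∈ N := by
    simpa [Wt] using h.congr hxp ((Int.modEq_zero_iff_dvd).2 e)
  have h2 : N.map (α : G →* G) = N := eq_of_le_of_card_ge (by rintro _ ⟨n, hn, rfl⟩; exact hN n hn)
    (card_map_of_injective α.injective).ge
  rw [← h2] at h1
  exact hx ((mem_map_iff_mem α.injective).1 h1)

theorem char_mem (N : Subgroup G) [N.Characteristic] (α : G ≃* G) : ∀ n ∈ N, α n ∈ N :=
  fun _ hn => characteristic_iff_le_comap.1 inferInstance α hn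

/-- Weights multiply under commutators. -/
theorem Wt.comm [N.Normal] (hx : Wt α A x c) (hy : Wt α B y d) (hxX : x ∈ X) (hyY : y ∈ Y)
    (hB : B ≤ Y) (h1 : ∀ a ∈ A, ∀ v ∈ Y, ⁅a, v⁆ ∈ N) (h2 : ∀ u ∈ X, ∀ b ∈ B, ⁅u, b⁆ ∈ N)
    (h3 : ∀ u ∈ X, ∀ g, ⁅⁅u, y⁆, g⁆ ∈ N) : Wt α N ⁅x, y⁆ (c * d) := by
  have mk : ∀ u v : G, ((⁅u, v⁆ : G) : G ⧸ N) = ⁅(u : G ⧸ N), (v : G ⧸ N)⁆ := fun u v =>
    map_commutatorElement (QuotientGroup.mk' N) u v
  have cen : ∀ u ∈ X, ∀ g : G, Commute ⁅(u : G ⧸ N), (y : G ⧸ N)⁆ g := fun u hu g => by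
    rw [← mk]; exact comm_mem_iff_mk.1 (h3 u hu g)
  have e : ⁅(x : G ⧸ N) ^ c * ((x ^ c)⁻¹ * α x : G), (y : G ⧸ N) ^ d * ((y ^ d)⁻¹ * α y : G)⁆ =
      ⁅(x : G ⧸ N) ^ c, (y : G ⧸ N) ^ d⁆ := comm_mul_central
    (comm_mem_iff_mk.1 (h1 _ hx (y ^ d * ((y ^ d)⁻¹ * α y)) (mul_mem (zpow_mem hyY d) (hB hy))))
    (Commute.symm (comm_mem_iff_mk.1 (h2 _ (zpow_mem hxX c) _ hy)))
  rw [wt_iff, map_commutatorElement, mk, mk, zpow_mul, ← comm_zpow_left (cen x hxX x),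
    ← comm_zpow_right (x := (x : G ⧸ N) ^ c) (cen _ (zpow_mem hxX c) y), ← e]
  simp

theorem Wt.mul [N.Normal] (hx : Wt α N x c) (hy : Wt α N y c) (h : ⁅x, y⁆ ∈ N) :
    Wt α N (x * y) c := by
  rw [wt_iff] at hx hy ⊢
  rw [map_mul, QuotientGroup.mk_mul, QuotientGroup.mk_mul, hx, hy,
    Commute.mul_zpow (comm_mem_iff_mk.1 h)]

theorem Wt.zpow [N.Normal] (hx : Wt α N x c) (k : ℤ) : Wt α N (x ^ k) c := by
  rw [wt_iff] at hx ⊢
  rw [map_zpow, QuotientGroup.mk_zpow, QuotientGroup.mk_zpow, hx, zpow_comm]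

theorem wt_of_mem (hN : ∀ n ∈ N, α n ∈ N) (hx : x ∈ N) : Wt α N x c :=
  mul_mem (inv_mem (zpow_mem hx c)) (hN x hx)

theorem modEq_cancel {a b u : ℤ} (hu : ¬ (p : ℤ) ∣ u) (h : a * u ≡ b * u [ZMOD p]) :
    a ≡ b [ZMOD p] := by
  rw [Int.modEq_iff_dvd] at h ⊢
  rw [← sub_mul] at h
  exact ((Nat.prime_iff_prime_int.1 hp.out).dvd_or_dvd h).resolve_right hu

theorem not_neg_one_modEq (hp2 : p ≠ 2) : ¬ (-1 : ℤ) ≡ 1 [ZMOD p] := fun h => by
  have : (p : ℤ) ∣ 2 := by simpa using h.dvd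
  exact hp2 ((Nat.prime_dvd_prime_iff_eq hp.out Nat.prime_two).1 (by exact_mod_cast this))

theorem sq_modEq_one_three {u : ℤ} (hu : ¬ ((3 : ℕ) : ℤ) ∣ u) : u ^ 2 ≡ 1 [ZMOD (3 : ℕ)] := by
  have : u % 3 = 1 ∨ u % 3 = 2 := by omega
  rcases this with h | h <;> simp [Int.ModEq, pow_two, Int.mul_emod, h]

/-! ### Groups of maximal class of order `p ^ 5` -/

/-- A group of maximal class of order `p ^ 5` whose two-step centraliser is not abelian. -/
structure MC5 (p : ℕ) (G : Type*) [Group G] : Prop where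
  ex : ∃ s : G, Unif p s
  card : Nat.card G = p ^ 5
  nab : ¬ ⁅tsc G, tsc G⁆ ≤ ⊥

namespace MC5

variable [Finite G] (h : MC5 p G)
include h

theorem pg : IsPGroup p G := h.ex.choose_spec.pg

theorem ne3 : lcs G 3 ≠ ⊥ := h.ex.choose_spec.lcs_ne_bot h.card (by norm_num)

theorem ne2 : lcs G 2 ≠ ⊥ := fun e => h.ne3 (le_bot_iff.1 (e ▸ lcs_anti (by omega)))

theorem flt_ne {r : ℕ} (hr : r ≤ 3) : flt G r ≠ ⊥ := fun e =>
  h.ne3 (le_bot_iff.1 (e ▸ flt_anti hr))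

theorem relIndex {r : ℕ} (hr : r ≤ 3) : (flt G (r + 1)).relIndex (flt G r) = p :=
  h.ex.choose_spec.relIndex_flt h.ne2 (h.flt_ne hr)

theorem index_tsc : (tsc G).index = p := (h.ex.choose_spec.index_cMod (k := 0) h.ne2).2

theorem card_flt {r : ℕ} (hr : r ≤ 4) : Nat.card (flt G r) = p ^ (4 - r) := by
  induction r with
  | zero =>
    have := (tsc G).card_mul_index
    rw [h.index_tsc, h.card, pow_succ] at this
    exact Nat.eq_of_mul_eq_mul_right hp.out.pos this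
  | succ r ih =>
    have := H8.card_mul_relIndex' (flt_anti (G := G) (Nat.le_add_right r 1))
    rw [h.relIndex (by omega), ih (by omega), show 4 - r = 4 - (r + 1) + 1 by omega,
      pow_succ] at this
    exact Nat.eq_of_mul_eq_mul_right hp.out.pos this

theorem lcs4 : lcs G 4 = ⊥ := card_eq_one.1 (h.card_flt le_rfl)

theorem hK : ∀ r, ⁅flt G r, tsc G⁆ ≤ flt G (r + 2)
  | 0 => (h.ex.choose_spec.commutator_tsc_le h.ne2).trans (lcs_anti (a := 2) (by omega))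
  | 1 => commutator_le.2 fun _ hy _ hx => mem_cMod.1 hx _ hy
  | 2 => h.ex.choose_spec.comm_lcs_two_tsc
  | r + 3 => commutator_le.2 fun _ hy x _ => by
      have := lcs_anti (a := 4) (by omega) (comm_mem_lcs hy x)
      rw [h.lcs4] at this
      exact bot_le (a := flt G _) this

theorem unif (hy : y ∉ tsc G) : Unif p y := h.ex.choose_spec.unif_of_not_mem h.ne2 h.hK hy

theorem not_mem (hy : Unif p y) : y ∉ tsc G := (hy.index_cMod (k := 0) h.ne2).1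

theorem comm_lcs_one {a b : G} (ha : a ∈ lcs G 1) (hb : b ∈ lcs G 1) : ⁅a, b⁆ = 1 := by
  obtain ⟨u, hu, hu'⟩ := SetLike.not_le_iff_exists.1 (not_lcs_le h.pg (h.flt_ne (r := 1) (by omega)))
  rw [← h.ex.choose_spec.lcs_eq_sup (k := 0) hu hu'] at ha hb
  refine mem_bot.1 (h.lcs4 ▸ commutator_sup_zpowers_le (normal_le_normalizer _ _)
    (normal_le_normalizer _ ⊤ trivial) (fun a ha b hb => ?_) (fun a ha => ?_)
    (commutator_mem_commutator ha hb))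
  · exact lcs_anti (by omega) (lcs_comm 2 2 (commutator_mem_commutator ha hb))
  · exact lcs_comm 1 2 (commutator_mem_commutator hu ha)

theorem sup_eq {r : ℕ} (hr : r ≤ 3) (hx : x ∈ flt G r) (hx' : x ∉ flt G (r + 1)) :
    flt G (r + 1) ⊔ zpowers x = flt G r :=
  sup_zpowers_eq (flt_anti (Nat.le_add_right r 1)) (h.relIndex hr) hx hx'

theorem pow_mem {r : ℕ} (hr : r ≤ 3) (hx : x ∈ flt G r) : x ^ p ∈ flt G (r + 1) :=
  pow_mem_of_relIndex (normal_le_normalizer _ _) (h.relIndex hr) hx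

theorem sup_top (hx : x ∉ tsc G) : tsc G ⊔ zpowers x = ⊤ :=
  sup_zpowers_eq le_top (by rw [relIndex_top_right, h.index_tsc]) trivial hx

theorem pow_mem_tsc (x : G) : x ^ p ∈ tsc G := h.index_tsc ▸ (tsc G).pow_index_mem x

omit h in
theorem map_mem_flt (α : G ≃* G) : ∀ r, ∀ x ∈ flt G r, α x ∈ flt G r
  | 0 => fun _ => map_mem_tsc α
  | r + 1 => char_mem (lcs G (r + 1)) α

/-- The weights of an automorphism on the factors of the central series. -/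
theorem wt (hx : x ∉ tsc G) (hc : Wt α (tsc G) x c) {r : ℕ} (hr : r ≤ 3) (hy : y ∈ flt G r) :
    Wt α (flt G (r + 1)) y (c ^ (r + 2)) := by
  obtain ⟨s, hs, hs'⟩ : ∃ s ∈ flt G 0, s ∉ flt G 1 := SetLike.not_le_iff_exists.1 fun e =>
    hp.out.one_lt.ne' ((h.relIndex (r := 0) (by omega)).symm.trans (relIndex_eq_one.2 e))
  obtain ⟨e, he⟩ := exists_wt (α := α) (h.sup_eq (by omega) hs hs' ▸ map_mem_flt α 0 s hs)
  have step : ∀ r ≤ 2, ∀ u ∈ flt G r, u ∉ flt G (r + 1) → ∀ k, Wt α (flt G (r + 1)) u k →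
      ⁅u, x⁆ ∈ flt G (r + 1) ∧ ⁅u, x⁆ ∉ flt G (r + 2) ∧ Wt α (flt G (r + 2)) ⁅u, x⁆ (k * c) :=
    fun r hr u hu hu' k hk => ⟨comm_mem_flt hu x, h.ex.choose_spec.comm_not_mem_flt h.ne2 (h.hK r)
      hu hu' hx (h.flt_ne (by omega)), hk.comm hc hu (mem_top x) le_top
      (fun a ha v _ => comm_mem_flt ha v) (fun u hu b hb => h.hK r (commutator_mem_commutator hu hb))
      fun u hu g => comm_mem_flt (comm_mem_flt hu x) g⟩
  obtain ⟨a1, a2, a3⟩ := step 0 (by omega) s hs hs' e he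
  obtain ⟨b1, b2, b3⟩ := step 1 (by omega) _ a1 a2 _ a3
  obtain ⟨c1, c2, c3⟩ := step 2 (by omega) _ b1 b2 _ b3
  have t3 := h.ex.choose_spec.commutator_tsc_le h.ne2
  have d1 : ⁅s, ⁅s, x⁆⁆ ∉ flt G 4 := fun e => h.nab (by
    rw [show tsc G = _ from (h.sup_eq (by omega) hs hs').symm, ← h.lcs4]
    refine commutator_sup_zpowers_le (normal_le_normalizer _ _) (normal_le_normalizer _ ⊤ trivial)
      (fun a ha b hb => h.comm_lcs_one ha hb ▸ one_mem _) fun a ha => comm_mem_symm ?_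
    rw [← h.sup_eq (by omega) a1 a2] at ha
    exact comm_mem_of_sup_zpowers (normal_le_normalizer _ _) (normal_le_normalizer _ ⊤ trivial)
      (fun b hb => h.hK 2 (commutator_mem_commutator hb hs)) (comm_mem_symm e) a ha)
  have d2 : Wt α (flt G 4) ⁅s, ⁅s, x⁆⁆ (e * (e * c)) := he.comm a3 hs a1 (flt_anti (by omega))
    (fun a ha v hv => h.comm_lcs_one ha hv ▸ one_mem _)
    (fun u hu b hb => comm_mem_symm (h.hK 2 (commutator_mem_commutator hb hu)))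
    fun u hu g => comm_mem_lcs (t3 (commutator_mem_commutator hu (lcs_one_le_tsc a1))) g
  have d3 : ⁅s, ⁅s, x⁆⁆ ∈ flt G 3 := t3 (commutator_mem_commutator hs (lcs_one_le_tsc a1))
  have d4 := (c3.of_mem (map_mem_flt α 4) (h.sup_eq le_rfl c1 c2 ▸ d3)).uniq d2 d1
    (h.pow_mem le_rfl d3)
  have d5 : e ≡ c ^ 2 [ZMOD p] := modEq_cancel (he.not_dvd (map_mem_flt α 1) hs'
    (h.pow_mem (by omega) hs)) (modEq_cancel (hc.not_dvd (map_mem_flt α 0) hx (h.pow_mem_tsc x))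
    (by convert d4.symm using 1 <;> ring))
  have fin : ∀ r ≤ 3, ∀ u ∈ flt G r, u ∉ flt G (r + 1) → Wt α (flt G (r + 1)) u (e * c ^ r) →
      y ∈ flt G r → Wt α (flt G (r + 1)) y (c ^ (r + 2)) := fun r hr u hu hu' hw hy =>
    (hw.of_mem (map_mem_flt α _) (h.sup_eq hr hu hu' ▸ hy)).congr (h.pow_mem hr hy)
      (by convert d5.mul_right (c ^ r) using 1; ring)
  interval_cases r
  · exact fin 0 hr s hs hs' (by simpa using he) hy
  · exact fin 1 hr _ a1 a2 (by simpa using a3) hy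
  · exact fin 2 hr _ b1 b2 (by convert b3 using 1; ring) hy
  · exact fin 3 hr _ c1 c2 (by convert c3 using 1; ring) hy

end MC5

end Cfsg.Agent.H1
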