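import Cfsg.Agent.H1.R11

/-!
# Groups with an extraspecial subgroup of index `p`
-/

set_option autoImplicit false
set_option linter.unusedSectionVars false

namespace Cfsg.Agent.H1

open Cfsg.Fus Subgroup
open scoped commutatorElement

variable {G : Type*} [Group G] [Finite G] {p : ℕ} [hp : Fact p.Prime]
  {A B D E H Q : Subgroup G} {a b e g s u w x y z : G}

/-- `l` is a logarithm on `E` with kernel `H` and base `z`. -/
structure Lg (p : ℕ) (E H : Subgroup G) (z : G) (l : G → ZMod p) : Prop where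
  mem : z ∈ E
  mul : ∀ a ∈ E, ∀ b ∈ E, l (a * b) = l a + l b
  zero : ∀ a ∈ E, l a = 0 ↔ a ∈ H
  base : l z = 1

theorem exists_lg (hn : E ≤ normalizer (H : Set G)) (hi : H.relIndex E = p) (hz : z ∈ E)
    (hz' : z ∉ H) : ∃ l, Lg p E H z l := by
  classical
  haveI := normal_subgroupOf_of_le_normalizer hn
  let θ := mulEquivOfPrimeCardEq (G := E ⧸ H.subgroupOf E) (G' := Multiplicative (ZMod p)) (p := p) hi (by simp)
  let l : G → ZMod p := fun a => if h : a ∈ E then (θ (⟨a, h⟩ : E)).toAdd else 0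
  have l0 : ∀ a ∈ E, l a = 0 ↔ a ∈ H := fun a ha => by
    simp only [l, dif_pos ha]
    rw [toAdd_eq_zero, map_eq_one_iff _ θ.injective, QuotientGroup.eq_one_iff]; rfl
  have h0 := mt (l0 z hz).1 hz'
  refine ⟨fun a => l a / l z, hz, fun a ha b hb => ?_, fun a ha => by simp [h0, l0 a ha], div_self h0⟩
  rw [← add_div]
  simp only [l, dif_pos ha, dif_pos hb, dif_pos (E.mul_mem ha hb)]
  rw [← toAdd_mul, ← map_mul]; rfl

namespace Lg

variable {l : G → ZMod p} (h : Lg p E H z l)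
include h

theorem one : l 1 = 0 := by simpa using h.mul 1 E.one_mem 1 E.one_mem

theorem inv (ha : a ∈ E) : l a⁻¹ = -l a :=
  eq_neg_of_add_eq_zero_left (by rw [← h.mul _ (E.inv_mem ha) _ ha, inv_mul_cancel, h.one])

theorem zpow (ha : a ∈ E) (k : ℤ) : l (a ^ k) = k * l a := by
  induction k using Int.induction_on with
  | zero => simp [h.one]
  | succ k ih => rw [zpow_add_one, h.mul _ (E.zpow_mem ha _) _ ha, ih]; push_cast; ring
  | pred k ih =>
    rw [zpow_sub_one, h.mul _ (E.zpow_mem ha _) _ (E.inv_mem ha), ih, h.inv ha]; push_cast; ring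

theorem eq_one (hz : z ^ p = 1) (ha : a ∈ zpowers z) (h0 : l a = 0) : a = 1 := by
  obtain ⟨k, rfl⟩ := ha
  rw [h.zpow h.mem, h.base, mul_one, ZMod.intCast_zmod_eq_zero_iff_dvd] at h0
  exact mem_bot.1 (zpow_mem_of_dvd h0 (mem_bot.2 hz))

theorem ext (hz : z ^ p = 1) (ha : a ∈ zpowers z) (hb : b ∈ zpowers z) (e : l a = l b) : a = b :=
  have le := zpowers_le.2 h.mem
  inv_mul_eq_one.1 (h.eq_one hz (mul_mem (inv_mem ha) hb)
    (by rw [h.mul _ (E.inv_mem (le ha)) _ (le hb), h.inv (le ha), e, neg_add_cancel]))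

end Lg

/-- `Q` is an extraspecial subgroup of index `p` with centre `⟨z⟩`. -/
structure XS (p : ℕ) (Q : Subgroup G) (z : G) : Prop where
  pg : IsPGroup p (⊤ : Subgroup G)
  p2 : p ≠ 2
  idx : Q.relIndex ⊤ = p
  zQ : z ∈ Q
  z1 : z ≠ 1
  zp : z ^ p = 1
  cen : ∀ g : G, ⁅g, z⁆ = 1
  comm : ∀ x ∈ Q, ∀ y ∈ Q, ⁅x, y⁆ ∈ zpowers z
  pow : ∀ x ∈ Q, x ^ p ∈ zpowers z
  nd : ∀ x ∈ Q, (∀ y ∈ Q, ⁅y, x⁆ = 1) → x ∈ zpowers z
  big : p ^ 5 ≤ Nat.card Q

/-- The centraliser of `A` in `Q`. -/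
abbrev cq (Q A : Subgroup G) : Subgroup G := Q ⊓ centralizer (A : Set G)

theorem mem_cq : x ∈ cq Q A ↔ x ∈ Q ∧ ∀ y ∈ A, ⁅y, x⁆ = 1 :=
  and_congr_right fun _ => forall₂_congr fun _ _ => comm_one_iff.symm

/-- The elements of `Q` that are central modulo `⟨z⟩`. -/
def dd (Q : Subgroup G) (z : G) : Subgroup G := Q ⊓ ⨅ g, commMod (zpowers z) g

theorem comm_mul_left' (x y g : G) : ⁅x * y, g⁆ = x * ⁅y, g⁆ * x⁻¹ * ⁅x, g⁆ := by
  simp only [commutatorElement_def]; group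

theorem comm_mul_right' (x y g : G) : ⁅g, x * y⁆ = ⁅g, x⁆ * (x * ⁅g, y⁆ * x⁻¹) := by
  simp only [commutatorElement_def]; group

namespace XS

variable (h : XS p Q z)
include h

theorem pg' : IsPGroup p G := h.pg.of_equiv topEquiv

theorem nQ : Q.Normal :=
  normalizer_eq_top_iff.1 (top_unique (le_normalizer_of_relIndex h.pg le_top h.idx))

theorem ZQ : zpowers z ≤ Q := zpowers_le.2 h.zQ

theorem cZ (ha : a ∈ zpowers z) (g : G) : ⁅g, a⁆ = 1 := by
  obtain ⟨k, rfl⟩ := ha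
  exact comm_one_iff.2 ((show Commute g z from comm_one_iff.1 (h.cen g)).zpow_right k)

theorem cZ' (ha : a ∈ zpowers z) (g : G) : g * a = a * g := comm_one_iff.1 (h.cZ ha g)

theorem conjZ (ha : a ∈ zpowers z) (g : G) : g * a * g⁻¹ = a := by rw [h.cZ' ha, mul_inv_cancel_right]

theorem nZ : (zpowers z).Normal := ⟨fun _ ha g => (h.conjZ ha g).symm ▸ ha⟩

theorem powZ (ha : a ∈ zpowers z) : a ^ p = 1 := by
  obtain ⟨k, rfl⟩ := ha
  rw [← zpow_natCast, zpow_comm, zpow_natCast, h.zp, one_zpow]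

theorem cardZ : Nat.card (zpowers z) = p := card_zpowers_of_pow h.z1 h.zp

theorem card_top : Nat.card (⊤ : Subgroup G) = p * Nat.card Q := card_of_relIndex le_top h.idx

theorem sup_top (hs : s ∉ Q) (g : G) : g ∈ Q ⊔ zpowers s :=
  (sup_zpowers_eq le_top h.idx trivial hs).ge trivial

theorem commQ (x y : G) : ⁅x, y⁆ ∈ Q :=
  commutator_le_of_relIndex h.pg le_top h.idx (commutator_mem_commutator trivial trivial)

theorem powQ (x : G) : x ^ p ∈ Q := have := h.nQ; pow_mem_of_relIndex (normal_le_normalizer _ _) h.idx trivial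

theorem exists_lg : ∃ l, Lg p (zpowers z) ⊥ z l :=
  H1.exists_lg (normal_le_normalizer _ _) (by rw [relIndex_bot_left, h.cardZ]) (mem_zpowers z) h.z1

theorem norm (h1 : z ∈ A) (h2 : A ≤ Q) : Q ≤ normalizer (A : Set G) := fun x hx =>
  normalizer_of_comm le_top fun y hy => zpowers_le.2 h1 (h.comm x hx y (h2 hy))

theorem comm_mul_left (hy : ⁅y, g⁆ ∈ zpowers z) (x : G) : ⁅x * y, g⁆ = ⁅y, g⁆ * ⁅x, g⁆ := by
  rw [comm_mul_left', h.conjZ hy]

theorem comm_mul_right (hy : ⁅g, y⁆ ∈ zpowers z) (x : G) : ⁅g, x * y⁆ = ⁅g, x⁆ * ⁅g, y⁆ := by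
  rw [comm_mul_right', h.conjZ hy]

theorem comm_zpow_left (hy : ⁅y, g⁆ ∈ zpowers z) (k : ℤ) : ⁅y ^ k, g⁆ = ⁅y, g⁆ ^ k := by
  have e : g * y⁻¹ * g⁻¹ = y⁻¹ * ⁅y, g⁆ := by simp only [commutatorElement_def]; group
  calc _ = y ^ k * (g * y⁻¹ * g⁻¹) ^ k := by rw [conj_zpow, commutatorElement_def]; group
    _ = _ := by rw [e, (show Commute y⁻¹ _ from h.cZ' hy _).mul_zpow]; group

theorem comm_zpow_right (hy : ⁅g, y⁆ ∈ zpowers z) (k : ℤ) : ⁅g, y ^ k⁆ = ⁅g, y⁆ ^ k := by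
  rw [← commutatorElement_inv, h.comm_zpow_left (comm_mem_symm hy), ← inv_zpow, commutatorElement_inv]

theorem cl2 : Cl2 p Q := fun x hx y hy =>
  ⟨h.powZ (h.comm x hx y hy), fun g _ => h.cZ' (h.comm x hx y hy) g⟩

theorem mul_pow (hx : x ∈ Q) (hy : y ∈ Q) : (x * y) ^ p = x ^ p * y ^ p := h.cl2.mul_pow h.p2 hx hy

theorem comm_pow (hx : x ∈ Q) (g : G) : ⁅x, g⁆ ^ p = 1 := by
  haveI := h.nQ
  rw [← commutatorElement_inv, inv_pow, h.cl2.comm_pow h.p2 (nle Q g) hx, h.cZ (h.pow x hx), inv_one]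

theorem card_cent (hx : ∀ y ∈ H, ⁅y, x⁆ ∈ zpowers z) :
    Nat.card H ≤ p * Nat.card (H ⊓ centralizer {x} : Subgroup G) :=
  card_le_of_relIndex (h.cardZ ▸ (comm_count hx).1)

theorem perp_le (hA : A ≤ Q) (B : Subgroup G) : z ∈ B → B ≤ A →
    Nat.card (cq Q B) * Nat.card B ≤ Nat.card (cq Q A) * Nat.card A := by
  induction B using WellFoundedGT.induction with
  | _ B ih =>
  intro hz hB
  rcases hB.eq_or_lt with rfl | lt
  · rfl
  obtain ⟨x, h1, h2⟩ := SetLike.exists_of_lt lt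
  have := ih (B ⊔ zpowers x) (left_lt_sup.2 fun e => h2 (e (mem_zpowers x))) (mem_sup_left hz)
    (sup_le hB (zpowers_le.2 h1))
  rw [card_sup_zp (h.norm hz (hB.trans hA) (hA h1)) h2 (zpowers_le.2 hz (h.pow x (hA h1)))] at this
  refine le_trans ?_ this
  rw [mul_left_comm, ← mul_assoc]
  refine Nat.mul_le_mul_right _ ((h.card_cent (H := cq Q B) fun y hy => h.comm y hy.1 x (hA h1)).trans
    (Nat.mul_le_mul_left _ (card_le_of_le fun y hy => mem_cq.2 ⟨hy.1.1, comm_one_of_sup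
      (mem_cq.1 hy.1).2 (comm_one_iff.2 (mem_centralizer_singleton_iff.1 hy.2).symm)⟩)))

theorem cq_Z : cq Q (zpowers z) = Q :=
  inf_eq_left.2 fun x _ _ hy => (h.cZ' hy x).symm

theorem cq_Q : cq Q Q = zpowers z := le_antisymm (fun x hx => h.nd x hx.1 (mem_cq.1 hx).2)
  fun _ hx => ⟨h.ZQ hx, fun y _ => h.cZ' hx y⟩

theorem perp (h1 : z ∈ A) (h2 : A ≤ Q) : Nat.card (cq Q A) * Nat.card A = p * Nat.card Q := by
  have e1 := h.perp_le h2 _ (mem_zpowers z) (zpowers_le.2 h1)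
  have e2 := h.perp_le le_rfl A h1 h2
  rw [h.cq_Z, h.cardZ, mul_comm] at e1
  rw [h.cq_Q, h.cardZ] at e2
  exact e2.antisymm e1

theorem z_cq : z ∈ cq Q A := ⟨h.zQ, fun y _ => h.cZ' (mem_zpowers z) y⟩

/-- `A` is the centraliser of `B` when it centralises `B` and has the right order -/
theorem eq_cq (h1 : z ∈ B) (h2 : B ≤ Q) (hA : A ≤ cq Q B)
    (hc : p * Nat.card Q ≤ Nat.card A * Nat.card B) : A = cq Q B :=
  eq_of_le_of_card_ge hA (Nat.le_of_mul_le_mul_right ((h.perp h1 h2).le.trans hc) (card_pos' B))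

theorem cq_cq (h1 : z ∈ A) (h2 : A ≤ Q) : cq Q (cq Q A) = A :=
  (h.eq_cq h.z_cq inf_le_left (fun _ hx => mem_cq.2 ⟨h2 hx, fun _ hy =>
    comm_one_symm ((mem_cq.1 hy).2 _ hx)⟩) (by rw [mul_comm _ (Nat.card (cq Q A)), h.perp h1 h2])).symm

theorem sq_le (h1 : z ∈ A) (h2 : A ≤ Q) (hc : ∀ x ∈ A, ∀ y ∈ A, ⁅x, y⁆ = 1) :
    Nat.card A * Nat.card A ≤ p * Nat.card Q :=
  h.perp h1 h2 ▸ Nat.mul_le_mul_right _ (card_le_of_le fun x hx => mem_cq.2 ⟨h2 hx, fun y hy => hc y hy x hx⟩)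

/-- an abelian subgroup of `Q` has index at least `p²` -/
theorem not_comm (h1 : z ∈ A) (h2 : A ≤ Q) (hi : Nat.card Q ≤ p * Nat.card A) :
    ¬ ∀ x ∈ A, ∀ y ∈ A, ⁅x, y⁆ = 1 := fun hc => by
  have e1 := h.sq_le h1 h2 hc
  have e2 : Nat.card Q * Nat.card Q ≤ p ^ 3 * Nat.card Q := by
    calc _ ≤ p * Nat.card A * (p * Nat.card A) := Nat.mul_le_mul hi hi
      _ = p ^ 2 * (Nat.card A * Nat.card A) := by ring
      _ ≤ p ^ 2 * (p * Nat.card Q) := Nat.mul_le_mul_left _ e1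
      _ = _ := by ring
  exact absurd (h.big.trans (Nat.le_of_mul_le_mul_right e2 (card_pos' Q)))
    (not_le.2 (Nat.pow_lt_pow_right hp.out.one_lt (by norm_num)))

theorem card_zp (hw : w ∈ Q) (hw' : w ∉ zpowers z) :
    Nat.card (zpowers z ⊔ zpowers w : Subgroup G) = p * p := by
  haveI := h.nZ
  rw [card_sup_zp (nle _ w) hw' (h.pow w hw), h.cardZ]

theorem cq_zp : cq Q (zpowers z ⊔ zpowers w) = Q ⊓ centralizer {w} := by
  ext x
  rw [mem_cq, mem_inf, mem_centralizer_singleton_iff]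
  exact and_congr_right fun _ => ⟨fun e => (comm_one_iff.1 (e w (mem_sup_right (mem_zpowers w)))).symm,
    fun e => comm_one_of_sup (fun _ ha => comm_one_symm (h.cZ ha x)) (comm_one_iff.2 e.symm)⟩

theorem card_cw (hw : w ∈ Q) (hw' : w ∉ zpowers z) :
    p * Nat.card (Q ⊓ centralizer {w} : Subgroup G) = Nat.card Q := by
  have := h.perp (mem_sup_left (mem_zpowers z)) (sup_le h.ZQ (zpowers_le.2 hw))
  rw [h.cq_zp, h.card_zp hw hw'] at this
  exact Nat.eq_of_mul_eq_mul_left hp.out.pos (by linarith)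

theorem mem_dd : x ∈ dd Q z ↔ x ∈ Q ∧ ∀ g : G, ⁅x, g⁆ ∈ zpowers z :=
  have := h.nZ
  and_congr_right fun _ => mem_iInf.trans (forall_congr' fun _ => and_iff_right (nle _ x))

theorem mem_dd' (hs : s ∉ Q) : x ∈ dd Q z ↔ x ∈ Q ∧ ⁅x, s⁆ ∈ zpowers z :=
  have := h.nZ
  h.mem_dd.trans (and_congr_right fun hx => ⟨fun e => e s, fun e g => comm_mem_symm
    (comm_sup_zp (fun y hy => h.comm y hy x hx) (comm_mem_symm e) g (h.sup_top hs g))⟩)

theorem z_dd : z ∈ dd Q z := h.mem_dd.2 ⟨h.zQ, fun g => comm_one_symm (h.cen g) ▸ one_mem _⟩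

theorem nD : (dd Q z).Normal :=
  normal_of_comm_mem fun _ hx g => zpowers_le.2 h.z_dd ((h.mem_dd.1 hx).2 g)

/-- commutators centralise `dd` -/
theorem comm_dd (hx : x ∈ dd Q z) (a b : G) : ⁅x, ⁅a, b⁆⁆ = 1 :=
  comm_comm_mem (N := ⊥) (W := dd Q z) (H := ⊤) (fun _ hw g _ => (h.mem_dd.1 hw).2 g)
    (fun _ hk g _ => comm_one_symm (h.cZ hk g)) hx trivial trivial

/-- the centraliser of `dd` consists of commutators -/
theorem exists_comm (hs : s ∉ Q) (hx : x ∈ cq Q (dd Q z)) : ∃ y ∈ Q, ⁅y, s⁆⁻¹ * x ∈ zpowers z := by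
  haveI := h.nZ
  let ν : Q →* G ⧸ zpowers z := MonoidHom.mk' (fun y => (⁅(y : G), s⁆ : G)) fun a b => by
    rw [coe_mul, comm_mul_left', ← QuotientGroup.mk_mul, QuotientGroup.eq]
    convert h.comm _ (mul_mem (inv_mem (h.commQ a s)) a.2) _ (inv_mem (h.commQ b s)) using 1
    simp only [commutatorElement_def]; group
  have e1 := ν.ker.card_eq_card_quotient_mul_card_subgroup
  rw [Nat.card_congr (QuotientGroup.quotientKerEquivRange ν).toEquiv,
    show ν.ker = (dd Q z).subgroupOf Q from Subgroup.ext fun y => (QuotientGroup.eq_one_iff _).trans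
      ((h.mem_dd' hs).trans (and_iff_right y.2)).symm, card_subgroupOf_of_le (show dd Q z ≤ Q from inf_le_left)] at e1
  have e2 := h.eq_cq (A := ν.range.comap (QuotientGroup.mk' _)) h.z_dd inf_le_left (by
    rintro t ⟨y, hy⟩
    replace hy : ⁅(y : G), s⁆⁻¹ * t ∈ zpowers z := QuotientGroup.eq.1 hy
    refine mem_cq.2 ⟨(mul_mem_cancel_left (inv_mem (h.commQ y s))).1 (h.ZQ hy), fun d hd => ?_⟩
    rw [← mul_inv_cancel_left ⁅(y : G), s⁆ t, comm_mul_right', h.comm_dd hd, h.cZ hy, mul_one,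
      mul_inv_cancel, mul_one]) (by
    rw [card_comap_mk', h.cardZ, e1]; exact le_of_eq (by ring))
  obtain ⟨y, hy⟩ := e2.ge hx
  exact ⟨y, y.2, QuotientGroup.eq.1 hy⟩

theorem map_z (α : G ≃* G) : α z ∈ zpowers z := by
  obtain ⟨x, hx, y, hy, e⟩ : ∃ x ∈ Q, ∃ y ∈ Q, ⁅x, y⁆ ≠ 1 := by
    by_contra! e
    exact h.not_comm h.zQ le_rfl (Nat.le_mul_of_pos_left _ hp.out.pos) e
  obtain ⟨k, hk⟩ := exists_zpow_eq_of_prime h.zp (h.comm x hx y hy) e (mem_zpowers z)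
  refine h.nd _ ?_ fun g _ => by rw [← α.apply_symm_apply g, ← map_commutatorElement, h.cen, map_one]
  rw [← hk, map_zpow, map_commutatorElement]
  exact Q.zpow_mem (h.commQ _ _) k

theorem map_Z (α : G ≃* G) (ha : a ∈ zpowers z) : α a ∈ zpowers z := by
  obtain ⟨k, rfl⟩ := ha
  exact map_zpow α z k ▸ zpow_mem (h.map_z α) k

/-- `Q` is characteristic unless `G` acts on it as a transvection -/
theorem map_Q (hD : p * Nat.card (dd Q z) < Nat.card Q) (α : G ≃* G) (hx : x ∈ Q) : α x ∈ Q := by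
  by_contra e
  refine hD.not_ge ?_
  have e1 : Nat.card (Q.map (α : G →* G)) ≤ p * Nat.card (Q.map (α : G →* G) ⊓ Q : Subgroup G) :=
    card_le_of_relIndex (h.idx ▸ relIndex_le_of_le_right le_top (h.idx ▸ hp.out.ne_zero))
  rw [card_map_of_injective α.injective] at e1
  refine e1.trans (Nat.mul_le_mul_left _ (card_le_of_le ?_))
  rintro _ ⟨⟨y, hy, rfl⟩, hy'⟩
  exact (h.mem_dd' e).2 ⟨hy', map_commutatorElement α y x ▸ h.map_Z α (h.comm y hy x hx)⟩

theorem center_le (hD : ¬ Q ≤ dd Q z) (hg : ∀ x : G, ⁅x, g⁆ = 1) : g ∈ zpowers z :=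
  h.nd g (by_contra fun e => hD fun x hx => (h.mem_dd' e).2 ⟨hx, hg x ▸ one_mem _⟩) fun x _ => hg x

end XS

end Cfsg.Agent.H1
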