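import Cfsg.Agent.H1.X9

/-!
# Groups of maximal class with an extraspecial maximal subgroup
-/

set_option autoImplicit false
set_option linter.unusedSectionVars false

namespace Cfsg.Agent.H1

open Cfsg.Fus Cfsg.FusionSystem Subgroup
open scoped commutatorElement

variable {p : ℕ} [hp : Fact p.Prime] {G : Type*} [Group G] [Finite G]
  {A B D E H Q R : Subgroup G} {a b e g s t u v w x y z : G} {M j k : ℕ} {c d : ℤ} {α : G ≃* G}

theorem card_norm_le (hG : IsPGroup p G) (ha : a ∈ R) (h1 : a ≠ 1) (hc : Nat.card (centralizer {a}) ≤ p ^ 2) :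
    Nat.card (normalizerIn ⊤ R) ≤ p * Nat.card R := by
  have lt := commutator_lt_of_isPGroup (hG.to_subgroup R) (hG.to_subgroup (normalizerIn ⊤ R)) inf_le_right
    fun e => h1 (mem_bot.1 (e ▸ ha))
  refine (card_le_of_relIndex (comm_count fun y hy => comm_mem_symm (commutator_mem_commutator ha hy)).1).trans
    ((Nat.mul_le_mul_left _ ((card_le_of_le inf_le_right).trans hc)).trans ?_)
  rw [sq, mul_comm, mul_assoc]
  exact Nat.mul_le_mul_left _ (mul_card_le hG lt.le lt.2)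

/-- `a` is a uniform element of order `p` outside `Q`. -/
structure XM (p : ℕ) (Q : Subgroup G) (z a : G) (M : ℕ) : Prop extends XS p Q z where
  un : Unif p a
  aQ : a ∉ Q
  ap : a ^ p = 1
  card : Nat.card G = p ^ (M + 4)

namespace XM

variable (h : XM p Q z a M)
include h

theorem cardQ : Nat.card Q = p ^ (M + 3) := Nat.eq_of_mul_eq_mul_left hp.out.pos (by
  rw [← h.card_top, Subgroup.card_top, h.card]; ring)

theorem two_le : 2 ≤ M := by
  have := (Nat.pow_le_pow_iff_right hp.out.one_lt).1 (h.cardQ ▸ h.big); omega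

theorem cardL : ∀ k ≤ M + 2, Nat.card (lcs G (k + 1)) = p ^ (M + 2 - k)
  | 0, _ => Nat.eq_of_mul_eq_mul_left (pow_pos hp.out.pos 2) (by
      rw [← h.un.index_lcs_one, index_mul_card, h.card, h.un.index_lcs_one, Nat.sub_zero]; ring)
  | k + 1, hk => by
    have ih := cardL k (by omega)
    rw [card_of_relIndex (lcs_anti (by omega)) (h.un.relIndex_lcs fun e => by
      rw [e, card_bot] at ih; exact absurd (Nat.pow_eq_one.1 ih.symm) (by have := hp.out.one_lt; omega)),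
      show M + 2 - k = M + 2 - (k + 1) + 1 by omega, pow_succ'] at ih
    exact Nat.eq_of_mul_eq_mul_left hp.out.pos ih

theorem lcs_bot : lcs G (M + 3) = ⊥ := card_eq_one.1 (by simpa using h.cardL (M + 2) le_rfl)

theorem lcs_ne (hk : k ≤ M + 2) : lcs G k ≠ ⊥ := fun e =>
  h.un.lcs_ne_bot h.card (by omega) (le_bot_iff.1 (e ▸ lcs_anti hk))

theorem LQ : lcs G (k + 1) ≤ Q := (lcs_anti (a := 1) (by omega)).trans fun _ hx => (h.comm_T hx).1

theorem inf_cent : Nat.card (dd Q z ⊓ centralizer {a} : Subgroup G) ≤ p := h.un.card_inf_le fun e => h.aQ e.1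

theorem cardD : Nat.card (dd Q z) ≤ p ^ 2 :=
  (h.card_cent fun _ hy => (h.mem_dd.1 hy).2 a).trans (sq p ▸ Nat.mul_le_mul_left _ h.inf_cent)

theorem ltD : p * Nat.card (dd Q z) < Nat.card Q := (Nat.mul_le_mul_left _ h.cardD).trans_lt
  (lt_of_lt_of_le (by rw [← pow_succ']; exact Nat.pow_lt_pow_right hp.out.one_lt (by omega)) h.big)

theorem nle_dd : ¬ Q ≤ dd Q z := fun e =>
  h.ltD.not_ge ((card_le_of_le e).trans (Nat.le_mul_of_pos_left _ hp.out.pos))

theorem eqZ : lcs G (M + 2) = zpowers z := eq_of_le_of_card_ge (fun x hx => h.center_le h.nle_dd fun g =>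
  comm_one_symm (mem_bot.1 (h.lcs_bot ▸ comm_mem_lcs hx g))) (by rw [h.cardZ, h.cardL (M + 1) (by omega)]; simp)

theorem eqD : lcs G (M + 1) = dd Q z := eq_of_le_of_card_ge (fun x hx => h.mem_dd.2
  ⟨h.LQ hx, fun g => h.eqZ ▸ comm_mem_lcs hx g⟩) (by rw [h.cardL M (by omega)]; simpa using h.cardD)

theorem cardD' : Nat.card (dd Q z) = p ^ 2 := by rw [← h.eqD, h.cardL M (by omega)]; simp

theorem eqT : lcs G 1 = cq Q (dd Q z) :=
  h.eq_cq h.z_dd inf_le_left h.comm_T (by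
    rw [h.cardL 0 (by omega), h.cardD', h.cardQ, Nat.sub_zero]; exact le_of_eq (by ring))

theorem iL : (lcs G 1).relIndex Q = p := relIndex_of_card h.LQ (by
  rw [h.cardL 0 (by omega), h.cardQ, ← pow_succ', Nat.sub_zero])

theorem exists_y : ∃ y ∈ Q, y ∉ lcs G 1 :=
  SetLike.not_le_iff_exists.1 fun e => hp.out.one_lt.ne' (h.iL.symm.trans (relIndex_eq_one.2 e))

theorem comm_nmem (hy : y ∈ Q) (hy' : y ∉ lcs G 1) : ⁅y, a⁆ ∉ lcs G 2 := fun e => not_lcs_le h.pg' h.un.ne (by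
  haveI := h.nQ
  refine (commutator_mono (fun g _ => h.sup_top h.aQ g) fun g _ => h.sup_top h.aQ g).trans
    (commutator_sup_zpowers_le (normal_le_normalizer _ _) (nle _ a) (fun x hx y hy => lcs_anti (by omega)
      (h.eqZ.ge (h.comm x hx y hy))) fun x hx => comm_mem_symm (comm_sup_zp (fun b hb => comm_mem_lcs hb a) e x
        ((sup_zpowers_eq h.LQ h.iL hy hy').ge hx))))

theorem lcs_p : lcs G p = ⊥ := by_contra fun e => by
  obtain ⟨y, y1, y2⟩ := h.exists_y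
  exact h.un.pow_not_mem_lcs (r := 0) (comm_mem_lcs (mem_top y) a) (h.comm_nmem y1 y2) (by simpa using e)
    (h.comm_pow y1 a ▸ one_mem _)

theorem wts (h1 : α a = a ^ d) (h2 : α z = z ^ c) (hd : ¬ (p : ℤ) ∣ d) :
    d ^ (M + 3) ≡ c [ZMOD p] ∧ ∀ t, Wt α (lcs G 1) t d := by
  haveI := h.nQ
  obtain ⟨y, y1, y2⟩ := h.exists_y
  have eQ := sup_zpowers_eq h.LQ h.iL y1 y2
  have py := pow_mem_of_relIndex (normal_le_normalizer _ _) h.iL y1
  obtain ⟨μ, hμ⟩ := exists_wt (α := α) (eQ.ge (h.map_Q h.ltD α y1))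
  have cm : ∀ k u e, u ∈ lcs G k → Wt α (lcs G (k + 1)) u e → Wt α (lcs G (k + 2)) ⁅u, a⁆ (e * d) :=
    fun k u e hu t => t.comm (wt_bot.2 h1) hu (mem_top a) le_top (fun _ hb v _ => comm_mem_lcs hb v)
      (fun u _ b hb => by rw [mem_bot.1 hb, commutatorElement_one_right]; exact one_mem _)
      fun u hu g => comm_mem_lcs (comm_mem_lcs hu a) g
  have key : ∀ k ≤ M + 1, ∃ u ∈ lcs G (k + 1), u ∉ lcs G (k + 2) ∧ Wt α (lcs G (k + 2)) u (μ * d ^ (k + 1)) :=
    fun k hk => by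
      induction k with
      | zero => exact ⟨_, comm_mem_lcs (mem_top y) a, h.comm_nmem y1 y2, by simpa using cm 0 y μ trivial hμ⟩
      | succ k ih =>
        obtain ⟨u, u1, u2, u3⟩ := ih (by omega)
        exact ⟨_, comm_mem_lcs u1 a, h.un.comm_not_mem u1 u2 (h.lcs_ne (by omega)),
          by simpa only [mul_assoc, ← pow_succ] using cm _ u _ u1 u3⟩
  have wz : ∀ u ∈ zpowers z, u ≠ 1 → ∀ e, Wt α ⊥ u e → e ≡ c [ZMOD p] := by
    rintro _ ⟨k, rfl⟩ u1 e t
    exact t.uniq ((wt_bot.2 h2).zpow k) u1 (h.powZ (zpow_mem_zpowers z k))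
  obtain ⟨u, u1, u2, u3⟩ := key (M + 1) le_rfl
  obtain ⟨v, v1, v2, v3⟩ := key M (by omega)
  rw [h.lcs_bot] at u2 u3
  rw [h.eqZ] at u1 v2 v3
  rw [h.eqD] at v1
  have e1 := wz u u1 u2 _ u3
  have e2 := wz _ (h.comm y y1 v v1.1) (fun e => y2 (h.eqT.ge (mem_cq.2 ⟨y1, sup_zpowers_eq (zpowers_le.2 h.z_dd)
    (relIndex_of_card (zpowers_le.2 h.z_dd) (by rw [h.cardD', h.cardZ, sq])) v1 v2 ▸ comm_one_of_sup
      (fun _ hb => comm_one_symm (h.cZ hb y)) (comm_one_symm e)⟩))) _ (hμ.comm v3 y1 v1 (zpowers_le.2 h.z_dd)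
      (fun b hb w hw => comm_one_symm ((mem_cq.1 (h.eqT.le hb)).2 w hw)) (fun b _ w hw => h.cZ hw b)
      fun b hb g => comm_one_symm (h.cZ (h.comm b hb v v1.1) g))
  have e3 : μ ≡ d [ZMOD p] := modEq_cancel (u := μ * d ^ (M + 1)) (fun e =>
    ((Nat.prime_iff_prime_int.1 hp.out).dvd_or_dvd e).elim (hμ.not_dvd (char_mem _ α) y2 py)
      fun e => hd ((Nat.prime_iff_prime_int.1 hp.out).dvd_of_dvd_pow e))
    (by convert e2.trans e1.symm using 1; ring)
  refine ⟨by convert ((e3.mul_right _).symm.trans e1) using 1; ring, fun t => ?_⟩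
  obtain ⟨q, hq, k, rfl⟩ := (mem_sup_zpowers (nle Q a)).1 (h.sup_top h.aQ t)
  exact ((hμ.congr py e3).of_mem (char_mem _ α) (eQ.ge hq)).mul ((wt_of_eq h1).zpow k)
    (comm_mem_lcs (mem_top q) _)

theorem mul_pow' (hx : x ∈ lcs G 1) (s : G) : (x * s) ^ p = s ^ p := by
  have := norm_formula (N := lcs G) (fun _ _ => lcs_anti) lcs_comm (fun _ => inferInstance) (s := s)
    (fun k y hy => dstep_mem_lcs hy s) hp.out (fun x hx => h.pow_T h.aQ (h.eqT.le (lcs_anti (by omega) hx)) ▸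
      one_mem _) hx
  have e : ∀ j, (dstep s)^[j] x ∈ lcs G (j + 1) := fun j => by
    induction j with
    | zero => exact hx
    | succ j ih => rw [Function.iterate_succ_apply']; exact dstep_mem_lcs ih s
  have e1 := e (p - 1)
  rw [Nat.sub_add_cancel hp.out.pos, h.lcs_p] at e1
  rw [mem_bot.1 e1, h.pow_T h.aQ (h.eqT.le hx), mul_one, mul_one] at this
  exact mul_inv_eq_one.1 (inv_eq_one.1 (h.lcs_p.le (lcs_anti (by omega) this)))

theorem fin [Group.IsNilpotent G]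
    (tor : ∀ c d : ℤ, c * d ≡ 1 [ZMOD p] → ∃ α : G ≃* G, α a = a ^ d ∧ α z = z ^ c) :
    (5 ≤ p ∧ ∃ P : Sylow p (Lie.G2 (ZMod p)), Nonempty (G ≃* (P : Subgroup (Lie.G2 (ZMod p))))) ∨
      11 ≤ p ∧ Nat.card G = p ^ (p - 1) ∧ (∀ x : G, x ^ p = 1) ∧ Group.nilpotencyClass G = p - 2 := by
  have tr : ∀ d : ℤ, ¬ (p : ℤ) ∣ d → ∃ c, ∃ α : G ≃* G, c * d ≡ 1 [ZMOD p] ∧ α z = z ^ c ∧
      d ^ (M + 3) ≡ c [ZMOD p] ∧ ∀ t, Wt α (lcs G 1) t d := fun d hd => by
    obtain ⟨b, c, e⟩ := (Nat.prime_iff_prime_int.1 hp.out).coprime_iff_not_dvd.2 hd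
    have e' : c * d ≡ 1 [ZMOD p] := Int.modEq_iff_dvd.2 ⟨b, by linear_combination -e⟩
    obtain ⟨α, a1, a2⟩ := tor c d e'
    exact ⟨c, α, e', a2, h.wts a1 a2 hd⟩
  have dv : p - 1 ∣ M + 4 := by
    rw [← ZMod.card_units p, ← Nat.card_eq_fintype_card, ← IsCyclic.exponent_eq_card]
    refine Monoid.exponent_dvd_of_forall_pow_eq_one fun u => Units.ext ?_
    obtain ⟨d, hd⟩ := ZMod.intCast_surjective (u : ZMod p)
    obtain ⟨c, -, e1, -, e2, -⟩ := tr d fun e => u.ne_zero (hd ▸ (ZMod.intCast_zmod_eq_zero_iff_dvd d p).2 e)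
    have := (ZMod.intCast_eq_intCast_iff _ _ p).2 ((e2.mul_right d).trans e1)
    rw [Units.val_pow_eq_pow_val, ← hd, pow_succ]
    exact_mod_cast this
  have lt : M + 2 < p := not_le.1 fun e => h.lcs_ne e h.lcs_p
  have t2 := h.two_le
  have eM : p = M + 5 := by
    obtain ⟨_ | _ | k, hk⟩ := dv
    · omega
    · omega
    · have : (p - 1) * (k + 1 + 1) = (p - 1) * k + 2 * (p - 1) := by ring
      omega
  have ex : ∀ t : G, t ^ p = 1 := fun t => by_contra fun e => by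
    have nd : ∀ q : ℕ, q < 5 → q ≠ 0 → ¬ (p : ℤ) ∣ q := fun q h1 h2 e =>
      absurd (Nat.le_of_dvd (by omega) (Int.natCast_dvd_natCast.1 e)) (by omega)
    obtain ⟨c, α, e1, e2, -, e3⟩ := tr 2 (nd 2 (by omega) (by omega))
    obtain ⟨k, hk⟩ : ∃ k : ℤ, z ^ k = t ^ p := h.center_le h.nle_dd fun g => by
      rw [commutatorElement_def, ← conj_pow, ← comm_mul_eq, h.mul_pow' (comm_mem_lcs (mem_top g) t), mul_inv_cancel]
    have e4 := h.mul_pow' ((inferInstance : (lcs G 1).Normal).mem_comm (e3 t)) (t ^ (2 : ℤ))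
    rw [inv_mul_cancel_right, ← map_pow, ← zpow_natCast (t ^ (2 : ℤ)), zpow_comm, zpow_natCast] at e4
    have e5 := (wt_bot.2 e4).uniq (hk ▸ (wt_bot.2 e2).zpow k) e (hk ▸ h.powZ (zpow_mem_zpowers z k))
    exact nd 3 (by omega) (by omega) (by simpa using ((e5.mul_right 2).trans e1).symm.dvd)
  by_cases e7 : M = 2
  · subst e7
    obtain ⟨v, v1, v2⟩ := SetLike.not_le_iff_exists.1 fun e : dd Q z ≤ zpowers z => by
      have := card_le_of_le e
      rw [h.cardD', h.cardZ] at this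
      nlinarith
    obtain ⟨s, s1, s2⟩ := SetLike.not_le_iff_exists.1 fun e : ⊤ ⊓ centralizer {v} ≤ Q => by
      have := (h.card_cent (H := ⊤) fun g _ => comm_mem_symm ((h.mem_dd.1 v1).2 g)).trans
        (Nat.mul_le_mul_left _ (card_le_of_le (le_inf e inf_le_right)))
      rw [h.card_cw v1.1 v2, h.card_top] at this
      have := card_pos' Q
      nlinarith
    exact .inl (h.pres4 h.cardQ (fun x _ => ex x) s2 (ex s) h.cardD' fun x hx => comm_one_symm (comm_one_of_sup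
      (fun _ hb => comm_one_symm (h.cZ hb s)) (comm_one_iff.2 (mem_centralizer_singleton_iff.1 s1.2).symm) x
      ((sup_zpowers_eq (zpowers_le.2 h.z_dd) (relIndex_of_card (zpowers_le.2 h.z_dd)
        (by rw [h.cardD', h.cardZ, sq])) v1 v2).ge hx)))
  refine .inr ⟨not_lt.1 fun e => ?_, by rw [h.card, eM]; rfl, ex, le_antisymm
    (Subgroup.lowerCentralSeries_eq_bot_iff_nilpotencyClass_le.1 (by rw [eM]; exact h.lcs_bot))
    (not_lt.1 fun e => h.lcs_ne le_rfl (Subgroup.lowerCentralSeries_eq_bot_iff_nilpotencyClass_le.2 (by omega)))⟩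
  have := hp.out
  interval_cases p <;> first | omega | exact absurd this (by norm_num)

end XM

end Cfsg.Agent.H1
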