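import Cfsg.Agent.H1.X10

/-!
# The pearl case and the main theorem
-/

set_option autoImplicit false
set_option linter.unusedSectionVars false

namespace Cfsg.Agent.H1

open Equiv Cfsg.Fus Cfsg.FusionSystem Subgroup
open scoped commutatorElement

variable {p : ℕ} [hp : Fact p.Prime] {G : Type*} [Group G] [Finite G] {F : FusionSystem (⊤ : Subgroup G)}
  {A B D E H Q R : Subgroup G} {a b e g s t u v w x y z : G} {M j k : ℕ} {φ ψ τ β : Perm G}

namespace XM

variable (h : XM p Q z a M)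
include h

theorem inf_R (h1 : x ∈ lcs G (j + 1) ⊔ zpowers a) (h2 : x ∈ Q) : x ∈ lcs G (j + 1) := by
  obtain ⟨b, hb, k, rfl⟩ := (mem_sup_zpowers (nle _ _)).1 h1
  rwa [zpow_eq_one_of_mem h.ap h.aQ ((Q.mul_mem_cancel_left (h.LQ hb)).1 h2), mul_one]

theorem cardE : Nat.card (zpowers z ⊔ zpowers a : Subgroup G) = p * p := by
  haveI := h.nZ
  rw [card_sup_zp (nle _ a) (fun e => h.aQ (h.ZQ e)) (h.ap ▸ one_mem _), h.cardZ]

variable (hF : F.IsSaturated p) (hE : F.IsCentric (zpowers z ⊔ zpowers a))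
include hF hE

theorem ext_all : ∀ j ≤ M + 2, ∀ β, F.Iso (lcs G j ⊔ zpowers a) (lcs G j ⊔ zpowers a) β → β z ∈ zpowers z →
    ∃ α, F.Iso ⊤ ⊤ α ∧ ∀ x ∈ lcs G j ⊔ zpowers a, α x = β x
  | 0, _, β, hβ, _ => ⟨β, by simpa using hβ, fun _ _ => rfl⟩
  | j + 1, hj, β, hβ, hz => by
    haveI := h.nZ
    have ZL : zpowers z ≤ lcs G (j + 1) := h.eqZ ▸ lcs_anti hj
    have zR : z ∈ lcs G (j + 1) ⊔ zpowers a := mem_sup_left (ZL (mem_zpowers z))
    have aR : a ∈ lcs G (j + 1) ⊔ zpowers a := mem_sup_right (mem_zpowers a)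
    have mZ : ∀ x ∈ zpowers z, β x ∈ zpowers z := fun x hx => zpowers_le.2 hz (map_zp hβ.homOn zR hx)
    have i0 : ∀ x ∈ lcs G (j + 1), β x ∈ lcs G (j + 1) := fun x hx =>
      h.inf_R (hβ.mem (mem_sup_left hx)) (by_contra fun e => by
        obtain ⟨w, hw, k, e1⟩ := (mem_sup_zpowers (nle _ _)).1 (hβ.mem (mem_sup_left hx))
        obtain ⟨y, y1, y2⟩ := h.exists_comm (s := a ^ k) (fun t => e (e1 ▸ mul_mem (h.LQ hw) t))
          (h.eqT.le (lcs_anti (by omega) hw))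
        have xZ : x ∉ zpowers z := fun t => e (h.ZQ (mZ x t))
        have le := sup_le (ZL.trans le_sup_left) (zpowers_le.2 (mem_sup_left (T := zpowers a) hx))
        have m := (hβ.isMap.mono le).mul (F.isMap_cj le_rfl (mem_top y⁻¹)) fun _ _ => trivial
        have i := m.iso_of_card (m.homOn.mapsTo_sup (fun t ht => mem_sup_left
          (‹(zpowers z).Normal›.conj_mem _ (mZ t ht) y⁻¹)) fun t ht => zpowers_le.2 (by
            rw [Perm.mul_apply, e1, cj_apply, show y⁻¹ * (w * a ^ k) * y⁻¹⁻¹ =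
              y⁻¹ * (⁅y, a ^ k⁆ * (⁅y, a ^ k⁆⁻¹ * w) * ⁅y, a ^ k⁆⁻¹) * y⁻¹⁻¹ * a ^ k by
                simp only [commutatorElement_def]; group, h.conjZ y2, h.conjZ y2]
            exact mul_mem (mem_sup_left y2) (mem_sup_right (zpow_mem_zpowers a k)))
            (map_zp m.homOn (mem_sup_right (mem_zpowers x)) ht)) (by rw [h.cardE, h.card_zp (h.LQ hx) xZ])
        have := card_le_of_le (show cq Q (zpowers z ⊔ zpowers x) ≤ _ from fun t ht =>
          (hE.of_isConj i.symm.isConj).centralizerIn_le ⟨trivial, ht.2⟩)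
        rw [h.cq_zp, h.card_zp (h.LQ hx) xZ] at this
        have := (h.big.trans (h.card_cw (h.LQ hx) xZ).ge).trans (Nat.mul_le_mul_left _ this)
        rw [← pow_three] at this
        exact (Nat.pow_lt_pow_right hp.out.one_lt (by omega)).not_ge this)
    have i1 : ∀ i, ∀ x ∈ lcs G (j + i + 1), β x ∈ lcs G (j + i + 1) := fun i => by
      induction i with
      | zero => exact i0
      | succ i ih =>
        intro x hx
        obtain ⟨y, y1, rfl⟩ := h.un.surj _ x hx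
        rw [hβ.homOn.map_commutator (mem_sup_left (lcs_anti (by omega) y1)) aR]
        exact comm_mem_lcs (ih y y1) _
    have a1 : a ≠ 1 := fun e => h.aQ (e ▸ Q.one_mem)
    have le : lcs G j ⊔ zpowers a ≤ normalizerIn ⊤ (lcs G (j + 1) ⊔ zpowers a) := sup_le
      (fun x hx => ⟨trivial, normalizer_of_comm le_top fun y _ => mem_sup_left (comm_mem_lcs hx y)⟩)
      (zpowers_le.2 ⟨trivial, le_normalizer aR⟩)
    have c1 := mul_card_le h.pg' (sup_le_sup_right (lcs_anti (Nat.le_succ j)) (zpowers a)) fun e => by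
      rcases j with _ | j
      · exact h.exists_y.elim fun y hy => hy.2 (h.inf_R (e (mem_sup_left trivial)) hy.1)
      · exact not_lcs_le h.pg' (h.lcs_ne (by omega)) fun x hx => h.inf_R (e (mem_sup_left hx)) (h.LQ hx)
    have eN := eq_of_le_of_card_ge le ((card_norm_le h.pg' aR a1 h.un.card).trans c1)
    have fn : F.IsFullyNormalized (lcs G (j + 1) ⊔ zpowers a) := ⟨le_top, fun R hR => by
      obtain ⟨σ, hσ⟩ := hR.exists_iso
      have i := hσ.restrict (sup_le_sup_right ZL (zpowers a))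
      have c := hE.of_isConj i.isConj
      have zE := zpowers_le.2 (centric_zc_le c (mem_zc'.2 ⟨trivial, fun y _ => h.cen y⟩))
      have iE := relIndex_of_card zE (by rw [← i.card_eq, h.cardE, h.cardZ])
      obtain ⟨b, b1, b2⟩ := SetLike.not_le_iff_exists.1 fun e => hp.out.one_lt.ne' (iE.symm.trans (relIndex_eq_one.2 e))
      refine (card_norm_le h.pg' (hσ.img_eq ▸ img_mono σ (sup_le_sup_right ZL (zpowers a)) b1)
        (fun e : b = 1 => b2 (e ▸ one_mem _)) ((card_le_of_le fun g hg => c.centralizerIn_le ⟨trivial, fun t ht =>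
          comm_one_iff.1 (comm_one_of_sup (fun _ hb => comm_one_symm (h.cZ hb g))
            (comm_one_iff.2 (mem_centralizer_singleton_iff.1 hg).symm) t
            ((sup_zpowers_eq zE iE b1 b2).ge ht))⟩).trans (by rw [← i.card_eq, h.cardE, sq]))).trans ?_
      rw [← hσ.card_eq, ← eN]
      exact c1⟩
    obtain ⟨τ, t1, t2⟩ := ext_flag h.pg hF fn (n := M + 3)
      (C := fun i => (lcs G (j + 1) ⊔ zpowers a) ⊓ lcs G (M + 3 - i)) (by rw [Nat.sub_zero, h.lcs_bot, inf_bot_eq]) (by simp)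
      (fun _ _ => inf_le_left) (fun i _ => inf_le_inf_left _ (lcs_anti (by omega)))
      (fun g hg i hi x hx => ⟨mul_mem (Subgroup.inv_mem _ hx.1) (conj_mem_of_mem_normalizer hg.2 hx.1), by
        rw [show M + 3 - i = M + 3 - (i + 1) + 1 by omega]; exact dstep_mem_lcs hx.2 g⟩) hβ
      fun i _ x hx => ⟨hβ.mem hx.1, by
        generalize M + 3 - i = r at hx
        rcases r with _ | r
        · trivial
        rcases le_total r j with e | e
        · exact lcs_anti (by omega) (i0 x (h.inf_R hx.1 (h.LQ hx.2)))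
        · obtain ⟨i, rfl⟩ := Nat.exists_eq_add_of_le e
          exact i1 i x hx.2⟩
    rw [← eN] at t1
    obtain ⟨α, b1, b2⟩ := ext_all j (by omega) τ t1 (t2 z zR ▸ hz)
    exact ⟨α, b1, fun x hx => (b2 x (sup_le_sup_right (lcs_anti (Nat.le_succ j)) _ hx)).trans (t2 x hx)⟩

end XM

theorem XB.pearl [Group.IsNilpotent G] (h : XB F p Q z E) (hφ : F.Iso E E φ) (hz : φ z ∉ zpowers z)
    (hP : E ⊓ Q ≤ zpowers z) :
    (5 ≤ p ∧ ∃ P : Sylow p (Lie.G2 (ZMod p)), Nonempty (G ≃* (P : Subgroup (Lie.G2 (ZMod p))))) ∨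
      11 ≤ p ∧ Nat.card G = p ^ (p - 1) ∧ (∀ x : G, x ^ p = 1) ∧ Group.nilpotencyClass G = p - 2 := by
  haveI := h.nQ
  have nc := h.not_comm h.zQ le_rfl (Nat.le_mul_of_pos_left _ hp.out.pos)
  obtain ⟨g, g1, g2, g3⟩ := exists_comm_mem h.pg' fun e : Q ≤ zpowers z => nc fun x _ y hy => h.cZ (e hy) x
  obtain ⟨-, -, a, W, t⟩ := elem_qTv h.pg h.ess (elem_of (fun _ hx _ => h.ab hφ hz hx) fun _ => h.ex hφ hz)
    trivial (fun e => g2 (hP ⟨e, g1⟩)) h.zE (h.cZ' (mem_zpowers z) g) fun x _ => comm_mem_symm (g3 x)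
  obtain ⟨ψ, hψ, rfl⟩ := t.conj
  have hz' : ψ z ∉ zpowers z := fun e => t.ne (by rw [h.conjZ e, inv_mul_cancel]; exact one_mem _)
  have eE := h.supE (hψ.mem h.zE) (h.nQ' hψ hz')
  have i := h.idxE (hψ.mem h.zE) (h.nQ' hψ hz')
  rw [hP.antisymm (le_inf h.ZE h.ZQ)] at eE i
  obtain ⟨n, hn⟩ := h.pg'.exists_card_eq
  have : 6 ≤ n := (Nat.pow_le_pow_iff_right hp.out.one_lt).1 (by
    rw [← hn, ← Subgroup.card_top, h.card_top, pow_succ']; exact Nat.mul_le_mul_left _ h.big)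
  obtain ⟨M, rfl⟩ := Nat.exists_eq_add_of_le' (show 4 ≤ n by omega)
  have m : XM p Q z (ψ z) M := ⟨h.toXS, ⟨h.pg', fun e => nc fun x _ y _ => e.le (comm_mem_lcs (mem_top x) y),
    (card_le_of_le fun x hx => h.key ψ hψ hz' x (comm_one_iff.2 (mem_centralizer_singleton_iff.1 hx))).trans
      (by rw [card_of_relIndex h.ZE i, h.cardZ, sq])⟩, h.nQ' hψ hz', h.pow_z hψ, hn⟩
  refine m.fin fun c d hcd => ?_
  obtain ⟨τ, t1, t2, t3, -⟩ := t.torus c d hcd
  obtain ⟨α, a1, a2⟩ := m.ext_all h.sat (eE ▸ h.ess.isCentric) _ le_rfl τ (by rwa [m.eqZ, eE])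
    (inv_mul_eq_one.1 t2 ▸ zpow_mem_zpowers z c)
  rw [m.eqZ, eE] at a2
  exact ⟨toAut a1, (a2 _ (hψ.mem h.zE)).trans (inv_mul_eq_one.1 t3).symm,
    (a2 _ h.zE).trans (inv_mul_eq_one.1 t2).symm⟩

theorem XS.main [Group.IsNilpotent G] (h : XS p Q z) (hF : F.IsSaturated p) (hO : F.core = ⊥) : Six p G ∨
    (5 ≤ p ∧ ∃ P : Sylow p (Lie.G2 (ZMod p)), Nonempty (G ≃* (P : Subgroup (Lie.G2 (ZMod p))))) ∨
      11 ≤ p ∧ Nat.card G = p ^ (p - 1) ∧ (∀ x : G, x ^ p = 1) ∧ Group.nilpotencyClass G = p - 2 := by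
  obtain ⟨E, φ, x, hφ, hz⟩ := h.exists_xf hF hO
  by_cases e : ∀ ψ, F.Iso E E ψ → ψ z ∈ Q → ψ z ∈ zpowers z
  · by_cases e' : ∀ φ, F.Iso E E φ → φ z ∉ zpowers z → ∀ y ∈ Q, y ∈ normalizer (E : Set G) → y ∉ E →
      ⁅y, ⁅y, φ z⁆⁆ ≠ 1
    · exact .inl (XC.six ⟨⟨x, e⟩, e'⟩ hφ hz)
    · push Not at e'
      obtain ⟨ψ, a, b, y, c, d, f, g⟩ := e'
      exact .inr (XB.pearl ⟨x, e⟩ a b (XB.iso_pearl ⟨x, e⟩ a b c d f g))
  · push Not at e
    obtain ⟨ψ, a, b, c⟩ := e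
    exact (x.caseA a c b).imp_right .inl

end Cfsg.Agent.H1
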