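import Cfsg.Agent.H1.X1

/-!
# Two presentations of groups of order `p ^ 6`
-/

set_option autoImplicit false
set_option linter.unusedSectionVars false

namespace Cfsg.Agent.H1

open Cfsg.Fus Subgroup
open scoped commutatorElement

variable {G G' : Type*} [Group G] [Finite G] [Group G'] [Finite G'] {p : ℕ} [hp : Fact p.Prime]

/-- A polycyclic sequence with factors of order dividing `p`. -/
def PC (p : ℕ) : List G → Prop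
  | [] => True
  | x :: l => x ^ p = 1 ∧ (∀ y ∈ l, ⁅x, y⁆ ∈ closure {a | a ∈ l}) ∧ PC p l

theorem PC.card_le : ∀ {l : List G}, PC p l → Nat.card (closure {a | a ∈ l}) ≤ p ^ l.length
  | [], _ => by simp
  | x :: l, h => by
    have e : closure {a | a ∈ x :: l} = closure {a | a ∈ l} ⊔ zpowers x := by
      rw [zpowers_eq_closure, ← Subgroup.closure_union]
      congr 1; ext; simp [or_comm]
    have ih := h.2.2.card_le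
    rw [e, List.length_cons, pow_succ']
    by_cases hx : x ∈ closure {a | a ∈ l}
    · rw [sup_eq_left.2 (zpowers_le.2 hx)]
      exact ih.trans (Nat.le_mul_of_pos_left _ hp.out.pos)
    rw [card_sup_zp (mem_normalizer_of_finite fun y hy => ?_) hx (h.1 ▸ one_mem _)]
    · exact Nat.mul_le_mul_left _ ih
    refine (closure_le ((closure {a | a ∈ l}).comap (MulAut.conj x).toMonoidHom)).2 (fun y hy => ?_) hy
    simpa [commutatorElement_def] using mul_mem (h.2.1 y hy) (subset_closure hy)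

theorem PC.exists_hom {l : List (G × G')} (h : PC p l) (hc : p ^ l.length ≤ Nat.card G)
    (gen : ⊤ ≤ closure {a | a ∈ l.map Prod.fst}) : ∃ θ : G →* G', ∀ a ∈ l, θ a.1 = a.2 := by
  let f := (MonoidHom.fst G G').comp (closure {a | a ∈ l}).subtype
  have sj : Function.Surjective f := MonoidHom.range_eq_top.1 (top_unique (gen.trans
    ((closure_le _).2 fun a ha => by
      obtain ⟨b, hb, rfl⟩ := List.mem_map.1 ha
      exact ⟨⟨b, subset_closure hb⟩, rfl⟩)))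
  let e := MulEquiv.ofBijective f (sj.bijective_of_nat_card_le (h.card_le.trans hc))
  exact ⟨((MonoidHom.snd G G').comp (closure {a | a ∈ l}).subtype).comp e.symm.toMonoidHom,
    fun a ha => congrArg (fun x : closure {a | a ∈ l} => x.1.2) (e.symm_apply_apply ⟨a, subset_closure ha⟩)⟩

/-- The relations of the Sylow subgroups of `SL₄(p)` and `SU₄(p)`. -/
structure RA (p : ℕ) (d : ℤ) (y₁ y₂ e u₁ u₂ z : G) : Prop where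
  p1 : y₁ ^ p = 1
  p2 : y₂ ^ p = 1
  p3 : e ^ p = 1
  p4 : u₁ ^ p = 1
  p5 : u₂ ^ p = 1
  p6 : z ^ p = 1
  c12 : ⁅y₁, y₂⁆ = 1
  c13 : ⁅y₁, e⁆ = u₁
  c14 : ⁅y₁, u₁⁆ = z
  c15 : ⁅y₁, u₂⁆ = 1
  c16 : ⁅y₁, z⁆ = 1
  c23 : ⁅y₂, e⁆ = u₂
  c24 : ⁅y₂, u₁⁆ = 1
  c25 : ⁅y₂, u₂⁆ = z ^ d
  c26 : ⁅y₂, z⁆ = 1
  c34 : ⁅e, u₁⁆ = 1
  c35 : ⁅e, u₂⁆ = 1
  c36 : ⁅e, z⁆ = 1
  c45 : ⁅u₁, u₂⁆ = 1
  c46 : ⁅u₁, z⁆ = 1
  c56 : ⁅u₂, z⁆ = 1

/-- The relations of the Sylow subgroup of `G₂(p)`. -/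
structure RG (p : ℕ) (s q₁ q₂ q₃ q₄ z : G) : Prop where
  p1 : s ^ p = 1
  p2 : q₁ ^ p = 1
  p3 : q₂ ^ p = 1
  p4 : q₃ ^ p = 1
  p5 : q₄ ^ p = 1
  p6 : z ^ p = 1
  c12 : ⁅s, q₁⁆ = q₂⁻¹
  c13 : ⁅s, q₂⁆ = q₃⁻¹
  c14 : ⁅s, q₃⁆ = q₄⁻¹
  c15 : ⁅s, q₄⁆ = 1
  c16 : ⁅s, z⁆ = 1
  c23 : ⁅q₁, q₂⁆ = 1
  c24 : ⁅q₁, q₃⁆ = z⁻¹
  c25 : ⁅q₁, q₄⁆ = z
  c26 : ⁅q₁, z⁆ = 1
  c34 : ⁅q₂, q₃⁆ = z⁻¹
  c35 : ⁅q₂, q₄⁆ = 1
  c36 : ⁅q₂, z⁆ = 1
  c45 : ⁅q₃, q₄⁆ = 1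
  c46 : ⁅q₃, z⁆ = 1
  c56 : ⁅q₄, z⁆ = 1

variable {d : ℤ} {a₁ a₂ a₃ a₄ a₅ a₆ : G} {b₁ b₂ b₃ b₄ b₅ b₆ : G'}

theorem RA.exists_hom (h : RA p d a₁ a₂ a₃ a₄ a₅ a₆) (h' : RA p d b₁ b₂ b₃ b₄ b₅ b₆)
    (hc : Nat.card G = p ^ 6) (gen : ⊤ ≤ closure {a₁, a₂, a₃}) :
    ∃ θ : G →* G', θ a₁ = b₁ ∧ θ a₂ = b₂ ∧ θ a₃ = b₃ ∧ θ a₆ = b₆ := by
  have t : RA p d (a₁, b₁) (a₂, b₂) (a₃, b₃) (a₄, b₄) (a₅, b₅) (a₆, b₆) := by
    cases h; cases h'; constructor <;> exact Prod.ext ‹_› ‹_›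
  obtain ⟨θ, hθ⟩ := PC.exists_hom (p := p)
    (l := [(a₁, b₁), (a₂, b₂), (a₃, b₃), (a₄, b₄), (a₅, b₅), (a₆, b₆)]) (by
      cases t
      simp only [PC, List.forall_mem_cons, List.not_mem_nil, IsEmpty.forall_iff, implies_true, one_mem,
        and_true, true_and, *]
      refine ⟨⟨?_, ?_⟩, ?_, zpow_mem ?_ d⟩ <;> exact subset_closure (by simp)) hc.ge
    (gen.trans (closure_mono (by simp [Set.insert_subset_iff])))
  exact ⟨θ, hθ (a₁, b₁) (by simp), hθ (a₂, b₂) (by simp), hθ (a₃, b₃) (by simp), hθ (a₆, b₆) (by simp)⟩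

theorem RG.exists_hom (h : RG p a₁ a₂ a₃ a₄ a₅ a₆) (h' : RG p b₁ b₂ b₃ b₄ b₅ b₆)
    (hc : Nat.card G = p ^ 6) (gen : ⊤ ≤ closure {a₁, a₂}) :
    ∃ θ : G →* G', θ a₁ = b₁ ∧ θ a₂ = b₂ ∧ θ a₆ = b₆ := by
  have t : RG p (a₁, b₁) (a₂, b₂) (a₃, b₃) (a₄, b₄) (a₅, b₅) (a₆, b₆) := by
    cases h; cases h'; constructor <;> exact Prod.ext ‹_› ‹_›
  obtain ⟨θ, hθ⟩ := PC.exists_hom (p := p)
    (l := [(a₁, b₁), (a₂, b₂), (a₃, b₃), (a₄, b₄), (a₅, b₅), (a₆, b₆)]) (by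
      cases t
      simp only [PC, List.forall_mem_cons, List.not_mem_nil, IsEmpty.forall_iff, implies_true, one_mem,
        and_true, true_and, inv_mem_iff, *]
      refine ⟨⟨?_, ?_, ?_⟩, ⟨?_, ?_⟩, ?_⟩ <;> exact subset_closure (by simp)) hc.ge
    (gen.trans (closure_mono (by simp [Set.insert_subset_iff])))
  exact ⟨θ, hθ (a₁, b₁) (by simp), hθ (a₂, b₂) (by simp), hθ (a₆, b₆) (by simp)⟩

/-- The image of an embedding is a Sylow subgroup. -/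
theorem exists_sylow_of (θ : G →* G') (hθ : Function.Injective θ) (hG : IsPGroup p G) {N : Subgroup G'}
    (h1 : θ.range ≤ N) (h2 : Nat.card N ≤ Nat.card G)
    (h3 : ∀ g ∈ normalizer (N : Set G'), ∀ k, g ^ p ^ k = 1 → g ∈ N) :
    ∃ P : Sylow p G', Nonempty (G ≃* (P : Subgroup G')) := by
  have e := MonoidHom.ofInjective hθ
  obtain rfl := eq_of_le_of_card_ge h1 (h2.trans (Nat.card_congr e.toEquiv).le)
  refine ⟨⟨θ.range, hG.of_equiv e, fun {Q} hQ hle => by_contra fun ne => ?_⟩, ⟨e⟩⟩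
  obtain ⟨g, hg, hg'⟩ := SetLike.exists_of_lt (lt_normalizerIn hQ (hle.lt_of_ne' ne))
  obtain ⟨k, hk⟩ := hQ ⟨g, hg.1⟩
  exact hg' (h3 g hg.2 k (congrArg Subtype.val hk))

theorem XS.injective {Q : Subgroup G} {z z' : G} (h : XS p Q z) (hD : ¬ Q ≤ dd Q z) (θ : G →* G')
    (hz : z' ∈ zpowers z) (h1 : θ z' ≠ 1) : Function.Injective θ := by
  refine (MonoidHom.ker_eq_bot_iff θ).1 (by_contra fun e => ?_)
  obtain ⟨c, c1, c2, c3⟩ := exists_zO h.pg e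
  obtain ⟨k, rfl⟩ := exists_zpow_eq_of_prime h.zp (h.center_le hD (mem_zO.1 c3).1) c2 hz
  exact h1 (θ.ker.zpow_mem c1 k)

end Cfsg.Agent.H1
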