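import Cfsg.Agent.H1.X2
import Cfsg.Prelude.Def_G2

/-!
# The Sylow `p`-subgroup of `G₂(p)`
-/

set_option autoImplicit false
set_option linter.unusedSectionVars false

namespace Cfsg.Agent.H1

open Cfsg.Fus Subgroup Matrix Cfsg.Lie
open scoped commutatorElement

variable {p : ℕ} [hp : Fact p.Prime] {K : Type*} [Field K] [CharP K p] {n : ℕ}

theorem pow_eq_one_of_cube [NeZero n] (hp2 : p ≠ 2) {M : Matrix (Fin n) (Fin n) K}
    (h : (M - 1) ^ 3 = 0) : M ^ p = 1 := by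
  have := sub_pow_char_of_commute p (Commute.one_right M)
  rw [pow_eq_zero_of_le (hp.out.two_le.lt_of_ne' hp2) h, one_pow] at this
  exact (sub_eq_zero.1 this.symm)

/-- a `p`-element stabilising a flag of length two acts trivially on its factors -/
theorem eig_one {M : Matrix (Fin n) (Fin n) K} {v w : Fin n → K} {a b m : K} {i j : Fin n} {k : ℕ}
    (hM : M ^ p ^ k = 1) (h1 : M *ᵥ v = a • v) (h2 : M *ᵥ w = m • w + b • v) (hv : v i = 1)
    (hw : w j = 1) (hv' : v j = 0) : a = 1 ∧ m = 1 := by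
  have key : ∀ r : ℕ, (M ^ r) *ᵥ v = a ^ r • v ∧ ∃ c : K, (M ^ r) *ᵥ w = m ^ r • w + c • v := fun r => by
    induction r with
    | zero => exact ⟨by simp, 0, by simp⟩
    | succ r ih =>
      obtain ⟨e, c, e'⟩ := ih
      simp only [pow_succ', ← mulVec_mulVec, e, e', mulVec_add, mulVec_smul, h1, h2]
      exact ⟨by module, m ^ r * b + c * a, by module⟩
  obtain ⟨e, c, e'⟩ := key (p ^ k)
  have f : ∀ x : K, 1 = x ^ p ^ k → x = 1 := fun x hx =>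
    (iterateFrobenius K p k).injective (by rw [map_one]; exact hx.symm)
  rw [hM, one_mulVec] at e e'
  exact ⟨f a (by simpa [hv] using congrFun e i), f m (by simpa [hw, hv'] using congrFun e' j)⟩

/-- A unipotent integral matrix as an invertible matrix over `K`. -/
def uInt (K : Type*) [Field K] [CharP K p] (hp2 : p ≠ 2) (A : Matrix (Fin 8) (Fin 8) ℤ)
    (h : (A - 1) * (A - 1) * (A - 1) = 0) : GL (Fin 8) K :=
  Units.ofPowEqOne ((Int.castRingHom K).mapMatrix A) p (pow_eq_one_of_cube hp2 (by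
    rw [← map_one (Int.castRingHom K).mapMatrix, ← map_sub, ← map_pow, pow_three', h, map_zero]))
    hp.out.ne_zero

section
variable {hp2 : p ≠ 2} {A B C : Matrix (Fin 8) (Fin 8) ℤ} {hA : (A - 1) * (A - 1) * (A - 1) = 0}
  {hB : (B - 1) * (B - 1) * (B - 1) = 0} {hC : (C - 1) * (C - 1) * (C - 1) = 0}

theorem uInt_val : (uInt K hp2 A hA).1 = (Int.castRingHom K).mapMatrix A := rfl

theorem uInt_pow : uInt K hp2 A hA ^ p = 1 := Units.pow_ofPowEqOne _ _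

theorem uInt_comm (h : A * B = C * B * A) : ⁅uInt K hp2 A hA, uInt K hp2 B hB⁆ = uInt K hp2 C hC := by
  rw [commutatorElement_def, mul_inv_eq_iff_eq_mul, mul_inv_eq_iff_eq_mul]
  exact Units.ext (by simp only [Units.val_mul, uInt_val, ← map_mul, h])

theorem uInt_inv (h : B * A = C * A * B) : ⁅uInt K hp2 A hA, uInt K hp2 B hB⁆ = (uInt K hp2 C hC)⁻¹ := by
  rw [← commutatorElement_inv, uInt_comm h]

theorem uInt_one (h : A * B = B * A) : ⁅uInt K hp2 A hA, uInt K hp2 B hB⁆ = 1 :=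
  commutatorElement_eq_one_iff_mul_comm.2 (Units.ext (by simp only [Units.val_mul, uInt_val, ← map_mul, h]))

end

/-- the short root element -/
def g2s : Matrix (Fin 8) (Fin 8) ℤ := !![1, 0, 0, 1, 0, 0, 0, 0; 0, 1, 0, 0, 0, 1, 0, 0; 0, 0, 1, 0, -1, 0, 0, 0; 0, 0, 0, 1, 0, 0, 0, 0; 0, 0, 0, 0, 1, 0, 0, 0; 0, 0, 0, 0, 0, 1, 0, 0; -1, 0, 0, -1, 0, 0, 1, 1; 0, 0, 0, -1, 0, 0, 0, 1]
/-- the second generator -/
def g2a : Matrix (Fin 8) (Fin 8) ℤ := !![1, 0, 0, 0, -1, 0, 0, 0; 1, 1, 0, 0, -1, 0, 0, -1; 0, 0, 1, 0, 0, 0, 0, 0; 0, 0, 6, 1, 0, 0, 0, 0; 0, 0, 0, 0, 1, 0, 0, 0; 0, 0, -6, -1, 0, 1, -6, 0; 0, 0, 1, 0, 0, 0, 1, 0; 0, 0, 0, 0, 1, 0, 0, 1]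
/-- a commutator -/
def g2b : Matrix (Fin 8) (Fin 8) ℤ := !![1, 0, -6, 0, -6, 0, 0, 0; 6, 1, -18, -3, -18, 0, 6, -6; 0, 0, 1, 0, 0, 0, 0, 0; 0, 0, 0, 1, -6, 0, 0, 0; 0, 0, 0, 0, 1, 0, 0, 0; 6, 0, -36, -6, -18, 1, 0, -6; 0, 0, 6, 0, 3, 0, 1, 0; 0, 0, 6, 0, 6, 0, 0, 1]
/-- a commutator -/
def g2c : Matrix (Fin 8) (Fin 8) ℤ := !![1, 0, 0, 0, 12, 0, 0, 0; -12, 1, -108, 36, -144, 0, 0, 12; 0, 0, 1, 0, 0, 0, 0, 0; 0, 0, 0, 1, 0, 0, 0, 0; 0, 0, 0, 0, 1, 0, 0, 0; 0, 0, 0, 12, 108, 1, 0, 0; 0, 0, -12, 0, -36, 0, 1, 0; 0, 0, 0, 0, -12, 0, 0, 1]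
/-- a commutator -/
def g2d : Matrix (Fin 8) (Fin 8) ℤ := !![1, 0, 0, 0, 0, 0, 0, 0; 0, 1, 0, -36, 0, 0, 0, 0; 0, 0, 1, 0, 0, 0, 0, 0; 0, 0, 0, 1, 0, 0, 0, 0; 0, 0, 0, 0, 1, 0, 0, 0; 0, 0, 0, 0, 0, 1, 0, 0; 0, 0, 0, 0, 36, 0, 1, 0; 0, 0, 0, 0, 0, 0, 0, 1]
/-- the central element -/
def g2z : Matrix (Fin 8) (Fin 8) ℤ := !![1, 0, 0, 0, 0, 0, 0, 0; 0, 1, 216, 0, 0, 0, 0, 0; 0, 0, 1, 0, 0, 0, 0, 0; 0, 0, 0, 1, 0, 0, 0, 0; 0, 0, 0, 0, 1, 0, 0, 0; 0, 0, 0, 0, -216, 1, 0, 0; 0, 0, 0, 0, 0, 0, 1, 0; 0, 0, 0, 0, 0, 0, 0, 1]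

theorem rg_g2 (hp2 : p ≠ 2) : RG p (uInt K hp2 g2s (by decide +kernel)) (uInt K hp2 g2a (by decide +kernel))
    (uInt K hp2 g2b (by decide +kernel)) (uInt K hp2 g2c (by decide +kernel))
    (uInt K hp2 g2d (by decide +kernel)) (uInt K hp2 g2z (by decide +kernel)) := by
  constructor <;> first
    | exact uInt_pow
    | exact uInt_one (by decide +kernel)
    | exact uInt_inv (by decide +kernel)
    | exact uInt_comm (by decide +kernel)

theorem g2s_vec (x : Fin 8 → K) : (Int.castRingHom K).mapMatrix g2s *ᵥ x =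
    ![x 0 + x 3, x 1 + x 5, x 2 - x 4, x 3, x 4, x 5, x 6 + x 7 - x 0 - x 3, x 7 - x 3] := by
  ext i; fin_cases i <;> simp [g2s, mulVec, dotProduct, Fin.sum_univ_eight] <;> ring

theorem g2a_vec (x : Fin 8 → K) : (Int.castRingHom K).mapMatrix g2a *ᵥ x =
    ![x 0 - x 4, x 0 + x 1 - x 4 - x 7, x 2, 6 * x 2 + x 3, x 4, x 5 - 6 * x 2 - x 3 - 6 * x 6,
      x 2 + x 6, x 4 + x 7] := by
  ext i; fin_cases i <;> simp [g2a, mulVec, dotProduct, Fin.sum_univ_eight] <;> ring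

/-- basis vectors -/
abbrev bv (K : Type*) [Field K] (i : Fin 8) : Fin 8 → K := Pi.single i 1

/-- The stabiliser of a flag. -/
def g2N (K : Type*) [Field K] : Subgroup (G2 K) where
  carrier := {g | g.1.1 *ᵥ bv K 1 = bv K 1 ∧ ∃ c : K, g.1.1 *ᵥ bv K 5 = bv K 5 + c • bv K 1}
  one_mem' := ⟨one_mulVec _, 0, by rw [zero_smul, add_zero]; exact one_mulVec _⟩
  mul_mem' := by
    rintro g h ⟨g1, c, g2⟩ ⟨h1, d, h2⟩
    simp only [Set.mem_ofPred_eq, Subgroup.coe_mul, Units.val_mul, ← mulVec_mulVec, g1, g2, h1, h2,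
      mulVec_add, mulVec_smul]
    exact ⟨trivial, c + d, by module⟩
  inv_mem' := by
    rintro g ⟨g1, c, g2⟩
    have e : ∀ v, g⁻¹.1.1 *ᵥ (g.1.1 *ᵥ v) = v := fun v => by
      rw [mulVec_mulVec, ← Units.val_mul, ← Subgroup.coe_mul, inv_mul_cancel]; exact one_mulVec v
    have e1 := g1 ▸ e (bv K 1)
    have e2 := e (bv K 5)
    rw [g2, mulVec_add, mulVec_smul, e1] at e2
    exact ⟨e1, -c, by rw [neg_smul, ← sub_eq_add_neg, eq_sub_iff_add_eq, e2]⟩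

theorem zorn_bv (i j k : Fin 8) (c : ℤ) (h : zornMul (Pi.single i (1 : ℤ)) (Pi.single j 1) = c • Pi.single k 1)
    (g : G2 K) : zornMul (g.1.1 *ᵥ bv K i) (g.1.1 *ᵥ bv K j) = (c : K) • g.1.1 *ᵥ bv K k := by
  have e : ∀ i : Fin 8, bv K i = fun l => ((Pi.single i (1 : ℤ) : Fin 8 → ℤ) l : K) := fun i => by
    ext l; simp [Pi.single_apply]
  have e' : ∀ x y : Fin 8 → ℤ, zornMul (fun l => (x l : K)) (fun l => (y l : K)) =
      fun l => ((zornMul x y l : ℤ) : K) := fun x y => by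
    ext l; fin_cases l <;> simp [zornMul, dot3, cross3]
  refine (g.2 _ _).symm.trans ?_
  rw [← mulVec_smul, e i, e j, e', h, e k]
  congr 1; ext l; simp

theorem card_g2N [Fintype K] : Nat.card (g2N K) ≤ Nat.card K ^ 6 := by
  have key : ∀ g ∈ g2N K, ∀ X Y, g.1.1 *ᵥ bv K 2 = X → g.1.1 *ᵥ bv K 3 = Y →
      X = ![X 0, X 1, 1, X 3, 0, -X 0 ^ 2 + X 3 * (2 * X 0 * Y 0 + Y 5 - X 3 * Y 0 ^ 2),
        X 3 * Y 0 ^ 2 - 2 * X 0 * Y 0 - Y 5, -X 0] ∧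
      Y = ![Y 0, Y 1, 0, 1, 0, Y 5, -Y 0 ^ 2, -Y 0] := by
    rintro g ⟨g1, c, g2⟩ X Y hX hY
    have e1 := zorn_bv 1 3 5 (-1) (by decide) g
    have e2 := zorn_bv 3 1 5 1 (by decide) g
    have e3 := zorn_bv 3 3 0 0 (by decide) g
    have e4 := (zorn_bv 1 2 6 1 (by decide) g).trans
      (neg_eq_iff_eq_neg.2 ((zorn_bv 2 1 6 (-1) (by decide) g).trans (by simp))).symm
    have e5 := zorn_bv 0 1 1 1 (by decide) g
    have e6 := zorn_bv 2 5 0 1 (by decide) g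
    have e7 := zorn_bv 2 2 0 0 (by decide) g
    have e8 := (zorn_bv 2 3 4 1 (by decide) g).trans
      (neg_eq_iff_eq_neg.2 ((zorn_bv 3 2 4 (-1) (by decide) g).trans (by simp))).symm
    rw [Int.cast_one, one_smul] at e6
    simp only [← e6, g1, g2, hX, hY] at e1 e2 e3 e4 e5 e7 e8
    have f1 := congrFun e1 0
    have f2 := congrFun e1 1
    have f3 := congrFun e1 5
    have f4 := congrFun e1 6
    have f5 := congrFun e2 1
    have f6 := congrFun e3 0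
    have f7 := congrFun e4 0
    have f8 := congrFun e4 1
    have f9 := congrFun e5 1
    have f10 := congrFun e7 0
    have f11 := congrFun e8 0
    simp [zornMul, dot3, cross3] at f1 f2 f3 f4 f5 f6 f7 f8 f9 f10 f11
    simp [f1, f3, f4, f7] at f6 f9 f10 f11
    simp [f9] at f10 f11
    have f12 : Y 6 = -Y 0 ^ 2 := by linear_combination f6
    have f13 : X 6 = X 3 * Y 0 ^ 2 - 2 * X 0 * Y 0 - Y 5 := by linear_combination f11 - X 3 * f12
    rw [← f5] at f2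
    constructor <;> ext i <;> fin_cases i <;> simp [f1, f2, f3, f4, f7, f8, f9, f12, f13]
    linear_combination f10 - X 3 * f13
  have := Nat.card_le_card_of_injective (fun g : g2N K => ![(g.1.1.1 *ᵥ bv K 2) 0, (g.1.1.1 *ᵥ bv K 2) 1,
    (g.1.1.1 *ᵥ bv K 2) 3, (g.1.1.1 *ᵥ bv K 3) 0, (g.1.1.1 *ᵥ bv K 3) 1, (g.1.1.1 *ᵥ bv K 3) 5])
    fun g h e => by
      simp only [vecCons_inj, and_true] at e
      obtain ⟨a1, a2⟩ := key _ g.2 _ _ rfl rfl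
      obtain ⟨b1, b2⟩ := key _ h.2 _ _ rfl rfl
      have c1 := g.2.1.trans h.2.1.symm
      have c2 : g.1.1.1 *ᵥ bv K 2 = h.1.1.1 *ᵥ bv K 2 := by rw [a1, b1]; simp only [e]
      have c3 : g.1.1.1 *ᵥ bv K 3 = h.1.1.1 *ᵥ bv K 3 := by rw [a2, b2]; simp only [e]
      have st : ∀ i j k, zornMul (Pi.single i (1 : ℤ)) (Pi.single j 1) = (1 : ℤ) • Pi.single k 1 →
          g.1.1.1 *ᵥ bv K i = h.1.1.1 *ᵥ bv K i → g.1.1.1 *ᵥ bv K j = h.1.1.1 *ᵥ bv K j →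
          g.1.1.1 *ᵥ bv K k = h.1.1.1 *ᵥ bv K k := fun i j k t e1 e2 => by
        have := (zorn_bv i j k 1 t g.1).symm.trans (e1 ▸ e2 ▸ zorn_bv i j k 1 t h.1)
        rwa [Int.cast_one, one_smul, one_smul] at this
      have c4 := st 2 3 4 (by decide) c2 c3
      refine Subtype.ext (Subtype.ext (Units.ext (Matrix.ext fun i j => ?_)))
      have : g.1.1.1 *ᵥ bv K j = h.1.1.1 *ᵥ bv K j := by
        fin_cases j
        exacts [st 1 4 0 (by decide) c1 c4, c1, c2, c3, c4, st 3 1 5 (by decide) c3 c1,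
          st 1 2 6 (by decide) c1 c2, st 4 1 7 (by decide) c4 c1]
      simpa using congrFun this i
  simpa using this

theorem g2_norm (n6 : (6 : K) ≠ 0) {X Y : Fin 8 → K} {c1 c2 : K}
    (a1 : (Int.castRingHom K).mapMatrix g2s *ᵥ X = X)
    (a2 : (Int.castRingHom K).mapMatrix g2s *ᵥ Y = Y + c1 • X)
    (b1 : (Int.castRingHom K).mapMatrix g2a *ᵥ X = X)
    (b2 : (Int.castRingHom K).mapMatrix g2a *ᵥ Y = Y + c2 • X)
    (s1 : zornMul X X 0 = 0) (s2 : zornMul Y Y 0 = 0) :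
    X = X 1 • bv _ 1 ∧ Y = Y 5 • bv _ 5 + Y 1 • bv _ 1 := by
  rw [g2s_vec] at a1 a2
  rw [g2a_vec] at b1 b2
  have x3 : X 3 = 0 := by simpa using congrFun a1 0
  have x5 : X 5 = 0 := by simpa using congrFun a1 1
  have x4 : X 4 = 0 := by simpa using congrFun a1 2
  have x2 : X 2 = 0 := by simpa using congrFun b1 6
  have x6 : X 6 = 0 := by simpa [x2, x3, n6] using congrFun b1 5
  have x0 : X 0 = 0 := by simpa [zornMul, dot3, x2, x3, x4, x5, x6] using s1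
  have x7 : X 7 = 0 := by simpa [x0, x3, x6] using congrFun a1 6
  have y3 : Y 3 = 0 := by simpa [x0] using congrFun a2 0
  have y4 : Y 4 = 0 := by simpa [x2] using congrFun a2 2
  have y2 : Y 2 = 0 := by simpa [x6] using congrFun b2 6
  have y6 : Y 6 = 0 := by simpa [y2, y3, x5, n6] using congrFun b2 5
  have y0 : Y 0 = 0 := by simpa [zornMul, dot3, y2, y3, y4, y6] using s2
  have y7 : Y 7 = 0 := by simpa [y0, y3, y6, x6] using congrFun a2 6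
  constructor <;> ext i <;> fin_cases i <;> simp [x0, x2, x3, x4, x5, x6, x7, y0, y2, y3, y4, y6, y7]

theorem g2s_mem (hp2 : p ≠ 2) : uInt K hp2 g2s (by decide +kernel) ∈ G2 K := fun x y => by
  simp only [Units.coeHom_apply, uInt_val, g2s_vec]
  ext i; fin_cases i <;> simp [zornMul, dot3, cross3] <;> ring

theorem g2a_mem (hp2 : p ≠ 2) : uInt K hp2 g2a (by decide +kernel) ∈ G2 K := fun x y => by
  simp only [Units.coeHom_apply, uInt_val, g2a_vec]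
  ext i; fin_cases i <;> simp [zornMul, dot3, cross3] <;> ring

theorem g2s_N {g : G2 K} (h : g.1.1 = (Int.castRingHom K).mapMatrix g2s) : g ∈ g2N K := ⟨by
  rw [h, g2s_vec]; ext i; fin_cases i <;> simp, 1, by rw [h, g2s_vec]; ext i; fin_cases i <;> simp⟩

theorem g2a_N {g : G2 K} (h : g.1.1 = (Int.castRingHom K).mapMatrix g2a) : g ∈ g2N K := ⟨by
  rw [h, g2a_vec]; ext i; fin_cases i <;> simp, 0, by rw [h, g2a_vec]; ext i; fin_cases i <;> simp⟩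

theorem g2N_norm (hp2 : p ≠ 2) (n6 : (6 : K) ≠ 0) {g : G2 K} (hg : g ∈ normalizer (g2N K : Set (G2 K))) {k : ℕ}
    (hk : g ^ p ^ k = 1) : g ∈ g2N K := by
  have key : ∀ x ∈ g2N K, x.1.1 *ᵥ (g.1.1 *ᵥ bv _ 1) = g.1.1 *ᵥ bv _ 1 ∧
      ∃ c : K, x.1.1 *ᵥ (g.1.1 *ᵥ bv _ 5) = g.1.1 *ᵥ bv _ 5 + c • g.1.1 *ᵥ bv _ 1 := fun x hx => by
    obtain ⟨e1, c, e2⟩ := conj_inv_mem_of_mem_normalizer hg hx
    have e : ∀ v, x.1.1 *ᵥ (g.1.1 *ᵥ v) = g.1.1 *ᵥ ((g⁻¹ * x * g).1.1 *ᵥ v) := fun v => by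
      simp only [mulVec_mulVec, ← Units.val_mul, ← Subgroup.coe_mul, ← mul_assoc, mul_inv_cancel, one_mul]
    exact ⟨by rw [e, e1], c, by rw [e, e2, mulVec_add, mulVec_smul]⟩
  obtain ⟨a1, c1, a2⟩ := key ⟨_, g2s_mem hp2⟩ (g2s_N rfl)
  obtain ⟨b1, c2, b2⟩ := key ⟨_, g2a_mem hp2⟩ (g2a_N rfl)
  obtain ⟨eX, eY⟩ := g2_norm n6 a1 a2 b1 b2 (by simpa using congrFun (zorn_bv 1 1 0 0 (by decide) g) 0)
    (by simpa using congrFun (zorn_bv 5 5 0 0 (by decide) g) 0)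
  obtain ⟨e1, e2⟩ := eig_one (i := 1) (j := 5) (congrArg (fun x : G2 K => x.1.1) hk) eX eY
    (by simp) (by simp) (by simp)
  rw [e1, one_smul] at eX
  rw [e2, one_smul] at eY
  exact ⟨eX, _, eY⟩

theorem RG.sylow_g2 {G : Type*} [Group G] [Finite G] {Q : Subgroup G} {z s a b c d z' : G}
    (h : XS p Q z) (hD : ¬ Q ≤ dd Q z) (r : RG p s a b c d z') (hz : z' ∈ zpowers z)
    (hc : Nat.card G = p ^ 6) (gen : ⊤ ≤ closure {s, a}) (h5 : 5 ≤ p) :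
    ∃ P : Sylow p (G2 (ZMod p)), Nonempty (G ≃* (P : Subgroup (G2 (ZMod p)))) := by
  have n6 : (6 : ZMod p) ≠ 0 := fun e => by
    have := (ZMod.natCast_eq_zero_iff 6 p).1 e
    have := Nat.le_of_dvd (by norm_num) this
    interval_cases p <;> first | omega | exact absurd hp.out (by norm_num)
  obtain ⟨θ, t1, t2, t3⟩ := r.exists_hom (rg_g2 (K := ZMod p) h.p2) hc gen
  have m : ∀ g, θ g ∈ G2 (ZMod p) := fun g => (closure_le ((G2 _).comap θ)).2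
    (Set.pair_subset (t1 ▸ g2s_mem h.p2 : θ s ∈ G2 _) (t2 ▸ g2a_mem h.p2 : θ a ∈ G2 _)) (gen trivial)
  refine exists_sylow_of (N := g2N (ZMod p)) (θ.codRestrict _ m) (h.injective hD _ hz fun e => ?_) h.pg' ?_
    (by simpa [hc] using card_g2N (K := ZMod p)) fun g hg k hk => g2N_norm h.p2 n6 hg hk
  · have := congrFun (congrFun (congrArg (fun x : G2 (ZMod p) => x.1.1) e) 1) 2
    simp [t3, uInt_val, g2z] at this
    exact pow_ne_zero 3 n6 (by linear_combination this)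
  · rintro _ ⟨g, rfl⟩
    exact (closure_le ((g2N _).comap _)).2 (Set.pair_subset (g2s_N (congrArg Units.val t1))
      (g2a_N (congrArg Units.val t2))) (gen trivial)

end Cfsg.Agent.H1
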