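import Cfsg.Agent.H1.X3
import Cfsg.Prelude.Def_Classical

/-!
# The Sylow `p`-subgroups of `SL₄(p)` and `SU₄(p)`
-/

set_option autoImplicit false
set_option linter.unusedSectionVars false

namespace Cfsg.Agent.H1

open Cfsg.Fus Subgroup Matrix Polynomial
open scoped commutatorElement MatrixGroups

variable {p : ℕ} [hp : Fact p.Prime] {K : Type*} [Field K] [CharP K p]

theorem exists_quad (hp2 : p ≠ 2) {a b : ZMod p} (c : ZMod p) (ha : a ≠ 0) (hb : b ≠ 0) :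
    ∃ x y, a * x ^ 2 + b * y ^ 2 = c := by
  obtain ⟨x, y, h⟩ := FiniteField.exists_root_sum_quadratic (f := C a * X ^ 2) (g := C b * X ^ 2 - C c)
    (degree_C_mul_X_pow 2 ha) (by compute_degree!)
    (by rw [ZMod.card]; exact hp.out.mod_two_eq_one_iff_ne_two.2 hp2)
  exact ⟨x, y, by simp at h; linear_combination h⟩

/-- a unitriangular matrix -/
def ut (a b c d e f : K) : SL(4, K) := ⟨!![1, a, b, c; 0, 1, d, e; 0, 0, 1, f; 0, 0, 0, 1], by
  rw [det_of_isUpperTriangular fun i j h => by fin_cases i <;> fin_cases j <;> simp_all]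
  simp [Fin.prod_univ_four]⟩

theorem ut_val (a b c d e f : K) : (ut a b c d e f).1 = !![1, a, b, c; 0, 1, d, e; 0, 0, 1, f; 0, 0, 0, 1] := rfl

theorem ut_mul (a b c d e f a' b' c' d' e' f' : K) : ut a b c d e f * ut a' b' c' d' e' f' =
    ut (a + a') (b + a * d' + b') (c + a * e' + b * f' + c') (d + d') (e + d * f' + e') (f + f') := by
  ext i j; fin_cases i <;> fin_cases j <;> simp [ut_val, mul_apply, Fin.sum_univ_four] <;> ring

theorem ut_one : ut (0 : K) 0 0 0 0 0 = 1 := by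
  ext i j; fin_cases i <;> fin_cases j <;> simp [ut]

theorem ut_pow (hp2 : p ≠ 2) {a b c d e f : K} (h : a * d * f = 0) : ut a b c d e f ^ p = 1 :=
  Subtype.ext (pow_eq_one_of_cube hp2 (by
    ext i j; fin_cases i <;> fin_cases j <;>
      simp [-mul_eq_zero, ut, pow_three', mul_apply, Fin.sum_univ_four, one_apply, h]))

theorem ut_zpow (c : K) (k : ℤ) : ut 0 0 c 0 0 0 ^ k = ut 0 0 (k * c) 0 0 0 := by
  simpa using (map_zpow (MonoidHom.mk' (fun x : Multiplicative K => ut 0 0 x.toAdd 0 0 0)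
    fun x y => by simp [ut_mul]) (.ofAdd c) k).symm

theorem ra_ut (hp2 : p ≠ 2) {θ : K} {d : ℤ} (h : θ ^ 2 = -d) : RA p d (ut 1 0 0 0 0 (-1)) (ut θ 0 0 0 0 θ)
    (ut 0 0 0 θ 0 0) (ut 0 θ θ 0 θ 0) (ut 0 (θ ^ 2) (-θ ^ 3) 0 (-θ ^ 2) 0) (ut 0 0 (2 * θ) 0 0 0) := by
  constructor <;> first
    | exact ut_pow hp2 (by simp)
    | simp only [commutatorElement_def, mul_inv_eq_iff_eq_mul, ut_zpow, ut_mul, one_mul]
      congr 1 <;> first | ring1 | linear_combination (-2 * θ) * h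

/-- The upper unitriangular group. -/
def utG (K : Type*) [Field K] : Subgroup SL(4, K) where
  carrier := {g | ∃ a b c d e f, g = ut a b c d e f}
  one_mem' := ⟨0, 0, 0, 0, 0, 0, ut_one.symm⟩
  mul_mem' := by
    rintro _ _ ⟨a, b, c, d, e, f, rfl⟩ ⟨a', b', c', d', e', f', rfl⟩
    exact ⟨_, _, _, _, _, _, ut_mul ..⟩
  inv_mem' := by
    rintro _ ⟨a, b, c, d, e, f, rfl⟩
    refine ⟨-a, a * d - b, a * e + b * f - c - a * d * f, -d, d * f - e, -f, inv_eq_of_mul_eq_one_right ?_⟩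
    rw [ut_mul, ← ut_one]; congr 1 <;> ring

theorem utG_norm {g : SL(4, K)} {θ : K} (h0 : θ ≠ 0) (h : g⁻¹ * ut 1 θ 0 θ 0 (-1) * g ∈ utG K) {k : ℕ}
    (hk : g ^ p ^ k = 1) : g ∈ utG K := by
  obtain ⟨a, b, c, d, e, f, h⟩ := h
  rw [mul_assoc, inv_mul_eq_iff_eq_mul] at h
  have t := fun i j => congrFun (congrFun (congrArg Subtype.val h) i) j
  simp only [Matrix.SpecialLinearGroup.coe_mul, ut_val, mul_apply, Fin.sum_univ_four] at t
  have g30 : g.1 3 0 = 0 := by simpa using t 2 0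
  have g20 : g.1 2 0 = 0 := by simpa [h0] using t 1 0
  have g10 : g.1 1 0 = 0 := by simpa [g20] using t 0 0
  have g31 : g.1 3 1 = 0 := by simpa [g20] using t 2 1
  have g21 : g.1 2 1 = 0 := by simpa [h0, g10] using t 1 1
  have g32 : g.1 3 2 = 0 := by simpa [g20, g21] using t 2 2
  have key : ∀ n i j : _, j ≤ i → (g.1 ^ n) i j = if i = j then g.1 i i ^ n else 0 := fun n => by
    induction n with
    | zero => intro i j _; simp [one_apply]
    | succ n ih =>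
      intro i j hij
      rw [pow_succ', mul_apply, Fin.sum_univ_four]
      fin_cases i <;> fin_cases j <;> first
        | exact absurd hij (by decide)
        | simp [ih, g30, g20, g10, g31, g21, g32, pow_succ']
  have dg : ∀ i, g.1 i i = 1 := fun i => (iterateFrobenius K p k).injective (by
    have := key (p ^ k) i i le_rfl
    rw [← Matrix.SpecialLinearGroup.coe_pow, hk] at this
    simpa [iterateFrobenius_def] using this.symm)
  refine ⟨g.1 0 1, g.1 0 2, g.1 0 3, g.1 1 2, g.1 1 3, g.1 2 3, ?_⟩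
  ext i j; fin_cases i <;> fin_cases j <;> simp [ut, dg, g30, g20, g10, g31, g21, g32]

variable {G : Type*} [Group G] [Finite G] {Q : Subgroup G} {z y₁ y₂ e u₁ u₂ z' : G} {d : ℤ}

theorem RA.sylow_sub [Finite K] (h : XS p Q z) (hD : ¬ Q ≤ dd Q z) (r : RA p d y₁ y₂ e u₁ u₂ z')
    (hz : z' ∈ zpowers z) (hc : Nat.card G = p ^ 6) (gen : ⊤ ≤ closure {y₁, y₂, e}) {θ : K} (h0 : θ ≠ 0)
    (hθ : θ ^ 2 = -d) {H : Subgroup SL(4, K)} (m1 : ut 1 0 0 0 0 (-1) ∈ H) (m2 : ut θ 0 0 0 0 θ ∈ H)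
    (m3 : ut 0 0 0 θ 0 0 ∈ H) (hN : Nat.card ((utG K).subgroupOf H) ≤ p ^ 6) :
    ∃ P : Sylow p H, Nonempty (G ≃* (P : Subgroup H)) := by
  obtain ⟨φ, t1, t2, t3, t4⟩ := r.exists_hom (ra_ut h.p2 hθ) hc gen
  have m : ∀ H : Subgroup SL(4, K), ut 1 0 0 0 0 (-1) ∈ H → ut θ 0 0 0 0 θ ∈ H → ut 0 0 0 θ 0 0 ∈ H →
      ∀ g, φ g ∈ H := fun H m1 m2 m3 g => (closure_le (H.comap φ)).2
    (Set.insert_subset (t1 ▸ m1 : φ y₁ ∈ H) (Set.pair_subset (t2 ▸ m2 : φ y₂ ∈ H) (t3 ▸ m3 : φ e ∈ H)))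
    (gen trivial)
  refine exists_sylow_of (N := (utG K).subgroupOf H) (φ.codRestrict _ (m H m1 m2 m3))
    (h.injective hD _ hz fun e => ?_) h.pg' ?_ (hc ▸ hN) fun g hg k hk => utG_norm h0 ?_
      (congrArg Subtype.val hk)
  · have := congrFun (congrFun (congrArg (fun x : H => x.1.1) e) 0) 3
    simp [t4, ut, h0] at this
    exact h.p2 ((Nat.prime_dvd_prime_iff_eq hp.out Nat.prime_two).1 ((CharP.cast_eq_zero_iff K p 2).1 this))
  · rintro _ ⟨g, rfl⟩
    exact m (utG K) ⟨_, _, _, _, _, _, rfl⟩ ⟨_, _, _, _, _, _, rfl⟩ ⟨_, _, _, _, _, _, rfl⟩ g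
  · have := conj_inv_mem_of_mem_normalizer hg (x := ⟨_, H.mul_mem m1 m3⟩) ⟨_, _, _, _, _, _, ut_mul ..⟩
    simpa [mem_subgroupOf, ut_mul] using this

theorem RA.sylow (h : XS p Q z) (hD : ¬ Q ≤ dd Q z) (r : RA p d y₁ y₂ e u₁ u₂ z')
    (hz : z' ∈ zpowers z) (hc : Nat.card G = p ^ 6) (gen : ⊤ ≤ closure {y₁, y₂, e}) (hd : (d : ZMod p) ≠ 0) :
    (∃ P : Sylow p SL(4, ZMod p), Nonempty (G ≃* (P : Subgroup SL(4, ZMod p)))) ∨
      ∃ (K : Type) (_ : Field K) (_ : Fintype K), Fintype.card K = p ^ 2 ∧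
        ∃ P : Sylow p (SU 4 K p), Nonempty (G ≃* (P : Subgroup (SU 4 K p))) := by
  have tr : ∀ {H H' : Type} [Group H] [Group H'] [Finite H] (f : H ≃* H'),
      (∃ P : Sylow p H, Nonempty (G ≃* (P : Subgroup H))) → ∃ P : Sylow p H', Nonempty (G ≃* (P : Subgroup H')) :=
    fun f ⟨P, ⟨e⟩⟩ => ⟨P.mapSurjective (f := f.toMonoidHom) f.surjective, ⟨e.trans (f.subgroupMap P)⟩⟩
  by_cases sq : IsSquare (-d : ZMod p)
  · obtain ⟨θ, hθ⟩ := sq
    refine .inl (tr topEquiv (r.sylow_sub h hD hz hc gen (θ := θ) (fun e => hd (by simpa [e] using hθ))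
      (by rw [hθ, sq]) trivial trivial trivial ?_))
    simpa using Nat.card_le_card_of_injective (fun g : (utG (ZMod p)).subgroupOf ⊤ =>
      ![g.1.1.1 0 1, g.1.1.1 0 2, g.1.1.1 0 3, g.1.1.1 1 2, g.1.1.1 1 3, g.1.1.1 2 3]) (by
        rintro ⟨⟨g, _⟩, a, b, c, d, e, f, t1⟩ ⟨⟨g', _⟩, a', b', c', d', e', f', t2⟩ t
        obtain rfl : g = _ := t1
        obtain rfl : g' = _ := t2
        simp [ut_val] at t
        simp [t])
  let K := GaloisField p 2
  have := Fintype.ofFinite K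
  have hK : Fintype.card K = p ^ 2 := by rw [← Nat.card_eq_fintype_card, GaloisField.card p 2 two_ne_zero]
  obtain ⟨m, hm⟩ := hp.out.odd_of_ne_two h.p2
  let σ := frobenius K p
  have inv : ∀ x, σ (σ x) = x := fun x => by
    rw [frobenius_def, frobenius_def, ← pow_mul, ← pow_two, ← hK, FiniteField.pow_card]
  have eu : (-d : K) ^ m = -1 := by
    have := (ZMod.pow_div_two_eq_neg_one_or_one p (neg_ne_zero.2 hd)).resolve_left
      fun e => sq ((ZMod.euler_criterion p (neg_ne_zero.2 hd)).2 e)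
    simpa [show p / 2 = m by omega] using congrArg (algebraMap (ZMod p) K) this
  have n2 : (2 : K) ≠ 0 := fun e =>
    h.p2 ((Nat.prime_dvd_prime_iff_eq hp.out Nat.prime_two).1 ((CharP.cast_eq_zero_iff K p 2).1 e))
  have d0 : (-d : K) ≠ 0 := fun e => by
    rw [e, zero_pow (by have := hp.out.two_le; omega)] at eu; simp at eu
  obtain ⟨θ, hθ⟩ := (FiniteField.isSquare_iff (by rw [ringChar.eq K p]; exact h.p2) d0).2 (by
    rw [hK, show p ^ 2 / 2 = m * (2 * (m + 1)) by rw [hm]; ring_nf; omega, pow_mul, eu, pow_mul]; simp)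
  have h0 : θ ≠ 0 := fun e => d0 (by rw [hθ, e, mul_zero])
  have sθ : σ θ = -θ := by
    rw [frobenius_def, show θ ^ p = (θ * θ) ^ m * θ by rw [← pow_two, ← pow_mul, ← pow_succ, ← hm], ← hθ, eu,
      neg_one_mul]
  obtain ⟨x, y, hxy⟩ := exists_quad h.p2 (-1) one_ne_zero hd
  obtain ⟨a, ha⟩ : ∃ a : K, a * σ a = -1 := ⟨algebraMap _ _ x + algebraMap _ _ y * θ, by
    have := congrArg (algebraMap (ZMod p) K) hxy
    have e : ∀ x : ZMod p, σ (algebraMap _ _ x) = algebraMap _ _ x := fun x => by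
      rw [frobenius_def, ← map_pow, ZMod.pow_card]
    simp only [map_add, map_mul, e, sθ, map_pow, map_one, map_neg, map_intCast] at this ⊢
    linear_combination this + algebraMap (ZMod p) K y ^ 2 * hθ⟩
  let J : (Fin 4 → K) → (Fin 4 → K) → K := fun u v =>
    u 0 * σ (v 3) + u 1 * σ (v 2) + u 2 * σ (v 1) + u 3 * σ (v 0)
  obtain ⟨t, i2, st⟩ : ∃ t : K, 2 * t = 1 ∧ σ t = t := ⟨2⁻¹, mul_inv_cancel₀ n2, by rw [map_inv₀, map_ofNat]⟩
  let P : SL(4, K) := ⟨!![1, 0, 0, t; a, 0, 0, -a * t; 0, 1, t, 0; 0, -σ a, σ a * t, 0], by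
    simp [det_succ_row_zero, Fin.sum_univ_succ, Fin.succAbove]
    linear_combination (-4 * t ^ 2) * ha + (2 * t + 1) * i2⟩
  have hP : ∀ u v, hermForm 4 K p (P.1 *ᵥ u) (P.1 *ᵥ v) = J u v := fun u v => by
    have e : ∀ x : K, x ^ p = σ x := fun _ => rfl
    simp [hermForm, J, P, e, mulVec, dotProduct, Fin.sum_univ_four, inv, st]
    linear_combination ((u 0 - t * u 3) * (σ (v 0) - t * σ (v 3)) + (t * u 2 - u 1) * (t * σ (v 2) - σ (v 1))) * ha
      + (u 0 * σ (v 3) + u 1 * σ (v 2) + u 2 * σ (v 1) + u 3 * σ (v 0)) * i2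
  have mm : ∀ (A B : SL(4, K)) u, (A * B).1 *ᵥ u = A.1 *ᵥ (B.1 *ᵥ u) := fun A B u => by
    rw [mulVec_mulVec]; rfl
  have pp : ∀ u, P.1 *ᵥ (P⁻¹.1 *ᵥ u) = u := fun u => by rw [← mm, mul_inv_cancel]; exact one_mulVec u
  let H := preserving (slToMat 4 K) J
  have mH : ∀ g : SL(4, K), g ∈ H ↔ ∀ u v, J (g.1 *ᵥ u) (g.1 *ᵥ v) = J u v := fun _ => Iff.rfl
  refine .inr ⟨K, inferInstance, this, hK, tr (((MulAut.conj P).subgroupMap H).trans
    (MulEquiv.subgroupCongr ?_)) (r.sylow_sub h hD hz hc gen h0 (by rw [hθ, pow_two]) ?_ ?_ ?_ ?_)⟩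
  · ext M
    refine (mem_map_equiv (f := MulAut.conj P)).trans ?_
    simp only [mH, MulAut.conj_symm_apply, mm, ← hP, pp]
    refine ⟨fun h u v => ?_, fun h u v => h _ _⟩
    have := h (P⁻¹.1 *ᵥ u) (P⁻¹.1 *ᵥ v)
    simp only [pp] at this
    exact this
  iterate 3 exact (mH _).2 fun u v => by simp [J, ut_val, mulVec, dotProduct, Fin.sum_univ_four, sθ]; ring
  have := Nat.card_le_card_of_injective (fun g : (utG K).subgroupOf H =>
      ![g.1.1.1 0 1, g.1.1.1 0 2, g.1.1.1 1 2 + θ * (g.1.1.1 0 3 - σ (g.1.1.1 0 3))]) (by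
    have key : ∀ a b c d e f : K, ut a b c d e f ∈ H → f = -σ a ∧ σ d = -d ∧ e = -σ b - d * σ a ∧
        c + σ c = -(e * σ f + f * σ e) := fun a b c d e f t => by
      rw [mH] at t
      have t1 := t ![0, 0, 0, 1] ![0, 1, 0, 0]
      have t2 := t ![0, 0, 1, 0] ![0, 0, 1, 0]
      have t3 := t ![0, 0, 0, 1] ![0, 0, 1, 0]
      have t4 := t ![0, 0, 0, 1] ![0, 0, 0, 1]
      simp [J, ut_val, mulVec, dotProduct, Fin.sum_univ_four] at t1 t2 t3 t4
      exact ⟨by linear_combination t1, by linear_combination t2,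
        by linear_combination t3 - σ d * t1 + σ a * t2, by linear_combination t4⟩
    rintro ⟨⟨g, m⟩, a, b, c, d, e, f, t1⟩ ⟨⟨g', m'⟩, a', b', c', d', e', f', t2⟩ t
    obtain rfl : g = _ := t1
    obtain rfl : g' = _ := t2
    simp [ut_val] at t
    obtain ⟨rfl, rfl, t⟩ := t
    obtain ⟨rfl, s1, rfl, s2⟩ := key _ _ _ _ _ _ m
    obtain ⟨rfl, s1', rfl, s2'⟩ := key _ _ _ _ _ _ m'
    have t' := congrArg σ t
    simp only [map_add, map_mul, map_sub, inv, sθ, s1, s1'] at t'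
    obtain rfl : d = d' := mul_left_cancel₀ n2 (by linear_combination t - t')
    obtain rfl : c = c' := mul_left_cancel₀ (mul_ne_zero n2 h0) (by linear_combination t + θ * (s2 - s2'))
    rfl)
  simpa [hK, ← pow_mul] using this

end Cfsg.Agent.H1
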