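import Cfsg.Agent.H1.X4

/-!
# Recognising the groups of order `p ^ 6`
-/

set_option autoImplicit false
set_option linter.unusedSectionVars false

namespace Cfsg.Agent.H1

open Cfsg.Fus Subgroup
open scoped commutatorElement MatrixGroups

variable {G : Type*} [Group G] [Finite G] {p : ℕ} [hp : Fact p.Prime]
  {A B D E H Q : Subgroup G} {a b e g s u w x y z : G}

theorem zpow_of_add {f : G → ZMod p} (h : ∀ a ∈ E, ∀ b ∈ E, f (a * b) = f a + f b) (ha : a ∈ E) (k : ℤ) :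
    f (a ^ k) = k * f a := by
  have h1 : f 1 = 0 := by simpa using h 1 E.one_mem 1 E.one_mem
  have h2 := h _ (E.inv_mem ha) _ ha
  rw [inv_mul_cancel, h1] at h2
  induction k using Int.induction_on with
  | zero => simp [h1]
  | succ k ih => rw [zpow_add_one, h _ (E.zpow_mem ha _) _ ha, ih]; push_cast; ring
  | pred k ih =>
    rw [zpow_sub_one, h _ (E.zpow_mem ha _) _ (E.inv_mem ha), ih]; push_cast; linear_combination -h2

theorem two_ne (hp2 : p ≠ 2) : (2 : ZMod p) ≠ 0 := fun e =>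
  hp2 ((Nat.prime_dvd_prime_iff_eq hp.out Nat.prime_two).1 ((ZMod.natCast_eq_zero_iff 2 p).1 e))

/-- the three families of groups of order `p ^ 6` -/
def Six (p : ℕ) [Fact p.Prime] (G : Type*) [Group G] : Prop :=
  (∃ P : Sylow p SL(4, ZMod p), Nonempty (G ≃* (P : Subgroup SL(4, ZMod p)))) ∨
    ∃ (K : Type) (_ : Field K) (_ : Fintype K), Fintype.card K = p ^ 2 ∧
      ∃ P : Sylow p (SU 4 K p), Nonempty (G ≃* (P : Subgroup (SU 4 K p)))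

namespace XS

variable (h : XS p Q z)
include h

/-- the commutator form -/
noncomputable def bf (x y : G) : ZMod p := h.exists_lg.choose ⁅x, y⁆

theorem lg : Lg p (zpowers z) ⊥ z h.exists_lg.choose := h.exists_lg.choose_spec

theorem bf_left (hx : x ∈ Q) (hy : y ∈ Q) (hw : w ∈ Q) : h.bf (x * y) w = h.bf x w + h.bf y w := by
  rw [bf, h.comm_mul_left (h.comm y hy w hw), h.lg.mul _ (h.comm y hy w hw) _ (h.comm x hx w hw), add_comm]; rfl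

theorem bf_right (hx : x ∈ Q) (hy : y ∈ Q) (hw : w ∈ Q) : h.bf w (x * y) = h.bf w x + h.bf w y := by
  rw [bf, h.comm_mul_right (h.comm w hw y hy), h.lg.mul _ (h.comm w hw x hx) _ (h.comm w hw y hy)]; rfl

theorem bf_symm (hx : x ∈ Q) (hy : y ∈ Q) : h.bf y x = -h.bf x y := by
  rw [bf, ← commutatorElement_inv, h.lg.inv (h.comm x hx y hy)]; rfl

theorem bf_zero (hx : x ∈ Q) (hy : y ∈ Q) : h.bf x y = 0 ↔ ⁅x, y⁆ = 1 := h.lg.zero _ (h.comm x hx y hy)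

theorem bf_of (e : ⁅x, y⁆ = 1) : h.bf x y = 0 := by rw [bf, e, h.lg.one]

theorem bf_zl (hx : x ∈ Q) (hw : w ∈ Q) (k : ℤ) : h.bf (x ^ k) w = k * h.bf x w :=
  zpow_of_add (f := (h.bf · w)) (fun _ ha _ hb => h.bf_left ha hb hw) hx k

theorem bf_zr (hx : x ∈ Q) (hw : w ∈ Q) (k : ℤ) : h.bf w (x ^ k) = k * h.bf w x :=
  zpow_of_add (f := h.bf w) (fun _ ha _ hb => h.bf_right ha hb hw) hx k

theorem bf_comm (hx : x ∈ Q) (hy : y ∈ Q) (s : G) : h.bf ⁅x, s⁆ ⁅y, s⁆ = h.bf ⁅x, s⁆ y + h.bf x ⁅y, s⁆ := by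
  have e : h.bf (⁅x, s⁆ ^ (-1 : ℤ) * x) (⁅y, s⁆ ^ (-1 : ℤ) * y) = h.bf x y := by
    rw [bf, bf, ← h.conjZ (h.comm x hx y hy) s]
    congr 1; simp only [commutatorElement_def]; group
  have m := fun x => Q.zpow_mem (h.commQ x s) (-1)
  rw [h.bf_left (m x) hx (mul_mem (m y) hy), h.bf_right (m y) hy (m x), h.bf_right (m y) hy hx,
    h.bf_zl (h.commQ _ _) (m y), h.bf_zl (h.commQ _ _) hy, h.bf_zr (h.commQ _ _) hx,
    h.bf_zr (h.commQ _ _) (h.commQ _ _)] at e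
  push_cast at e
  linear_combination e

theorem bf_comm_mul (hx : x ∈ Q) (hw : w ∈ Q) (y s : G) :
    h.bf w ⁅x * y, s⁆ = h.bf w ⁅x, s⁆ + h.bf w ⁅y, s⁆ := by
  have m := h.comm x hx _ (h.commQ y s)
  rw [show ⁅x * y, s⁆ = ⁅x, ⁅y, s⁆⁆ * ⁅y, s⁆ * ⁅x, s⁆ by simp only [commutatorElement_def]; group,
    h.bf_right (mul_mem (h.ZQ m) (h.commQ _ _)) (h.commQ _ _) hw, h.bf_right (h.ZQ m) (h.commQ _ _) hw,
    h.bf_of (h.cZ m w), zero_add, add_comm]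

theorem card_step (h1 : z ∈ A) (h2 : A ≤ Q) (hx : x ∈ Q) (hx' : x ∉ A) :
    Nat.card (A ⊔ zpowers x : Subgroup G) = p * Nat.card A :=
  card_sup_zp (h.norm h1 h2 hx) hx' (zpowers_le.2 h1 (h.pow x hx))

theorem card_G {k : ℕ} (hc : Nat.card Q = p ^ k) : Nat.card G = p ^ (k + 1) := by
  rw [← Subgroup.card_top, h.card_top, hc, pow_succ']

theorem pres22 (hc : Nat.card Q = p ^ 5) (hx : ∀ x ∈ Q, x ^ p = 1) (he : e ∉ Q) (hep : e ^ p = 1)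
    (hD : Nat.card (dd Q z) = p ^ 3) (h1 : ∀ x ∈ dd Q z, ⁅e, x⁆ = 1) (h2 : ∀ y ∈ Q, ⁅y, e⁆ ∈ dd Q z) :
    Six p G := by
  have lt : ∀ {i j : ℕ}, i < j → ¬ p ^ j ≤ p ^ i := fun e => (Nat.pow_lt_pow_right hp.out.one_lt e).not_ge
  have m := fun x => h.commQ x e
  have sym : ∀ x ∈ Q, ∀ y ∈ Q, h.bf x ⁅y, e⁆ = h.bf y ⁅x, e⁆ := fun x hx y hy => by
    have := h.bf_comm hx hy e
    rw [h.bf_of (h.comm_dd (h2 x hx) y e), h.bf_symm hy (m x)] at this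
    linear_combination -this
  have nD : ¬ Q ≤ dd Q z := fun e => lt (show 3 < 5 by norm_num) (hc ▸ hD ▸ card_le_of_le e)
  obtain ⟨y₁, q1, n1⟩ : ∃ y ∈ Q, ⁅y, ⁅y, e⁆⁆ ≠ 1 := by
    by_contra! t
    refine nD fun y hy => (h.mem_dd' he).2 ⟨hy, h.nd _ (m y) fun x hx => (h.bf_zero hx (m y)).1 ?_⟩
    have := h.bf_of (t _ (mul_mem hx hy))
    rw [h.bf_left hx hy (m _), h.bf_comm_mul hx hx, h.bf_comm_mul hx hy, h.bf_of (t x hx),
      h.bf_of (t y hy), sym y hy x hx] at this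
    exact mul_left_cancel₀ (two_ne h.p2) (by linear_combination this)
  have z1 := h.comm _ q1 _ (m y₁)
  have u1 : ⁅y₁, e⁆ ∉ zpowers z := fun t => n1 (h.cZ t _)
  have cC : Nat.card (Q ⊓ centralizer {⁅y₁, e⁆} : Subgroup G) = p ^ 4 :=
    Nat.eq_of_mul_eq_mul_left hp.out.pos (by rw [h.card_cw (m y₁) u1, hc]; ring)
  have mC : ∀ x, x ∈ Q ⊓ centralizer {⁅y₁, e⁆} ↔ x ∈ Q ∧ ⁅x, ⁅y₁, e⁆⁆ = 1 := fun x =>
    and_congr_right fun _ => mem_centralizer_singleton_iff.trans comm_one_iff.symm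
  have DC : dd Q z ≤ Q ⊓ centralizer {⁅y₁, e⁆} := fun x hx => (mC x).2 ⟨hx.1, h.comm_dd hx _ _⟩
  obtain ⟨y, c1, c2⟩ := SetLike.not_le_iff_exists.1 fun t : Q ⊓ centralizer {⁅y₁, e⁆} ≤ dd Q z =>
    lt (show 3 < 4 by norm_num) (cC ▸ hD ▸ card_le_of_le t)
  obtain ⟨k, hk⟩ := exists_zpow_eq_of_prime h.zp z1 n1 (inv_mem (h.comm _ q1 _ c1.1))
  obtain ⟨y₂, c1, c2, c3⟩ : ∃ y ∈ Q ⊓ centralizer {⁅y₁, e⁆}, y ∉ dd Q z ∧ ⁅y₁, y⁆ = 1 :=
    have t := (dd Q z).zpow_mem (h2 _ q1) k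
    ⟨y * ⁅y₁, e⁆ ^ k, mul_mem c1 (DC t), fun e => c2 ((mul_mem_cancel_right t).1 e), by
      rw [h.comm_mul_right (h.comm _ q1 _ t.1), h.comm_zpow_right z1, hk, mul_inv_cancel]⟩
  obtain ⟨q2, c4⟩ := (mC _).1 c1
  have c5 : ⁅y₁, ⁅y₂, e⁆⁆ = 1 := (h.bf_zero q1 (m _)).1 ((sym _ q1 _ q2).trans (h.bf_of c4))
  have e1 := sup_zpowers_eq DC (relIndex_of_card DC (by rw [cC, hD]; ring)) c1 c2
  have e2 := sup_zpowers_eq inf_le_left (relIndex_of_card inf_le_left (h.card_cw (m y₁) u1).symm) q1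
    fun t => n1 ((mC _).1 t).2
  have n2 : ⁅y₂, ⁅y₂, e⁆⁆ ≠ 1 := fun t => c2 ((h.mem_dd' he).2 ⟨q2, h.nd _ (m _) (e2 ▸ e1 ▸
    comm_one_of_sup (comm_one_of_sup (fun x hx => h.comm_dd hx _ _) t) c5)⟩)
  obtain ⟨d, hd⟩ := exists_zpow_eq_of_prime h.zp z1 n1 (h.comm _ q2 _ (m y₂))
  refine RA.sylow h nD (y₁ := y₁) (y₂ := y₂) (e := e) (d := d) ⟨hx _ q1, hx _ q2, hep, hx _ (m _), hx _ (m _),
    h.powZ z1, c3, rfl, rfl, c5, h.cZ z1 _, rfl, c4, hd.symm, h.cZ z1 _, h1 _ (h2 _ q1), h1 _ (h2 _ q2),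
    h.cZ z1 _, h.comm_dd (h2 _ q1) _ _, h.cZ z1 _, h.cZ z1 _⟩ z1 (h.card_G hc) (fun g _ => ?_) fun t =>
      n2 (hd ▸ mem_bot.1 (zpow_mem_of_dvd ((ZMod.intCast_zmod_eq_zero_iff_dvd d p).1 t) (h.powZ z1)))
  have g1 : y₁ ∈ closure {y₁, y₂, e} := subset_closure (by simp)
  have g2 : y₂ ∈ closure {y₁, y₂, e} := subset_closure (by simp)
  have g3 : e ∈ closure {y₁, y₂, e} := subset_closure (by simp)
  have cm : ∀ {a b}, a ∈ closure {y₁, y₂, e} → b ∈ closure {y₁, y₂, e} → ⁅a, b⁆ ∈ closure {y₁, y₂, e} :=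
    fun ha hb => mul_mem (mul_mem (mul_mem ha hb) (inv_mem ha)) (inv_mem hb)
  obtain ⟨j, hj⟩ := exists_zpow_eq_of_prime h.zp z1 n1 (mem_zpowers z)
  have e3 : zpowers z ⊔ zpowers ⁅y₁, e⁆ ⊔ zpowers ⁅y₂, e⁆ = dd Q z := eq_of_le_of_card_ge
    (sup_le (sup_le (zpowers_le.2 h.z_dd) (zpowers_le.2 (h2 _ q1))) (zpowers_le.2 (h2 _ q2))) (by
      rw [h.card_step (mem_sup_left (mem_zpowers z)) (sup_le h.ZQ (zpowers_le.2 (m _))) (m _) fun t =>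
        n2 (comm_one_symm (comm_one_of_sup (fun _ ha => comm_one_symm (h.cZ ha _)) (comm_one_symm c4) _ t)),
        h.card_zp (m _) u1, hD]; exact le_of_eq (by ring))
  refine sup_le ?_ (zpowers_le.2 g3) (h.sup_top he g)
  rw [← e2, ← e1, ← e3]
  simp only [sup_le_iff, zpowers_le, g1, g2, cm g1 g3, cm g2 g3, and_true]
  exact hj ▸ zpow_mem (cm g1 (cm g1 g3)) j

theorem cfix_step (hs : s ∉ Q) [A.Normal] (hz : z ∈ A) (hA : A ≤ Q) : (cfix Q A s).Normal ∧ A ≤ cfix Q A s ∧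
    p * Nat.card (cfix Q A s) ≤ Nat.card (dd Q z) * Nat.card A ∧
      (¬ Q ≤ A → p * Nat.card A ≤ Nat.card (cfix Q A s)) := by
  haveI := h.nZ
  haveI := h.nQ
  have le : A ≤ cfix Q A s := fun x hx => mem_cfix'.2 ⟨hA hx, comm_mem_left A hx s⟩
  refine ⟨normal_of_comm_mem fun x hx g => le (comm_mem_symm (comm_sup_zp (fun y hy => zpowers_le.2 hz
    (h.comm y hy x hx.1)) (comm_mem_symm (mem_cfix'.1 hx).2) g (h.sup_top hs g))), le, ?_, fun t => ?_⟩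
  · have := card_le_of_relIndex (relIndex_commMod_le (S := cfix Q A s) (D := zpowers z) (B := A)
      (normal_le_normalizer _ _) (nle _ s) fun x hx => (mem_cfix'.1 hx).2)
    rw [← H8.card_mul_relIndex' (zpowers_le.2 hz), h.cardZ, mul_left_comm, mul_comm (Nat.card _)]
    exact Nat.mul_le_mul_left _ (this.trans (Nat.mul_le_mul_left _ (card_le_of_le fun x hx =>
      (h.mem_dd' hs).2 ⟨hx.1.1, hx.2.2⟩)))
  · obtain ⟨g, g1, g2, g3⟩ := exists_comm_mem h.pg' t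
    exact mul_card_le h.pg' le fun e => g2 (e (mem_cfix'.2 ⟨g1, g3 s⟩))

theorem pres4 (hc : Nat.card Q = p ^ 5) (hx : ∀ x ∈ Q, x ^ p = 1) (hs : s ∉ Q) (hsp : s ^ p = 1)
    (hD : Nat.card (dd Q z) = p ^ 2) (h1 : ∀ x ∈ dd Q z, ⁅s, x⁆ = 1) : 5 ≤ p ∧
    ∃ P : Sylow p (Lie.G2 (ZMod p)), Nonempty (G ≃* (P : Subgroup (Lie.G2 (ZMod p)))) := by
  have lt : ∀ {i j : ℕ} {A : Subgroup G}, i < j → Nat.card Q = p ^ j → Nat.card A ≤ p ^ i → ¬ Q ≤ A :=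
    fun e e1 e2 t => (Nat.pow_lt_pow_right hp.out.one_lt e).not_ge (e1 ▸ (card_le_of_le t).trans e2)
  have m := fun x => h.commQ x s
  haveI := h.nD
  haveI := h.nQ
  obtain ⟨n2, l2, a2, b2⟩ := h.cfix_step hs h.z_dd inf_le_left
  obtain ⟨n3, l3, a3, b3⟩ := h.cfix_step hs (l2 h.z_dd) (cfix_le ..)
  have c2 : Nat.card (cfix Q (dd Q z) s) = p ^ 3 := le_antisymm (Nat.le_of_mul_le_mul_left
    (a2.trans (le_of_eq (by rw [hD]; ring))) hp.out.pos) ((le_of_eq (by rw [hD]; ring)).trans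
      (b2 (lt (by norm_num) hc hD.le)))
  have c3 : Nat.card (cfix Q (cfix Q (dd Q z) s) s) = p ^ 4 := le_antisymm (Nat.le_of_mul_le_mul_left
    (a3.trans (le_of_eq (by rw [hD, c2]; ring))) hp.out.pos) ((le_of_eq (by rw [c2]; ring)).trans
      (b3 (lt (by norm_num) hc c2.le)))
  have m3 : ∀ q ∈ Q, ⁅⁅q, s⁆, s⁆ ∈ cfix Q (dd Q z) s := fun q hq => (mem_cfix'.1
    (comm_mem_of_card h.pg (cfix_le ..) (by rw [hc, c3]; exact le_of_eq (by ring)) hq s)).2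
  have key : ∀ q ∈ Q, q ∉ cfix Q (cfix Q (dd Q z) s) s → Q = zpowers z ⊔ zpowers ⁅⁅⁅q, s⁆, s⁆, s⁆ ⊔
      zpowers ⁅⁅q, s⁆, s⁆ ⊔ zpowers ⁅q, s⁆ ⊔ zpowers q ∧ ⁅q, ⁅⁅⁅q, s⁆, s⁆, s⁆⁆ ≠ 1 ∧
      h.bf ⁅q, s⁆ ⁅⁅q, s⁆, s⁆ = -h.bf q ⁅⁅⁅q, s⁆, s⁆, s⁆ ∧
      h.bf q ⁅⁅q, s⁆, s⁆ = -h.bf q ⁅⁅⁅q, s⁆, s⁆, s⁆ := fun q hq t1 => by
    have t2 : ⁅q, s⁆ ∉ cfix Q (dd Q z) s := fun t => t1 (mem_cfix'.2 ⟨hq, t⟩)
    have t3 : ⁅⁅q, s⁆, s⁆ ∉ dd Q z := fun t => t2 (mem_cfix'.2 ⟨m _, t⟩)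
    have t4 : ⁅⁅⁅q, s⁆, s⁆, s⁆ ∉ zpowers z := fun t => t3 ((h.mem_dd' hs).2 ⟨m _, t⟩)
    have d4 := (mem_cfix'.1 (m3 q hq)).2
    have i1 := sup_le (zpowers_le.2 h.z_dd) (zpowers_le.2 d4)
    have i2 := sup_le (i1.trans l2) (zpowers_le.2 (m3 q hq))
    have i3 := sup_le (i2.trans l3) (zpowers_le.2 (mem_cfix'.2 ⟨m q, m3 q hq⟩))
    have z1 : z ∈ zpowers z ⊔ zpowers ⁅⁅⁅q, s⁆, s⁆, s⁆ := mem_sup_left (mem_zpowers z)
    have e := (eq_of_le_of_card_ge (sup_le (i3.trans (cfix_le ..)) (zpowers_le.2 hq)) (by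
      rw [h.card_step (mem_sup_left (mem_sup_left z1)) (i3.trans (cfix_le ..)) hq fun t => t1 (i3 t),
        h.card_step (mem_sup_left z1) (i2.trans (cfix_le ..)) (m _) fun t => t2 (i2 t),
        h.card_step z1 (i1.trans inf_le_left) (m _) fun t => t3 (i1 t), h.card_zp (m _) t4, hc]
      exact le_of_eq (by ring))).symm
    have f := fun a b => comm_one_symm (h.comm_dd d4 a b)
    have f1 := h.bf_comm hq (m q) s
    have f2 := h.bf_comm hq (m ⁅q, s⁆) s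
    rw [h.bf_of (commutatorElement_self _)] at f1
    rw [h.bf_of (f _ _)] at f2
    refine ⟨e, fun t => t4 (h.nd _ (m _) fun y hy => comm_one_of_sup (comm_one_of_sup (comm_one_of_sup
      (comm_one_of_sup (fun _ ha => comm_one_symm (h.cZ ha _)) (f _ _)) (f _ _)) (f _ _)) t y (e ▸ hy)),
      by linear_combination -f2, by linear_combination -f2 - f1⟩
  obtain ⟨q, hq, t⟩ := SetLike.not_le_iff_exists.1 (lt (by norm_num) hc c3.le)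
  obtain ⟨q, hq, t, c12⟩ : ∃ q ∈ Q, q ∉ cfix Q (cfix Q (dd Q z) s) s ∧ ⁅q, ⁅q, s⁆⁆ = 1 := by
    obtain ⟨-, k1, k2, -⟩ := key q hq t
    obtain ⟨k, hk⟩ := ZMod.intCast_surjective (-h.bf q ⁅q, s⁆ / (2 * h.bf q ⁅⁅⁅q, s⁆, s⁆, s⁆))
    have i := zpow_mem (m3 q hq) k
    refine ⟨_, mul_mem hq i.1, fun e => t ((mul_mem_cancel_right (l3 i)).1 e),
      (h.bf_zero (mul_mem hq i.1) (m _)).1 ?_⟩
    have e := fun w hw => zpow_of_add (f := fun y => h.bf w ⁅y, s⁆) (fun a ha b _ => h.bf_comm_mul ha hw b s)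
      (m ⁅q, s⁆) k
    rw [h.bf_left hq i.1 (m _), h.bf_comm_mul hq hq, h.bf_comm_mul hq i.1, e _ hq, e _ i.1, h.bf_zl (m _) (m _),
      h.bf_zl (m _) (m _), h.bf_symm (m q) (m _), k2,
      h.bf_of (comm_one_symm (h.comm_dd (mem_cfix'.1 (m3 q hq)).2 _ _)), hk]
    have := mt (h.bf_zero hq (m _)).1 k1
    have := two_ne h.p2
    field_simp; ring
  obtain ⟨e, k1, k2, k3⟩ := key q hq t
  have d4 := (mem_cfix'.1 (m3 q hq)).2
  have z1 := h.comm _ hq _ d4.1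
  have f := fun a b => comm_one_symm (h.comm_dd d4 a b)
  have h5 : 5 ≤ p := hp.out.five_le_of_ne_two_of_ne_three h.p2 fun e => k1 ((h.bf_zero hq (m _)).1 (by
    have e1 : ∀ y ∈ Q, h.bf q ⁅y, s⁆ = h.bf q y - h.bf q (MulAut.conj s y) := fun y hy => by
      have t := ‹Q.Normal›.conj_mem y hy s
      rw [show ⁅y, s⁆ = y * (s * y * s⁻¹) ^ (-1 : ℤ) by simp only [commutatorElement_def]; group,
        h.bf_right hy (zpow_mem t _) hq, h.bf_zr t hq]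
      simp [sub_eq_add_neg]
    have e2 : ∀ y, MulAut.conj s ⁅y, s⁆ = ⁅MulAut.conj s y, s⁆ := fun y => by simp [map_commutatorElement]
    have e3 : MulAut.conj s (MulAut.conj s (MulAut.conj s q)) = q := by
      have : s * s * s = 1 := by rw [← pow_three', ← e, hsp]
      rw [← MulAut.mul_apply, ← MulAut.mul_apply, ← map_mul, ← map_mul, this, map_one, MulAut.one_apply]
    have t : ∀ y ∈ Q, MulAut.conj s y ∈ Q := fun y hy => ‹Q.Normal›.conj_mem y hy s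
    have e4 : (3 : ZMod p) = 0 := by simpa [e] using ZMod.natCast_self p
    rw [e1 _ (m _), e2, e2, e1 _ (m _), e1 _ (m _), e2, e2, e1 _ hq, e1 _ (t _ hq), e1 _ (t _ (t _ hq)), e3]
    linear_combination (h.bf q (MulAut.conj s (MulAut.conj s q)) - h.bf q (MulAut.conj s q)) * e4))
  refine ⟨h5, RG.sylow_g2 h (lt (by norm_num) hc hD.le) (s := s) (a := q) ⟨hsp, hx _ hq, hx _ (m _), hx _ (m _),
    hx _ (m _), h.powZ z1, (commutatorElement_inv ..).symm, (commutatorElement_inv ..).symm,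
    (commutatorElement_inv ..).symm, h1 _ d4, h.cZ z1 _, c12,
    h.lg.ext h.zp (h.comm _ hq _ (m _)) (inv_mem z1) (k3.trans (h.lg.inv z1).symm), rfl, h.cZ z1 _,
    h.lg.ext h.zp (h.comm _ (m _) _ (m _)) (inv_mem z1) (k2.trans (h.lg.inv z1).symm), f _ _, h.cZ z1 _,
    f _ _, h.cZ z1 _, h.cZ z1 _⟩ z1 (h.card_G hc) (fun g _ => ?_) h5⟩
  have g1 : s ∈ closure {s, q} := subset_closure (by simp)
  have g2 : q ∈ closure {s, q} := subset_closure (by simp)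
  have cm : ∀ {a b}, a ∈ closure {s, q} → b ∈ closure {s, q} → ⁅a, b⁆ ∈ closure {s, q} :=
    fun ha hb => mul_mem (mul_mem (mul_mem ha hb) (inv_mem ha)) (inv_mem hb)
  obtain ⟨j, hj⟩ := exists_zpow_eq_of_prime h.zp z1 k1 (mem_zpowers z)
  refine sup_le (e.le.trans ?_) (zpowers_le.2 g1) (h.sup_top hs g)
  simp only [sup_le_iff, zpowers_le, g2, cm g2 g1, cm (cm g2 g1) g1, cm (cm (cm g2 g1) g1) g1, and_true]
  exact hj ▸ zpow_mem (cm g2 (cm (cm (cm g2 g1) g1) g1)) j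

end XS

end Cfsg.Agent.H1
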