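import Cfsg.Agent.H1.X5

/-!
# An essential subgroup moving the centre of the extraspecial subgroup
-/

set_option autoImplicit false
set_option linter.unusedSectionVars false

namespace Cfsg.Agent.H1

open Equiv Cfsg.Fus Cfsg.FusionSystem Subgroup
open scoped commutatorElement

variable {p : ℕ} [hp : Fact p.Prime]

/-- Automorphisms preserving a flag centralised by the normaliser extend to the normaliser. -/
theorem ext_flag {Ω : Type*} [Group Ω] {S R : Subgroup Ω} [Finite S] {F : FusionSystem S} {β : Perm Ω}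
    (hS : IsPGroup p S) (hF : F.IsSaturated p) (hR : F.IsFullyNormalized R) {C : ℕ → Subgroup Ω} {n : ℕ}
    (h0 : C 0 = ⊥) (hn : C n = R) (hC : ∀ i ≤ n, C i ≤ R) (hm : ∀ i < n, C i ≤ C (i + 1))
    (h1 : ∀ g ∈ normalizerIn S R, ∀ i < n, ∀ x ∈ C (i + 1), x⁻¹ * (g * x * g⁻¹) ∈ C i)
    (hβ : F.Iso R R β) (h2 : ∀ i ≤ n, ∀ x ∈ C i, β x ∈ C i) :
    ∃ τ, F.Iso (normalizerIn S R) (normalizerIn S R) τ ∧ ∀ x ∈ R, τ x = β x := by
  have aut : ∀ τ, F.Iso R R τ → ∀ i ≤ n, (∀ x ∈ C i, τ x ∈ C i) → τ ∈ autStab (C i) := fun τ hτ i hi e =>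
    haveI := finite_of_le ((hC i hi).trans hR.1)
    ⟨hτ.homOn.mono (hC i hi), mem_setStab_of_finite e⟩
  have le : innS S R ≤ F.stab R ⊓ ⨅ i, ⨅ (_ : i < n), trivOn (C i) (C (i + 1)) := fun σ hσ => by
    have i1 := F.innS_le_stab hR.1 hσ
    obtain ⟨g, g1, g2, e⟩ := mem_innS.1 hσ
    refine ⟨i1, mem_iInf.2 fun i => mem_iInf.2 fun hi => ?_⟩
    have t : ∀ x ∈ C (i + 1), x⁻¹ * σ x ∈ C i := fun x hx => e x (hC _ hi hx) ▸ h1 g ⟨g1, g2⟩ i hi x hx
    exact ⟨aut σ ((mem_stab hR.1).1 i1) _ hi fun x hx =>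
      (mul_mem_cancel_left (inv_mem hx)).1 (hm i hi (t x hx)), t⟩
  have e := (hR.isFullyAutomized hF hS).le_innS le inf_le_left fun τ hτ => hn ▸
    exists_pow_mem_fixP_of_chain hS (fun i hi => (hC i hi).trans hR.1) ⟨0, by
      rw [h0]; simpa using fixP_bot_of_homOn ((mem_stab hR.1).1 hτ.1).homOn⟩
      fun i hi => mem_iInf.1 (mem_iInf.1 hτ.2 i) hi
  obtain ⟨τ, t1, t2⟩ := (hR.isReceptive hF hS).exists_ext_of_le hβ le_rfl fun s hs => e ▸
    ⟨(hβ.conj (F.iso_cj hR.1 hs.1 hs.2)).mem_stab, mem_iInf.2 fun i => mem_iInf.2 fun hi => conj_mem_trivOn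
      (mem_iInf.1 (mem_iInf.1 (le (cj_mem_innS hs.1 hs.2)).2 i) hi) (aut β hβ _ hi (h2 _ hi))
      fun x hx _ => h2 i hi.le x hx⟩
  exact ⟨τ, (t1.mono le_sup_right).iso_self fun s hs => by
    simpa [(hβ.congr t2).img_eq] using t1.mem_normalizerIn le_sup_left (mem_sup_right hs) hs.2, t2⟩

theorem exists_xs {Ω : Type*} [Group Ω] {S Q : Subgroup Ω} [Finite S] (hp2 : p ≠ 2) (hS : IsPGroup p S)
    (hQS : Q ≤ S) (hQ : IsExtraspecial p Q) (hi : (Q.subgroupOf S).index = p) (h6 : p ^ 6 ≤ Nat.card S) :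
    ∃ z, XS p (Q.subgroupOf S) z := by
  obtain ⟨e1, e2⟩ := extraspecial_iff hQ
  haveI := finite_of_le hQS
  haveI : Finite (zc Q) := finite_of_le inf_le_left
  obtain ⟨z, hz, z1⟩ : ∃ z ∈ zc Q, z ≠ 1 := (zc Q).bot_or_exists_ne_one.resolve_left fun e => by
    rw [e, card_bot] at e2; exact hp.out.one_lt.ne e2
  have zp : z ^ p = 1 := congrArg Subtype.val (e2 ▸ pow_card_eq_one' (x := (⟨z, hz⟩ : zc Q)))
  have eZ : zpowers z = zc Q := eq_of_le_of_card_ge (zpowers_le.2 hz) (by rw [e2, card_zpowers_of_pow z1 zp])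
  have mZ : ∀ x : S, (x : Ω) ∈ zc Q → x ∈ zpowers (⟨z, hQS hz.1⟩ : S) := fun x hx => by
    rw [zpowers_mk, eZ]; exact hx
  have pg : IsPGroup p (⊤ : Subgroup S) := hS.of_equiv topEquiv.symm
  have idx : (Q.subgroupOf S).relIndex ⊤ = p := by rw [relIndex_top_right, hi]
  have nQ : S ≤ normalizer (Q : Set Ω) := le_normalizer_of_relIndex hS hQS hi
  refine ⟨⟨z, hQS hz.1⟩, pg, hp2, idx, hz.1, fun e => z1 (congrArg Subtype.val e), Subtype.ext zp, fun g => ?_,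
    fun x hx y hy => mZ _ (e1 ▸ commutator_mem_commutator hx hy), fun x hx => mZ _ ?_,
    fun x hx e => mZ _ ⟨hx, fun y hy => congrArg Subtype.val (comm_one_iff.1 (e ⟨y, hQS hy⟩ hy))⟩, ?_⟩
  · have := conj_mem_of_relIndex (A := ⊥) hS g.2 (normal_le_normalizer ⊥ ⊤ trivial) (normalizer_le_normalizer_zc Q (nQ g.2))
      (by rw [relIndex_bot_left, e2]) z hz
    rw [mem_bot, inv_mul_eq_one, eq_mul_inv_iff_mul_eq] at this
    exact comm_one_iff.2 (Subtype.ext this.symm)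
  · rw [← map_center_eq, ← hQ.1.2.1]
    exact pow_mem_phiF hS hQS hx
  · rw [← (Q.subgroupOf S).index_mul_card, hi, pow_succ'] at h6
    exact Nat.le_of_mul_le_mul_left h6 hp.out.pos

variable {G : Type*} [Group G] [Finite G] {F : FusionSystem (⊤ : Subgroup G)}
  {A B D E H Q R : Subgroup G} {a b e g s u w x y z : G} {φ ψ τ : Perm G}

/-- `E` is essential and the centraliser of every conjugate of `z` outside `⟨z⟩`. -/
structure XF (F : FusionSystem (⊤ : Subgroup G)) (p : ℕ) (Q : Subgroup G) (z : G) (E : Subgroup G) : Prop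
    extends XS p Q z where
  sat : F.IsSaturated p
  ess : F.IsEssential p E
  key : ∀ ψ, F.Iso E E ψ → ψ z ∉ zpowers z → ∀ g, ⁅g, ψ z⁆ = 1 → g ∈ E

theorem XS.exists_xf (h : XS p Q z) (hF : F.IsSaturated p) (hO : F.core = ⊥) :
    ∃ E φ, XF F p Q z E ∧ F.Iso E E φ ∧ φ z ∉ zpowers z := by
  haveI := h.nZ
  have zE : ∀ {R}, F.IsEssential p R → z ∈ R := fun hR =>
    centric_zc_le hR.isCentric (mem_zc'.2 ⟨trivial, fun y _ => h.cen y⟩)
  have nm : ∀ {R σ}, F.Iso R R σ → z ∈ R → σ z ∈ zpowers z → F.NMap (zpowers z) R σ := fun hσ hz e =>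
    nMap_of_le hσ.isMap (zpowers_le.2 hz) (normal_le_normalizer _ _)
      fun x hx => zpowers_le.2 e (map_zp hσ.homOn hz hx)
  by_contra! hn
  refine h.z1 (mem_bot.1 (hO ▸ (isNormal_of_nMap le_top (closed_alperin_ess (closed_nMap F le_top) hF h.pg
    (fun σ hσ => nm hσ trivial (h.map_z (toAut hσ))) fun R σ hR hσ ih => nm hσ (zE hR)
      (hn R σ ⟨h, hF, hR, fun ψ hψ e g hg => by_contra fun gR => e ?_⟩ hσ))).le_core (mem_zpowers z)))
  have i1 := (hψ.restrict (zpowers_le.2 (zE hR))).symm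
  rw [(hψ.homOn.mono (zpowers_le.2 (zE hR))).img_zpowers] at i1
  obtain ⟨τ, t1, t2⟩ := ((F.isFullyNormalized_of_le_normalizer le_top (normal_le_normalizer _ _)).isReceptive
    hF h.pg).exists_ext_centralizer i1
  have mc : ∀ g, ⁅g, ψ z⁆ = 1 → g ∈ zpowers (ψ z) ⊔ centralizerIn ⊤ (zpowers (ψ z)) := fun g hg =>
    mem_sup_right ⟨trivial, by
      rintro _ ⟨k, rfl⟩; exact ((show Commute g _ from comm_one_iff.1 hg).zpow_right k).symm⟩
  obtain ⟨-, ρ, -, r2, r3⟩ := nMap_iff_perm.1 (ih _ τ (card_lt_of_lt_of_finite (SetLike.lt_iff_le_and_exists.2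
    ⟨fun x hx => mc x (iso_comm_mem (X := ⊥) (Y := ⊥) hψ (fun _ e => mem_bot.1 e ▸ hψ.homOn.map_one) (zE hR)
      (fun y _ => h.cen y) hx), g, mc g hg, gR⟩)) t1)
  refine (r3 _).1 ?_
  rw [r2 _ (mem_sup_left (mem_zpowers _)), t2 _ (mem_zpowers _), perm_inv_apply_self]
  exact mem_zpowers z

theorem iso_mem_comm (hτ : F.Iso E E τ) (hx : x ∈ ⁅E, E⁆) : τ x ∈ ⁅E, E⁆ := aInv_commutator F E τ hτ x hx

namespace XF

variable (h : XF F p Q z E)
include h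

theorem zE : z ∈ E := centric_zc_le h.ess.isCentric (mem_zc'.2 ⟨trivial, fun y _ => h.cen y⟩)

theorem ZE : zpowers z ≤ E := zpowers_le.2 h.zE

theorem cE (hψ : F.Iso E E ψ) (hx : x ∈ E) : ⁅x, ψ z⁆ = 1 :=
  iso_comm_mem (X := ⊥) (Y := ⊥) hψ (fun _ e => mem_bot.1 e ▸ hψ.homOn.map_one) h.zE (fun y _ => h.cen y) hx

theorem pow_z (hψ : F.Iso E E ψ) : ψ z ^ p = 1 := iso_pow hψ h.zE h.zp

theorem map_Z' (hψ : F.Iso E E ψ) (hx : x ∈ zpowers z) : ψ x ∈ zpowers (ψ z) := map_zp hψ.homOn h.zE hx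

theorem inf_bot (hψ : F.Iso E E ψ) (hz : ψ z ∉ zpowers z) (h1 : x ∈ zpowers z) (h2 : x ∈ zpowers (ψ z)) :
    x = 1 := by_contra fun e => by
  obtain ⟨k, hk⟩ := exists_zpow_eq_of_prime (h.pow_z hψ) h2 e (mem_zpowers _)
  exact hz (hk ▸ zpow_mem h1 k)

theorem z_comm (hx : x ∈ E ⊓ Q) (hy : y ∈ E ⊓ Q) (e : ⁅x, y⁆ ≠ 1) : z ∈ ⁅E, E⁆ := by
  obtain ⟨k, hk⟩ := exists_zpow_eq_of_prime h.zp (h.comm x hx.2 y hy.2) e (mem_zpowers z)
  exact hk ▸ zpow_mem (commutator_mem_commutator hx.1 hy.1) k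

theorem idxE (hs : s ∈ E) (hs' : s ∉ Q) : (E ⊓ Q).relIndex E = p := by
  rw [inf_relIndex_left]
  exact relIndex_eq_of_le h.pg le_top (h.idx ▸ relIndex_le_of_le_right le_top (h.idx ▸ hp.out.ne_zero))
    fun e => hs' (e hs)

theorem supE (hs : s ∈ E) (hs' : s ∉ Q) : E ⊓ Q ⊔ zpowers s = E :=
  sup_zpowers_eq inf_le_left (h.idxE hs hs') hs fun e => hs' e.2

theorem rad (hg : cj g ∈ F.opStab p E) : g ∈ E :=
  h.ess.isCentric.mem_of_cj_mem_opStab (h.ess.isRadical h.pg) trivial hg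

end XF

end Cfsg.Agent.H1
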