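import Cfsg.Agent.H1.X6

/-!
# The case of a conjugate of `z` inside `Q`
-/

set_option autoImplicit false
set_option linter.unusedSectionVars false

namespace Cfsg.Agent.H1

open Equiv Cfsg.Fus Cfsg.FusionSystem Subgroup
open scoped commutatorElement

variable {p : ℕ} [hp : Fact p.Prime] {G : Type*} [Group G] [Finite G] {F : FusionSystem (⊤ : Subgroup G)}
  {A B D E H Q R : Subgroup G} {a b e g s u w x y z : G} {φ ψ τ : Perm G}

theorem XS.pow_T (h : XS p Q z) (hs : s ∉ Q) (hx : x ∈ cq Q (dd Q z)) : x ^ p = 1 := by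
  obtain ⟨y, hy, e⟩ := h.exists_comm hs hx
  rw [← mul_inv_cancel_left ⁅y, s⁆ x, h.mul_pow (h.commQ _ _) (h.ZQ e), h.comm_pow hy, h.powZ e, one_mul]

theorem XS.pow_sup (h : XS p Q z) (hz : z ∈ A) (hA : A ≤ Q) (h1 : ∀ x ∈ A, x ^ p = 1) (hg : g ∈ Q)
    (h2 : g ^ p = 1) (hx : x ∈ A ⊔ zpowers g) : x ^ p = 1 := by
  obtain ⟨a, ha, k, rfl⟩ := (mem_sup_zpowers (h.norm hz hA hg)).1 hx
  rw [h.mul_pow (hA ha) (Q.zpow_mem hg k), h1 a ha, ← zpow_natCast, zpow_comm, zpow_natCast, h2, one_zpow, one_mul]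

theorem XS.comm_T (h : XS p Q z) : ⁅A, B⁆ ≤ cq Q (dd Q z) :=
  commutator_le.2 fun a _ b _ => mem_cq.2 ⟨h.commQ a b, fun _ hy => h.comm_dd hy a b⟩

namespace XF

variable (h : XF F p Q z E)
include h

theorem comm_le (hs : s ∈ E) (hs' : s ∉ Q) (h1 : ∀ a ∈ E ⊓ Q, ⁅s, a⁆ ∈ zpowers z) : ⁅E, E⁆ ≤ zpowers z := by
  haveI := h.nZ
  rw [← h.supE hs hs']
  exact commutator_sup_zpowers_le (normal_le_normalizer _ _) (nle _ s) (fun a ha b hb => h.comm a ha.2 b hb.2) h1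

variable (hφ : F.Iso E E φ) (hz : φ z ∉ zpowers z) (hw : φ z ∈ Q)
include hφ hz hw

theorem inf_eq : E ⊓ Q = cq Q (zpowers z ⊔ zpowers (φ z)) := by
  rw [h.cq_zp, inf_comm]
  exact Subgroup.ext fun x => and_congr_right fun _ => ⟨fun e => mem_centralizer_singleton_iff.2
    (comm_one_iff.1 (h.cE hφ e)), fun e => h.key φ hφ hz x (comm_one_iff.2 (mem_centralizer_singleton_iff.1 e))⟩

theorem card_inf : p * Nat.card (E ⊓ Q : Subgroup G) = Nat.card Q := by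
  rw [h.inf_eq hφ hz hw, h.cq_zp, h.card_cw hw hz]

theorem z_mem : z ∈ ⁅E, E⁆ := by
  have := h.not_comm (A := E ⊓ Q) ⟨h.zE, h.zQ⟩ inf_le_right (h.card_inf hφ hz hw).ge
  push Not at this
  obtain ⟨x, hx, y, hy, e⟩ := this
  exact h.z_comm hx hy e

theorem not_le : ¬ ⁅E, E⁆ ≤ zpowers z := fun e => hz (e (iso_mem_comm hφ (h.z_mem hφ hz hw)))

theorem idx_top : E.relIndex ⊤ = p := by
  obtain ⟨s, s1, s2⟩ := SetLike.not_le_iff_exists.1 fun e : E ≤ Q => h.not_le hφ hz hw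
    (commutator_le.2 fun a ha b hb => h.comm a (e ha) b (e hb))
  exact relIndex_of_card le_top (by
    rw [h.card_top, card_of_relIndex inf_le_left (h.idxE s1 s2), h.card_inf hφ hz hw])

theorem expA (hD : p * Nat.card (dd Q z) < Nat.card Q) (h1 : ∀ x ∈ E ⊓ Q, x ^ p = 1) (hx : x ∈ Q) :
    x ^ p = 1 := by
  haveI := h.nZ
  have eN : normalizerIn ⊤ E = ⊤ := top_unique fun g _ =>
    ⟨trivial, le_normalizer_of_relIndex h.pg le_top (h.idx_top hφ hz hw) trivial⟩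
  have WQ := sup_le h.ZQ (zpowers_le.2 hw)
  have cW : ∀ e ∈ E, ∀ x ∈ zpowers z ⊔ zpowers (φ z), ⁅x, e⁆ = 1 := fun e he =>
    comm_one_of_sup (fun _ ha => comm_one_symm (h.cZ ha e)) (comm_one_symm (h.cE hφ he))
  have WE := sup_le h.ZE (zpowers_le.2 (hφ.mem h.zE))
  have eW : zc E = zpowers z ⊔ zpowers (φ z) := le_antisymm (fun t ht => by
    by_cases e : t ∈ Q
    · rw [← h.cq_cq (mem_sup_left (mem_zpowers z)) WQ, ← h.inf_eq hφ hz hw]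
      exact mem_cq.2 ⟨e, fun y hy => (mem_zc'.1 ht).2 y hy.1⟩
    · exact absurd (h.comm_le ht.1 e fun a ha => comm_one_symm ((mem_zc'.1 ht).2 a ha.1) ▸ one_mem _)
        (h.not_le hφ hz hw)) fun t ht => mem_zc'.2 ⟨WE ht, fun y hy => comm_one_symm (cW y hy t ht)⟩
  have i0 := relIndex_of_card inf_le_right (h.card_inf hφ hz hw).symm
  obtain ⟨g, g1, g2⟩ := SetLike.not_le_iff_exists.1 fun e : Q ≤ E ⊓ Q =>
    hp.out.one_lt.ne' (i0.symm.trans (relIndex_eq_one.2 e))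
  have b1 : ⁅φ z, g⁆ ≠ 1 := fun e => g2 ⟨h.key φ hφ hz g (comm_one_symm e), g1⟩
  have n1 : φ z ∉ cfix (zpowers z ⊔ zpowers (φ z)) ⊥ g := fun e => b1 (mem_cfix'.1 e).2
  have iW := relIndex_sup_zp hz (h.pow _ hw)
  have eC := (eq_or_eq_of_relIndex (fun x hx => mem_cfix'.2 ⟨mem_sup_left hx, comm_one_symm (h.cZ hx g)⟩)
    (cfix_le _ ⊥ g) iW).resolve_right fun e => n1 (e.ge (mem_sup_right (mem_zpowers _)))
  obtain ⟨a, W, t⟩ := LEs.exists_gq (g := g) ⟨h.pg, h.sat, h.ess.isFullyNormalized, fun g _ => h.rad,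
    eN.symm ▸ h.idx_top hφ hz hw⟩ ⟨le_top, WE, bot_le, eW ▸ aInv_zc F E, aInv_bot F E, cW⟩ (eN.ge trivial)
    (eC.symm ▸ iW) (eC.symm ▸ fun e => hz (e φ hφ z (mem_zpowers z))) (mem_sup_right (mem_zpowers _)) n1
  obtain ⟨β, b2, -, b3, -, -, b4⟩ := t.torus (-1) (-1) (by simp)
  rw [eN] at b2
  obtain ⟨k, hk⟩ := exists_zpow_eq_of_prime h.zp (h.comm _ hw _ g1) b1 (h.pow g g1)
  have m : g⁻¹ * β g ∈ E ⊓ Q := ⟨by simpa using b4, Q.mul_mem (Q.inv_mem g1) (h.map_Q hD (toAut b2) g1)⟩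
  have e1 := h.mul_pow g1 m.2
  rw [h1 _ m, mul_inv_cancel_left, mul_one, ← b2.homOn.map_pow trivial, ← hk, b2.homOn.map_zpow trivial,
    ← inv_mul_eq_one.1 b3, zpow_comm, hk, zpow_neg_one, inv_eq_iff_mul_eq_one, ← sq] at e1
  exact h.pow_sup (A := E ⊓ Q) ⟨h.zE, h.zQ⟩ inf_le_right h1 g1 (mem_of_sq_mem (M := ⊥) h.pg h.p2 trivial e1)
    ((sup_zpowers_eq inf_le_right i0 g1 g2).ge hx)

theorem caseA : Six p G ∨ 5 ≤ p ∧
    ∃ P : Sylow p (Lie.G2 (ZMod p)), Nonempty (G ≃* (P : Subgroup (Lie.G2 (ZMod p)))) := by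
  haveI := h.nZ
  have hom := hφ.homOn.mono (inf_le_left (b := Q))
  have mB : ∀ {x}, x ∈ img φ (E ⊓ Q) ↔ ∃ y ∈ E ⊓ Q, φ y = x := hom.mem_img
  have BE : img φ (E ⊓ Q) ≤ E := img_le_iff.2 fun x hx => hφ.mem hx.1
  have cB := (hφ.isMap.mono (inf_le_left (b := Q))).card_img
  have c0 := h.card_inf hφ hz hw
  have cE : Nat.card E = Nat.card Q := Nat.eq_of_mul_eq_mul_left hp.out.pos
    ((card_of_relIndex le_top (h.idx_top hφ hz hw)).symm.trans h.card_top)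
  have cmB : ∀ x ∈ img φ (E ⊓ Q), ∀ y ∈ img φ (E ⊓ Q), ⁅x, y⁆ ∈ zpowers (φ z) := fun x hx y hy => by
    obtain ⟨x, hx', rfl⟩ := mB.1 hx
    obtain ⟨y, hy', rfl⟩ := mB.1 hy
    exact hom.map_commutator hx' hy' ▸ h.map_Z' hφ (h.comm x hx'.2 y hy'.2)
  have cA : ∀ x ∈ E ⊓ Q ⊓ img φ (E ⊓ Q), ∀ y ∈ E ⊓ Q ⊓ img φ (E ⊓ Q), ⁅x, y⁆ = 1 := fun x hx y hy =>
    h.inf_bot hφ hz (h.comm x hx.1.2 y hy.1.2) (cmB x hx.2 y hy.2)
  have zA : z ∈ E ⊓ Q ⊓ img φ (E ⊓ Q) := ⟨⟨h.zE, h.zQ⟩, mB.2 ⟨_, ⟨hφ.inv_mem h.zE,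
    (h.comm_T (iso_mem_comm hφ.symm (h.z_mem hφ hz hw))).1⟩, perm_apply_inv_self φ z⟩⟩
  have iB := relIndex_of_card BE (by rw [cB, c0, cE])
  have a1 : Nat.card (E ⊓ Q : Subgroup G) ≤ p * Nat.card (E ⊓ Q ⊓ img φ (E ⊓ Q) : Subgroup G) :=
    card_le_of_relIndex (iB ▸ relIndex_le_of_le_right inf_le_left (iB ▸ hp.out.ne_zero))
  have a2 : Nat.card (E ⊓ Q ⊓ img φ (E ⊓ Q) : Subgroup G) ≤ p ^ 3 := Nat.le_of_mul_le_mul_right
    ((h.sq_le zA (inf_le_left.trans inf_le_right) cA).trans (by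
      rw [← c0, pow_three, mul_assoc, mul_assoc]; gcongr)) (card_pos' _)
  have c4 : Nat.card (E ⊓ Q : Subgroup G) = p ^ 4 := le_antisymm (a1.trans (by rw [pow_succ']; gcongr))
    (Nat.le_of_mul_le_mul_left (by rw [c0, ← pow_succ']; exact h.big) hp.out.pos)
  have c5 : Nat.card Q = p ^ 5 := by rw [← c0, c4, ← pow_succ']
  have lt : ∀ {i j : ℕ}, i < j → p ^ i < p ^ j := Nat.pow_lt_pow_right hp.out.one_lt
  obtain ⟨s, s1, s2⟩ := SetLike.not_le_iff_exists.1 fun e : img φ (E ⊓ Q) ≤ Q => (lt (show 3 < 4 by omega)).not_ge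
    ((c4 ▸ cB ▸ card_le_of_le (le_inf (le_inf BE e) le_rfl)).trans a2)
  have wT := h.comm_T (iso_mem_comm hφ (h.z_mem hφ hz hw))
  have WD := sup_le (zpowers_le.2 h.z_dd) (zpowers_le.2 ((h.mem_dd' s2).2
    ⟨hw, comm_one_symm (h.cE hφ (BE s1)) ▸ one_mem _⟩))
  have DE : dd Q z ≤ E ⊓ Q := fun x hx => ⟨h.key φ hφ hz x ((mem_cq.1 wT).2 x hx), hx.1⟩
  have Dlt := DE.lt_of_ne fun e => h.not_le hφ hz hw (h.comm_le (BE s1) s2 fun a ha =>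
    comm_mem_symm ((h.mem_dd.1 (e.ge ha)).2 s))
  have hD : p * Nat.card (dd Q z) < Nat.card Q :=
    (mul_card_le h.pg' DE Dlt.2).trans_lt (by rw [c4, c5]; exact lt (by omega))
  have pB : (∀ x ∈ E ⊓ Q, x ^ p = 1) → ∀ x ∈ img φ (E ⊓ Q), x ^ p = 1 := fun e x hx => by
    obtain ⟨x, hx', rfl⟩ := mB.1 hx
    exact iso_pow hφ hx'.1 (e x hx')
  have cW : ∀ e ∈ E, ∀ x ∈ zpowers z ⊔ zpowers (φ z), ⁅x, e⁆ = 1 := fun e he =>
    comm_one_of_sup (fun _ ha => comm_one_symm (h.cZ ha e)) (comm_one_symm (h.cE hφ he))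
  have cW' := (h.card_zp hw hz).trans (sq p).symm
  rcases WD.eq_or_lt with e | WD'
  · have p0 : ∀ x ∈ E ⊓ Q, x ^ p = 1 := fun x hx => h.pow_T s2 (e ▸ (h.inf_eq hφ hz hw).le hx)
    exact .inr (h.pres4 c5 (fun _ => h.expA hφ hz hw hD p0) s2 (pB p0 s s1) (e ▸ cW')
      fun x hx => comm_one_symm (cW s (BE s1) x (e.ge hx)))
  have c3 : Nat.card (dd Q z) = p ^ 3 :=
    card_eq_of_between (isPGroup_of_le h.pg le_top) WD' Dlt cW' c4
  obtain ⟨d, d1, d2⟩ := SetLike.exists_of_lt WD'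
  have eD := sup_zpowers_eq WD (relIndex_of_card WD (by rw [c3, cW', pow_succ'])) d1 d2
  have cD : ∀ y, y ∈ E → ⁅d, y⁆ = 1 → ∀ x ∈ dd Q z, ⁅x, y⁆ = 1 := fun y hy e =>
    eD ▸ comm_one_of_sup (cW y hy) e
  have eT := h.eq_cq (A := dd Q z) h.z_dd inf_le_left (fun x hx => mem_cq.2 ⟨hx.1, cD x (DE hx).1
    (comm_one_symm (cD d (DE d1).1 (commutatorElement_self d) x hx))⟩) (by rw [c3, c5]; exact le_of_eq (by ring))
  have nE := h.not_comm (A := E ⊓ Q) zA.1 inf_le_right c0.ge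
  obtain ⟨a, a3, a4⟩ := SetLike.not_le_iff_exists.1 fun e : E ⊓ Q ⊓ img φ (E ⊓ Q) ≤ dd Q z => nE (by
    have e1 := eq_of_le_of_card_ge e (Nat.le_of_mul_le_mul_left (by rw [c3, ← pow_succ', ← c4]; exact a1)
      hp.out.pos)
    have e2 := sup_zpowers_eq (inf_le_right (a := E ⊓ Q)) (relIndex_of_card inf_le_right (by
      rw [e1, cB, c3, c4, pow_succ'])) s1 fun t => s2 t.1.2
    have e3 : ∀ x ∈ E ⊓ Q ⊓ img φ (E ⊓ Q), ⁅x, s⁆ = 1 := fun x hx =>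
      h.inf_bot hφ hz ((h.mem_dd.1 (e hx)).2 s) (cmB x hx.2 s s1)
    intro x hx y hy
    refine (hφ.isMap.apply_eq_one (mul_mem (mul_mem (mul_mem hx.1 hy.1) (inv_mem hx.1)) (inv_mem hy.1))).1
      ((hom.map_commutator hx hy).trans (comm_one_of_sup (fun a ha => comm_one_symm (comm_one_of_sup
        (fun b hb => cA b hb a ha) (comm_one_symm (e3 a ha)) _ (e2.ge (mem_img_of_mem φ hy))))
        (comm_one_symm (comm_one_of_sup e3 (commutatorElement_self s) _ (e2.ge (mem_img_of_mem φ hy)))) _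
        (e2.ge (mem_img_of_mem φ hx)))))
  have e0 := sup_zpowers_eq DE (relIndex_of_card DE (by rw [c3, c4, pow_succ'])) a3.1 a4
  have p0 : ∀ x ∈ E ⊓ Q, x ^ p = 1 := fun x hx => h.pow_sup h.z_dd inf_le_left
    (fun x hx => h.pow_T s2 (eT.le hx)) a3.1.2 (by
      obtain ⟨y, hy, rfl⟩ := mB.1 a3.2
      exact h.inf_bot hφ hz (h.pow _ a3.1.2) (hom.map_pow hy p ▸ h.map_Z' hφ (h.pow y hy.2))) (e0.ge hx)
  have n1 : ⁅d, a⁆ ≠ 1 := fun e => a4 (eT.ge (mem_cq.2 ⟨a3.1.2, cD a a3.1.1 e⟩))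
  obtain ⟨k, hk⟩ := exists_zpow_eq_of_prime h.zp ((h.mem_dd.1 d1).2 a) n1 (inv_mem ((h.mem_dd.1 d1).2 s))
  have m := mul_mem s1 ((img φ (E ⊓ Q)).zpow_mem a3.2 k)
  exact .inl (h.pres22 c5 (fun _ => h.expA hφ hz hw hD p0) (fun e => s2 ((Q.mul_mem_cancel_right
    (Q.zpow_mem a3.1.2 k)).1 e)) (pB p0 _ m) c3 (fun x hx => comm_one_symm (cD _ (BE m) (by
      rw [h.comm_mul_right ((h.mem_dd.1 d1).2 _), h.comm_zpow_right ((h.mem_dd.1 d1).2 _), hk, mul_inv_cancel])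
      x hx)) fun y _ => eT.ge (h.comm_T (commutator_mem_commutator (mem_top y) (mem_top _))))

end XF

end Cfsg.Agent.H1
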