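import Cfsg.Agent.H1.X7

/-!
# The case of conjugates of `z` outside `Q`
-/

set_option autoImplicit false
set_option linter.unusedSectionVars false

namespace Cfsg.Agent.H1

open Equiv Cfsg.Fus Cfsg.FusionSystem Subgroup
open scoped commutatorElement

variable {p : ℕ} [hp : Fact p.Prime] {G : Type*} [Group G] [Finite G] {F : FusionSystem (⊤ : Subgroup G)}
  {A B D E H Q R : Subgroup G} {a b e g s t u v w x y z : G} {φ ψ τ : Perm G} {l : G → ZMod p}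

theorem comm_mul_eq (y e : G) : ⁅y, e⁆ * e = y * e * y⁻¹ := by simp [commutatorElement_def]

/-- No conjugate of `z` outside `⟨z⟩` lies in `Q`. -/
structure XB (F : FusionSystem (⊤ : Subgroup G)) (p : ℕ) (Q : Subgroup G) (z : G) (E : Subgroup G) : Prop
    extends XF F p Q z E where
  out : ∀ ψ, F.Iso E E ψ → ψ z ∈ Q → ψ z ∈ zpowers z

namespace XB

variable (h : XB F p Q z E)
include h

theorem tang (hφ : F.Iso E E φ) (hψ : F.Iso E E ψ) (hm : ψ z ∈ img φ (E ⊓ Q)) : ψ z ∈ zpowers (φ z) := by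
  simpa using h.map_Z' hφ (h.out _ (hψ.trans hφ.symm) ((hφ.homOn.mono inf_le_left).mem_img_perm.1 hm).2)

theorem isoN (hy : y ∈ normalizer (E : Set G)) : F.Iso E E (cj y) := F.iso_cj le_top trivial hy

variable (hφ : F.Iso E E φ) (hz : φ z ∉ zpowers z)
include hφ hz

theorem nQ' : φ z ∉ Q := fun e => hz (h.out φ hφ e)

theorem zp_inf (h1 : x ∈ zpowers (φ z)) (h2 : x ∈ Q) : x = 1 := by
  obtain ⟨k, rfl⟩ := h1
  exact zpow_eq_one_of_mem (h.pow_z hφ) (h.nQ' hφ hz) h2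

theorem ab (hx : x ∈ E) (hy : y ∈ E) : ⁅x, y⁆ = 1 := by_contra fun e => by
  have le := h.comm_le (hφ.mem h.zE) (h.nQ' hφ hz) fun a ha => comm_one_symm (h.cE hφ ha.1) ▸ one_mem _
  have m := commutator_mem_commutator hx hy
  obtain ⟨k, hk⟩ := exists_zpow_eq_of_prime h.zp (le m) e (mem_zpowers z)
  exact hz (le (iso_mem_comm hφ (hk ▸ zpow_mem m k)))

theorem nE (hA : A ≤ E) : E ≤ normalizer (A : Set G) := fun _ hx =>
  normalizer_of_comm le_top fun _ hy => h.ab hφ hz hx (hA hy) ▸ one_mem _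

theorem dec (hs : s ∈ E) (hs' : s ∉ Q) (hx : x ∈ E) : ∃ a ∈ E ⊓ Q, ∃ k : ℤ, x = a * s ^ k :=
  (mem_sup_zpowers (h.nE hφ hz inf_le_left hs)).1 ((h.supE hs hs').ge hx)

theorem ex (hx : x ∈ E) : x ^ p = 1 := by_contra fun e => by
  have key : ∀ x ∈ E, x ^ p ∈ zpowers z := fun x hx => by
    obtain ⟨a, ha, k, rfl⟩ := h.dec hφ hz (hφ.mem h.zE) (h.nQ' hφ hz) hx
    rw [(show Commute a _ from comm_one_iff.1 (h.ab hφ hz ha.1 (E.zpow_mem (hφ.mem h.zE) k))).mul_pow,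
      ← zpow_natCast (φ z ^ k), zpow_comm, zpow_natCast, h.pow_z hφ, one_zpow, mul_one]
    exact h.pow a ha.2
  obtain ⟨k, hk⟩ := exists_zpow_eq_of_prime h.zp (key x hx) e (mem_zpowers z)
  refine hz ?_
  nth_rw 2 [← hk]
  rw [hφ.homOn.map_zpow (E.pow_mem hx p), hφ.homOn.map_pow hx]
  exact zpow_mem (key _ (hφ.mem hx)) k

theorem le_dd : E ⊓ Q ≤ dd Q z := fun _ hx => (h.mem_dd' (h.nQ' hφ hz)).2 ⟨hx.2, h.cE hφ hx.1 ▸ one_mem _⟩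

theorem mem_N (hy : y ∈ Q) (h1 : ⁅y, φ z⁆ ∈ E) : y ∈ normalizer (E : Set G) :=
  normalizer_of_comm le_top fun x hx => comm_mem_symm (comm_mem_of_sup_zpowers
    (inf_le_left.trans le_normalizer) (le_normalizer (hφ.mem h.zE)) (fun a ha => h.ZE (h.comm a ha.2 y hy))
    (comm_mem_symm h1) x ((h.supE (hφ.mem h.zE) (h.nQ' hφ hz)).ge hx))

theorem comm_E (hy : y ∈ normalizer (E : Set G)) : ⁅y, φ z⁆ ∈ E ⊓ Q :=
  ⟨mul_mem (conj_mem_of_mem_normalizer hy (hφ.mem h.zE)) (E.inv_mem (hφ.mem h.zE)), h.commQ _ _⟩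

theorem dd_N (hy : y ∈ dd Q z) : y ∈ normalizer (E : Set G) := h.mem_N hφ hz hy.1 (h.ZE ((h.mem_dd.1 hy).2 _))

theorem exists_l : ∃ l, Lg p E (img φ (E ⊓ Q)) z l := by
  have le : img φ (E ⊓ Q) ≤ E := img_le_iff.2 fun x hx => hφ.mem hx.1
  exact exists_lg (h.nE hφ hz le) (relIndex_of_card le (by rw [(hφ.isMap.mono inf_le_left).card_img,
    card_of_relIndex inf_le_left (h.idxE (hφ.mem h.zE) (h.nQ' hφ hz))])) h.zE
    fun e => h.z1 (h.zp_inf hφ hz (h.tang hφ (F.iso_one le_top) e) h.zQ)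

theorem bsym (hx : x ∈ Q) (hy : y ∈ Q) (h1 : x ∈ normalizer (E : Set G)) (h2 : y ∈ normalizer (E : Set G)) :
    h.bf x ⁅y, φ z⁆ = h.bf y ⁅x, φ z⁆ := by
  have := h.bf_comm hx hy (φ z)
  rw [h.bf_of (h.ab hφ hz (h.comm_E hφ hz h1).1 (h.comm_E hφ hz h2).1), h.bf_symm hy (h.commQ _ _)] at this
  linear_combination -this

theorem bz (hx : x ∈ Q) (hy : y ∈ Q) (k : ℤ) : h.bf x ⁅y ^ k, φ z⁆ = k * h.bf x ⁅y, φ z⁆ :=
  zpow_of_add (f := fun y => h.bf x ⁅y, φ z⁆) (fun _ ha b _ => h.bf_comm_mul ha hx b _) hy k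

section
variable (hl : Lg p E (img φ (E ⊓ Q)) z l)
include hl

theorem l_e : l (φ z) = 0 := (hl.zero _ (hφ.mem h.zE)).2 (mem_img_of_mem φ ⟨h.zE, h.zQ⟩)

theorem f_add (hx : x ∈ Q) (h1 : x ∈ normalizer (E : Set G)) (h2 : y ∈ normalizer (E : Set G)) :
    l ⁅x * y, φ z⁆ = l ⁅x, φ z⁆ + l ⁅y, φ z⁆ + h.bf x ⁅y, φ z⁆ := by
  have m := h.comm x hx _ (h.commQ y (φ z))
  have e : l ⁅x, ⁅y, φ z⁆⁆ = h.bf x ⁅y, φ z⁆ := by
    obtain ⟨k, hk⟩ := m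
    rw [XS.bf, ← hk, hl.zpow h.zE, h.lg.zpow (mem_zpowers z), hl.base, h.lg.base]
  rw [show ⁅x * y, φ z⁆ = ⁅x, ⁅y, φ z⁆⁆ * ⁅y, φ z⁆ * ⁅x, φ z⁆ by simp only [commutatorElement_def]; group,
    hl.mul _ (mul_mem (h.ZE m) (h.comm_E hφ hz h2).1) _ (h.comm_E hφ hz h1).1,
    hl.mul _ (h.ZE m) _ (h.comm_E hφ hz h2).1, e]
  ring

theorem f_zero (h1 : y ∈ normalizer (E : Set G)) (h0 : l ⁅y, φ z⁆ = 0) : y ∈ E := by
  have m := h.comm_E hφ hz h1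
  have := h.tang hφ (hφ.trans (h.isoN h1)) ((hl.zero _ ((h.isoN h1).mem (hφ.mem h.zE))).1 (by
    rw [cj_apply, ← comm_mul_eq, hl.mul _ m.1 _ (hφ.mem h.zE), h0, h.l_e hφ hz hl, add_zero]))
  rw [Perm.mul_apply, cj_apply, ← comm_mul_eq, mul_mem_cancel_right (mem_zpowers _)] at this
  exact h.key φ hφ hz y (h.zp_inf hφ hz this m.2)

theorem f_pow (hy : y ∈ Q) (h1 : y ∈ normalizer (E : Set G)) (k : ℕ) :
    2 * l ⁅y ^ k, φ z⁆ = k * (2 * l ⁅y, φ z⁆ + (k - 1) * h.bf y ⁅y, φ z⁆) := by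
  induction k with
  | zero => simp [hl.one]
  | succ k ih =>
    rw [pow_succ, h.f_add hφ hz hl (Q.pow_mem hy k) (pow_mem h1 k) h1, ← zpow_natCast, h.bf_zl hy (h.commQ _ _),
      zpow_natCast]
    push_cast; linear_combination ih

theorem aniso (hy : y ∈ Q) (h1 : y ∈ normalizer (E : Set G)) (h2 : y ∉ E) (h3 : h.bf y ⁅y, φ z⁆ ≠ 0) :
    2 * l ⁅y, φ z⁆ = h.bf y ⁅y, φ z⁆ := by
  obtain ⟨k, hk⟩ := ZMod.natCast_zmod_surjective (1 - 2 * l ⁅y, φ z⁆ / h.bf y ⁅y, φ z⁆)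
  have := h.f_zero hφ hz hl (pow_mem h1 k) (mul_left_cancel₀ (two_ne h.p2) (by
    rw [h.f_pow hφ hz hl hy h1, hk]; field_simp; ring))
  rw [← zpow_natCast] at this
  rw [← Int.cast_natCast, (ZMod.intCast_zmod_eq_zero_iff_dvd _ p).2
    (dvd_of_zpow_mem this (h.ZE (h.pow y hy)) h2)] at hk
  field_simp at hk
  linear_combination hk

end

section
variable (hy : y ∈ Q) (h1 : y ∈ normalizer (E : Set G)) (h2 : y ∉ E) (h3 : ⁅y, ⁅y, φ z⁆⁆ = 1)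
include hy h1 h2 h3

theorem iso_le (hx : x ∈ Q) (hx' : x ∈ normalizer (E : Set G)) : x ∈ E ⊓ Q ⊔ zpowers y := by
  obtain ⟨l, hl⟩ := h.exists_l hφ hz
  have key : ∀ x ∈ Q, x ∈ normalizer (E : Set G) → l ⁅y, φ z⁆ + h.bf y ⁅x, φ z⁆ ≠ 0 → x ∈ E ⊓ Q ⊔ zpowers y :=
    fun x hx hx' e => by
      obtain ⟨k, hk⟩ := ZMod.natCast_zmod_surjective (-l ⁅x, φ z⁆ / (l ⁅y, φ z⁆ + h.bf y ⁅x, φ z⁆))
      have t := h.f_pow hφ hz hl hy h1 k
      rw [h.bf_of h3] at t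
      refine (mul_mem_cancel_left (mem_sup_right (pow_mem (mem_zpowers y) k))).1 (mem_sup_left
        ⟨h.f_zero hφ hz hl (mul_mem (pow_mem h1 k) hx') (mul_left_cancel₀ (two_ne h.p2) ?_),
          mul_mem (Q.pow_mem hy k) hx⟩)
      rw [h.f_add hφ hz hl (Q.pow_mem hy k) (pow_mem h1 k) hx', ← zpow_natCast, h.bf_zl hy (h.commQ _ _),
        zpow_natCast, Int.cast_natCast]
      field_simp at hk
      linear_combination t + 2 * hk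
  by_cases e : l ⁅y, φ z⁆ + h.bf y ⁅x, φ z⁆ = 0
  · refine mem_of_sq_mem h.pg h.p2 trivial (key _ (Q.pow_mem hx 2) (pow_mem hx' 2) fun e' =>
      h2 (h.f_zero hφ hz hl h1 ?_))
    rw [sq, h.bf_comm_mul hx hy] at e'
    linear_combination 2 * e - e'
  · exact key x hx hx' e

theorem iso_idx : (E ⊓ Q).relIndex (E ⊓ Q ⊔ zpowers y) = p :=
  relIndex_sup_zpowers (h.norm (A := E ⊓ Q) ⟨h.zE, h.zQ⟩ inf_le_right hy) (fun e => h2 e.1) ⟨h.ZE (h.pow y hy), h.powQ y⟩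

theorem iso_mem : ⁅y, φ z⁆ ∈ zpowers z := by_contra fun hu => by
  have n := h.nQ' hφ hz
  have eD := (eq_or_eq_of_relIndex (h.le_dd hφ hz) (fun x hx => h.iso_le hφ hz hy h1 h2 h3 hx.1 (h.dd_N hφ hz hx))
    (h.iso_idx hφ hz hy h1 h2 h3)).resolve_right fun e =>
      hu ((h.mem_dd.1 (e.ge (mem_sup_right (mem_zpowers y)))).2 _)
  have c0 : ∀ x ∈ E ⊓ Q, ⁅x, y⁆ = 1 := fun x hx => by
    obtain ⟨v, v1, v2⟩ := h.exists_comm n (mem_cq.2 ⟨hx.2, fun d hd => h.ab hφ hz (eD.le hd).1 hx.1⟩)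
    obtain ⟨a, ha, k, rfl⟩ := (mem_sup_zpowers (h.norm (A := E ⊓ Q) ⟨h.zE, h.zQ⟩ inf_le_right hy)).1
      (h.iso_le hφ hz hy h1 h2 h3 v1 (h.mem_N hφ hz v1
        (E.inv_mem_iff.1 ((E.mul_mem_cancel_right hx.1).1 (h.ZE v2)))))
    refine comm_one_symm ((h.bf_zero hy hx.2).1 ?_)
    rw [← mul_inv_cancel_left ⁅a * y ^ k, φ z⁆ x, h.bf_right (h.commQ _ _) (h.ZQ v2) hy, h.bf_of (h.cZ v2 y),
      h.bf_comm_mul ha.2 hy, h.bz hφ hz hy hy, h.bf_of h3, h.cE hφ ha.1, h.bf_of (commutatorElement_one_right y)]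
    ring
  have m := h.comm_E hφ hz h1
  obtain ⟨-, -, a, W, t⟩ := elem_qTv h.pg h.ess (elem_of (fun _ hx _ => h.ab hφ hz hx) fun _ => h.ex hφ hz)
    trivial h2 m.1 (comm_one_iff.1 h3) fun x hx => comm_mem_of_sup_zpowers
      (inf_le_left.trans (h.nE hφ hz (zpowers_le.2 m.1))) (h.nE hφ hz (zpowers_le.2 m.1) (hφ.mem h.zE))
      (fun a ha => c0 a ha ▸ one_mem _) (comm_mem_symm (mem_zpowers _)) x ((h.supE (hφ.mem h.zE) n).ge hx)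
  have WQ : W ≤ Q := fun w hw => by_contra fun e => h2 (h.key φ hφ hz y (comm_one_symm (comm_one_of_sup c0
    ((conj_mem_iff_comm (nle ⊥ w)).1 (t.fix w hw)) _ ((h.supE (t.le hw) e).ge (hφ.mem h.zE)))))
  have aE : a ∈ E := by obtain ⟨ψ, hψ, rfl⟩ := t.conj; exact hψ.mem m.1
  obtain ⟨τ, t1, t2, t3, t4, -⟩ := t.torus (-1) (-1) (by simp)
  obtain ⟨w, hw, i, j, e⟩ := t.decomp z h.zE
  have wE := t.le hw
  have e1 : a ^ j = 1 := zpow_eq_one_of_mem (h.ex hφ hz aE) (fun e => t.ne ((conj_mem_iff_comm (nle ⊥ a)).2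
    (c0 a ⟨aE, e⟩))) ((Q.mul_mem_cancel_left (mul_mem (WQ hw) (Q.zpow_mem m.2 i))).1 (e ▸ h.zQ))
  rw [e1, mul_one] at e
  have e2 : τ z = w * (⁅y, φ z⁆ ^ i)⁻¹ := by
    nth_rw 1 [e]
    rw [t1.homOn.map_mul wE (E.zpow_mem m.1 i), t1.homOn.map_zpow m.1, ← inv_mul_eq_one.1 (t4 w hw),
      ← inv_mul_eq_one.1 t2, zpow_comm, zpow_neg_one]
  have e3 : w ∈ zpowers z := mem_of_sq_mem h.pg h.p2 trivial (by
    have := mul_mem (h.out τ t1 (e2 ▸ mul_mem (WQ hw) (Q.inv_mem (Q.zpow_mem m.2 i)))) (mem_zpowers z)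
    rw [e2] at this
    nth_rw 3 [e] at this
    rwa [mul_assoc, ← mul_assoc _⁻¹, comm_one_iff.1 (h.ab hφ hz (E.inv_mem (E.zpow_mem m.1 i)) wE), mul_assoc,
      inv_mul_cancel, mul_one, ← sq] at this)
  by_cases w1 : w = 1
  · rw [w1, one_mul] at e
    exact h.z1 (e.trans (zpow_eq_one_of_mem (h.ex hφ hz m.1) hu (e ▸ mem_zpowers z)))
  · obtain ⟨k, hk⟩ := exists_zpow_eq_of_prime h.zp e3 w1 (mem_zpowers z)
    exact n (WQ (t.invW φ hφ z (hk ▸ zpow_mem hw k)))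

theorem iso_pearl : E ⊓ Q ≤ zpowers z := fun t ht => by
  have n := h.nQ' hφ hz
  haveI := h.nQ
  have yD := (h.mem_dd' n).2 ⟨hy, h.iso_mem hφ hz hy h1 h2 h3⟩
  have le := sup_le (h.le_dd hφ hz) (zpowers_le.2 yD)
  have ND : ∀ x ∈ Q, ⁅x, φ z⁆ ∈ E → x ∈ dd Q z := fun x hx e =>
    le (h.iso_le hφ hz hy h1 h2 h3 hx (h.mem_N hφ hz hx e))
  have idx := h.iso_idx hφ hz hy h1 h2 h3
  rw [le.antisymm fun x hx => h.iso_le hφ hz hy h1 h2 h3 hx.1 (h.dd_N hφ hz hx)] at idx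
  obtain ⟨x, x1, x2, x3⟩ := exists_comm_mem h.pg' fun e : Q ≤ dd Q z => h.not_comm (A := E ⊓ Q) ⟨h.zE, h.zQ⟩
    inf_le_right ((card_le_of_le e).trans (card_of_relIndex (h.le_dd hφ hz) idx).le)
    fun _ ha _ hb => h.ab hφ hz ha.1 hb.1
  obtain ⟨v, v1, v2⟩ := h.exists_comm n (mem_cq.2 ⟨ht.2, sup_zpowers_eq (h.le_dd hφ hz) idx (x3 (φ z))
    (fun e => x2 (ND x x1 e.1)) ▸ comm_one_of_sup (fun a ha => h.ab hφ hz ha.1 ht.1)
      (comm_one_symm (h.comm_dd (h.le_dd hφ hz ht) _ _))⟩)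
  exact (mul_mem_cancel_left (Subgroup.inv_mem _ ((h.mem_dd.1 (ND v v1
    (E.inv_mem_iff.1 ((E.mul_mem_cancel_right ht.1).1 (h.ZE v2))))).2 _))).1 v2

end

end XB

end Cfsg.Agent.H1
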