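import Cfsg.Agent.H1.X8

/-!
# The anisotropic case
-/

set_option autoImplicit false
set_option linter.unusedSectionVars false

namespace Cfsg.Agent.H1

open Equiv Cfsg.Fus Cfsg.FusionSystem Subgroup
open scoped commutatorElement

variable {p : ℕ} [hp : Fact p.Prime] {G : Type*} [Group G] [Finite G] {F : FusionSystem (⊤ : Subgroup G)}
  {A B D E H Q R : Subgroup G} {a b e g s t u v w x y z : G} {φ ψ τ : Perm G} {l : G → ZMod p}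

/-- The elements of order dividing `p` in `Q`. -/
def XS.om (h : XS p Q z) : Subgroup G := H1.om p Q ⊥ fun x hx y hy h1 h2 => by
  rw [h.mul_pow hx hy]; exact mul_mem h1 h2

theorem XS.om_le (h : XS p Q z) : h.om ≤ Q := fun _ e => e.1

theorem XS.card_om (h : XS p Q z) : Nat.card Q ≤ p * Nat.card h.om := by
  let π : Q →* G := MonoidHom.mk' (fun x => (x : G) ^ p) fun a b => h.mul_pow a.2 b.2
  rw [π.ker.card_eq_card_quotient_mul_card_subgroup, Nat.card_congr (QuotientGroup.quotientKerEquivRange π).toEquiv,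
    show π.ker = h.om.subgroupOf Q from Subgroup.ext fun y => (and_iff_right y.2).symm,
    card_subgroupOf_of_le h.om_le]
  exact Nat.mul_le_mul_right _ ((card_le_of_le (by rintro _ ⟨y, rfl⟩; exact h.pow y y.2)).trans h.cardZ.le)

/-- The quadratic form is anisotropic. -/
structure XC (F : FusionSystem (⊤ : Subgroup G)) (p : ℕ) (Q : Subgroup G) (z : G) (E : Subgroup G) : Prop
    extends XB F p Q z E where
  an : ∀ φ, F.Iso E E φ → φ z ∉ zpowers z → ∀ y ∈ Q, y ∈ normalizer (E : Set G) → y ∉ E → ⁅y, ⁅y, φ z⁆⁆ ≠ 1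

namespace XC

variable (h : XC F p Q z E) (hφ : F.Iso E E φ) (hz : φ z ∉ zpowers z)
include h hφ hz

theorem eqD : E ⊓ Q = dd Q z := (h.le_dd hφ hz).antisymm fun x hx => ⟨by_contra fun e =>
  h.an φ hφ hz x hx.1 (h.dd_N hφ hz hx) e (h.cZ ((h.mem_dd.1 hx).2 _) x), hx.1⟩

theorem DE (hx : x ∈ dd Q z) : x ∈ E := ((h.eqD hφ hz).ge hx).1

theorem surj (hs : s ∉ Q) (hx : x ∈ dd Q z) : ∃ y ∈ Q, ⁅y, s⁆⁻¹ * x ∈ zpowers z :=
  h.exists_comm hs (mem_cq.2 ⟨hx.1, fun _ hd => h.ab hφ hz (h.DE hφ hz hd) (h.DE hφ hz hx)⟩)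

theorem comm_D (hy : y ∈ Q) : ⁅y, φ z⁆ ∈ dd Q z := by
  haveI := h.nD
  haveI := h.nQ
  haveI := (h.cfix_step (h.nQ' hφ hz) h.z_dd inf_le_left).1
  refine (mem_cfix'.1 ((?_ : Q ≤ cfix Q (dd Q z) (φ z)) hy)).2
  by_contra e
  obtain ⟨x, x1, x2, x3⟩ := exists_comm_mem h.pg' e
  have m := mem_cfix'.1 (x3 (φ z))
  exact h.an φ hφ hz _ m.1 (h.mem_N hφ hz m.1 (h.DE hφ hz m.2))
    (fun e => x2 (mem_cfix'.2 ⟨x1, (h.eqD hφ hz).le ⟨e, m.1⟩⟩)) (comm_one_symm (h.comm_dd m.2 _ _))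

theorem QN (hy : y ∈ Q) : y ∈ normalizer (E : Set G) := h.mem_N hφ hz hy (h.DE hφ hz (h.comm_D hφ hz hy))

theorem nrm (g : G) : g ∈ normalizer (E : Set G) :=
  sup_le (fun _ => h.QN hφ hz) (zpowers_le.2 (le_normalizer (hφ.mem h.zE))) (h.sup_top (h.nQ' hφ hz) g)

theorem eqT : cq Q (dd Q z) = dd Q z := le_antisymm (fun x hx => by
  obtain ⟨y, y1, y2⟩ := h.exists_comm (h.nQ' hφ hz) hx
  exact (mul_mem_cancel_left (Subgroup.inv_mem _ (h.comm_D hφ hz y1))).1 (zpowers_le.2 h.z_dd y2))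
  fun x hx => mem_cq.2 ⟨hx.1, fun _ hd => h.ab hφ hz (h.DE hφ hz hd) (h.DE hφ hz hx)⟩

theorem bne (hy : y ∈ Q) (hy' : y ∉ dd Q z) : h.bf y ⁅y, φ z⁆ ≠ 0 := fun e =>
  h.an φ hφ hz y hy (h.QN hφ hz hy) (fun t => hy' ((h.eqD hφ hz).le ⟨t, hy⟩)) ((h.bf_zero hy (h.commQ _ _)).1 e)

theorem rep (hx : x ∈ Q) (hx' : x ∉ dd Q z) (hy : y ∈ Q) (hy' : y ∉ dd Q z) (e : ⁅y, ⁅x, φ z⁆⁆ = 1) (c : ZMod p) :
    ∃ i j : ℤ, h.bf (x ^ i * y ^ j) ⁅x ^ i * y ^ j, φ z⁆ = c := by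
  obtain ⟨i, j, t⟩ := exists_quad h.p2 c (h.bne hφ hz hx hx') (h.bne hφ hz hy hy')
  obtain ⟨i, rfl⟩ := ZMod.intCast_surjective i
  obtain ⟨j, rfl⟩ := ZMod.intCast_surjective j
  have m := mul_mem (Q.zpow_mem hx i) (Q.zpow_mem hy j)
  refine ⟨i, j, ?_⟩
  rw [h.bf_comm_mul (Q.zpow_mem hx i) m, h.bz hφ hz m hx, h.bz hφ hz m hy,
    h.bf_left (Q.zpow_mem hx i) (Q.zpow_mem hy j) (h.commQ _ _), h.bf_left (Q.zpow_mem hx i) (Q.zpow_mem hy j)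
    (h.commQ _ _), h.bf_zl hx (h.commQ _ _), h.bf_zl hy (h.commQ _ _), h.bf_zl hx (h.commQ _ _),
    h.bf_zl hy (h.commQ _ _), h.bsym hφ hz hx hy (h.QN hφ hz hx) (h.QN hφ hz hy), h.bf_of e]
  linear_combination t

theorem exists_orth (hA : A ≤ Q) (hc : p * Nat.card (dd Q z) < Nat.card A) (hu : u ∈ Q) :
    ∃ y ∈ A, y ∉ dd Q z ∧ ⁅y, u⁆ = 1 := by
  obtain ⟨y, y1, y2⟩ := SetLike.not_le_iff_exists.1 fun e : A ⊓ centralizer {u} ≤ dd Q z => hc.not_ge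
    ((h.card_cent fun y hy => h.comm y (hA hy) u hu).trans (Nat.mul_le_mul_left _ (card_le_of_le e)))
  exact ⟨y, y1.1, y2, comm_one_iff.2 (mem_centralizer_singleton_iff.1 y1.2)⟩

theorem lt_card : p * Nat.card (dd Q z) < Nat.card Q := not_le.1 fun e => h.not_comm h.z_dd inf_le_left e
  fun _ ha _ hb => h.ab hφ hz (h.DE hφ hz ha) (h.DE hφ hz hb)

theorem univ (c : ZMod p) : ∃ y ∈ Q, h.bf y ⁅y, φ z⁆ = c := by
  obtain ⟨x, x1, x2, -⟩ := h.exists_orth hφ hz le_rfl (h.lt_card hφ hz) h.zQ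
  obtain ⟨y, y1, y2, y3⟩ := h.exists_orth hφ hz le_rfl (h.lt_card hφ hz) (h.commQ x (φ z))
  obtain ⟨i, j, e⟩ := h.rep hφ hz x1 x2 y1 y2 y3 c
  exact ⟨_, mul_mem (Q.zpow_mem x1 i) (Q.zpow_mem y1 j), e⟩

theorem cards : Nat.card Q = p ^ 5 ∧ Nat.card (dd Q z) = p ^ 3 := by
  have e1 : Nat.card Q ≤ p * (p * Nat.card (dd Q z)) := not_lt.1 fun e => by
    obtain ⟨x, x1, x2, -⟩ := h.exists_orth hφ hz le_rfl (h.lt_card hφ hz) h.zQ
    obtain ⟨y, y1, y2, y3⟩ := h.exists_orth hφ hz le_rfl (h.lt_card hφ hz) (h.commQ x (φ z))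
    obtain ⟨w, w1, w2, w3⟩ := h.exists_orth hφ hz (A := Q ⊓ centralizer {⁅x, φ z⁆}) inf_le_left
      (Nat.lt_of_mul_lt_mul_left (e.trans_le (h.card_cent fun y hy => h.comm y hy _ (h.commQ _ _))))
      (h.commQ y (φ z))
    obtain ⟨i, j, t⟩ := h.rep hφ hz x1 x2 y1 y2 y3 (-h.bf w ⁅w, φ z⁆)
    have m := mul_mem (Q.zpow_mem x1 i) (Q.zpow_mem y1 j)
    have t1 : h.bf w ⁅x ^ i * y ^ j, φ z⁆ = 0 := by
      rw [h.bf_comm_mul (Q.zpow_mem x1 i) w1.1, h.bz hφ hz w1.1 x1, h.bz hφ hz w1.1 y1, h.bf_of w3,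
        h.bf_of (comm_one_iff.2 (mem_centralizer_singleton_iff.1 w1.2))]
      ring
    have t2 := h.bf_comm_mul m w1.1 w (φ z)
    refine h.bne hφ hz (mul_mem m w1.1) (fun d => h.bne hφ hz w1.1 w2 ?_) ?_
    · rw [h.bf_of (h.cZ ((h.mem_dd.1 d).2 _) w), t1, zero_add] at t2
      exact t2.symm
    · rw [h.bf_left m w1.1 (h.commQ _ _), t2, h.bf_comm_mul m m, t,
        h.bsym hφ hz m w1.1 (h.QN hφ hz m) (h.QN hφ hz w1.1), t1]
      ring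
  have e2 := h.perp h.z_dd inf_le_left
  rw [h.eqT hφ hz] at e2
  have e3 : Nat.card (dd Q z) ≤ p ^ 3 := Nat.le_of_mul_le_mul_right (e2.le.trans (by
    rw [pow_three, mul_assoc, mul_assoc]; gcongr)) (card_pos' _)
  have e4 : Nat.card Q = p ^ 5 := le_antisymm (e1.trans (by rw [pow_succ' _ 4, pow_succ' _ 3]; gcongr)) h.big
  exact ⟨e4, Nat.mul_self_inj.1 (by rw [e2, e4]; ring)⟩

theorem stab0 (hψ : F.Iso E E ψ) (h1 : ψ z ∈ zpowers z) (hx : x ∈ dd Q z) : ψ x ∈ dd Q z := by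
  haveI := h.nZ
  refine (h.eqD hφ hz).le ⟨hψ.mem (h.DE hφ hz hx), by_contra fun e => ?_⟩
  obtain ⟨a, ha, j, e1⟩ := h.dec hφ hz (hψ.mem (h.DE hφ hz hx)) e (hφ.mem h.zE)
  obtain ⟨y, y1, y2⟩ := h.surj hφ hz (h.nQ' hφ hz) (Subgroup.inv_mem _ (h.le_dd hφ hz ha))
  obtain ⟨k, hk⟩ := exists_zpow_eq_of_prime h.zp h1 (iso_ne hψ h.z1) y2
  have := h.tang hψ (hφ.trans (h.isoN (h.QN hφ hz y1))) (by
    rw [Perm.mul_apply, cj_apply, ← comm_mul_eq, show ⁅y, φ z⁆ * φ z = (⁅y, φ z⁆⁻¹ * a⁻¹)⁻¹ * ψ x ^ j by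
      rw [mul_inv_rev, inv_inv, inv_inv, ← comm_one_iff.1 (h.ab hφ hz (h.comm_E hφ hz (h.QN hφ hz y1)).1 ha.1),
        mul_assoc, ← e1], ← hk]
    exact mul_mem (Subgroup.inv_mem _ (zpow_mem (mem_img_of_mem ψ (mem_inf.2 ⟨h.zE, h.zQ⟩)) k))
      (zpow_mem (mem_img_of_mem ψ ((h.eqD hφ hz).ge hx)) j))
  exact hz (by simpa [mul_assoc] using ‹(zpowers z).Normal›.conj_mem _ (zpowers_le.2 h1 this) y⁻¹)

theorem stabT (hψ : F.Iso E E ψ) (h1 : ψ z ∈ zpowers z) (hx : x ∈ cq Q h.om) (hxE : x ∈ E) : ψ x ∈ cq Q h.om := by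
  haveI := h.nZ
  obtain ⟨τ, t1, t2⟩ := ext_flag h.pg h.sat h.ess.isFullyNormalized (n := 3)
    (C := fun | 0 => ⊥ | 1 => zpowers z | 2 => dd Q z | _ => E) rfl rfl
    (fun i hi => by interval_cases i; exacts [bot_le, h.ZE, fun _ => h.DE hφ hz, le_rfl])
    (fun i hi => by interval_cases i; exacts [bot_le, zpowers_le.2 h.z_dd, fun _ => h.DE hφ hz])
    (fun g hg i hi x hx => by
      rw [inv_conj_eq]
      interval_cases i
      exacts [comm_one_symm (h.cZ (Subgroup.inv_mem _ hx) g), (h.mem_dd.1 (Subgroup.inv_mem _ hx)).2 g,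
        (h.eqD hφ hz).le ⟨inv_conj_eq x g ▸ mul_mem (E.inv_mem hx) (conj_mem_of_mem_normalizer hg.2 hx),
          h.commQ _ _⟩]) hψ
    (fun i hi x hx => by
      interval_cases i
      exacts [mem_bot.1 hx ▸ hψ.homOn.map_one, zpowers_le.2 h1 (h.map_Z' hψ hx), h.stab0 hφ hz hψ h1 hx,
        hψ.mem hx])
  rw [show normalizerIn ⊤ E = ⊤ from top_unique fun g _ => ⟨trivial, h.nrm hφ hz g⟩] at t1
  refine t2 x hxE ▸ mem_cq.2 ⟨h.map_Q (h.lt_card hφ hz) (toAut t1) hx.1, fun y hy => ?_⟩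
  have := (mem_cq.1 hx).2 ((toAut t1).symm y) ⟨h.map_Q (h.lt_card hφ hz) _ hy.1, by
    rw [← map_pow, mem_bot.1 hy.2, map_one]; exact one_mem _⟩
  have := congrArg (toAut t1) this
  rwa [map_commutatorElement, MulEquiv.apply_symm_apply, map_one] at this

theorem orbit (hψ : F.Iso E E ψ) (hz' : ψ z ∉ zpowers z) : ∃ y ∈ Q, y * ψ z * y⁻¹ ∈ zpowers (φ z) := by
  obtain ⟨l, hl⟩ := h.exists_l hφ hz
  have eE := hφ.mem h.zE
  obtain ⟨a, ha, j, e1⟩ := h.dec hφ hz eE (h.nQ' hφ hz) (hψ.mem h.zE)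
  have n : φ z ^ j ∉ Q := fun e => h.nQ' hψ hz' (e1 ▸ mul_mem ha.2 e)
  obtain ⟨x, x1, x2⟩ := h.surj hφ hz n (h.le_dd hφ hz ha)
  have j0 : (j : ZMod p) ≠ 0 := fun e => n (zpow_mem_of_dvd ((ZMod.intCast_zmod_eq_zero_iff_dvd j p).1 e) (h.powQ _))
  obtain ⟨y, y1, y2⟩ := h.univ hφ hz (-2 * l (⁅x, φ z ^ j⁆⁻¹ * a) / j)
  have m := mul_mem y1 (Q.inv_mem x1)
  have i1 := h.isoN (h.QN hφ hz m)
  have c := h.comm_E hφ hz (h.QN hφ hz y1)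
  have f : 2 * l ⁅y, φ z⁆ = h.bf y ⁅y, φ z⁆ := by
    by_cases e : y ∈ E
    · rw [h.cE hφ e, hl.one, h.bf_of (commutatorElement_one_right y), mul_zero]
    · exact h.aniso hφ hz hl y1 (h.QN hφ hz y1) e (h.bne hφ hz y1 fun t => e (h.DE hφ hz t))
  refine ⟨_, m, h.tang hφ (hψ.trans i1) ((hl.zero _ (i1.mem (hψ.mem h.zE))).1 ?_)⟩
  have e2 : cj (y * x⁻¹) (ψ z) = ⁅x, φ z ^ j⁆⁻¹ * a * (⁅y, φ z⁆ * φ z) ^ j := by
    have := (mul_inv_cancel_left _ a).symm.trans (h.cZ' x2 ⁅x, φ z ^ j⁆)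
    generalize ⁅x, φ z ^ j⁆⁻¹ * a = c at x2 this
    calc _ = y * x⁻¹ * c * (y * x⁻¹)⁻¹ * (y * φ z ^ j * y⁻¹) := by
          rw [e1, this, cj_apply, commutatorElement_def]; group
      _ = _ := by rw [h.conjZ x2, comm_mul_eq, conj_zpow]
  rw [e2, hl.mul _ (h.ZE x2) _ (E.zpow_mem (mul_mem c.1 eE) j), hl.zpow (mul_mem c.1 eE), hl.mul _ c.1 _ eE,
    h.l_e hφ hz hl]
  refine mul_left_cancel₀ (two_ne h.p2) ?_
  field_simp at y2
  linear_combination j * f + y2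

theorem adj (hx : x ∈ E) : ∃ j : ℤ, φ (x * z ^ j) ∈ dd Q z := by
  obtain ⟨a, ha, j, e⟩ := h.dec hφ hz (hφ.mem h.zE) (h.nQ' hφ hz) (hφ.mem hx)
  exact ⟨-j, by
    rw [hφ.homOn.map_mul hx (E.zpow_mem h.zE _), hφ.homOn.map_zpow h.zE, e, zpow_neg, mul_inv_cancel_right]
    exact h.le_dd hφ hz ha⟩

theorem lZ : φ⁻¹ z ∉ zpowers z := fun e => h.z1 (h.zp_inf hφ hz (by simpa using h.map_Z' hφ e) h.zQ)

section
variable (hx : ¬ Q ≤ h.om)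
include hx

theorem iom : h.om.relIndex Q = p :=
  relIndex_eq_of_le h.pg le_top (relIndex_le_of_card h.om_le h.card_om) hx

theorem TD : cq Q h.om ≤ dd Q z := fun x hx => (h.eqT hφ hz).le
  (mem_cq.2 ⟨hx.1, fun y hy => (mem_cq.1 hx).2 y ⟨hy.1, h.ex hφ hz (h.DE hφ hz hy)⟩⟩)

theorem iT : (zpowers z).relIndex (cq Q h.om) = p := by
  have e := h.perp (A := h.om) ⟨h.zQ, h.zp⟩ h.om_le
  rw [card_of_relIndex h.om_le (h.iom hφ hz hx)] at e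
  exact relIndex_of_card (zpowers_le.2 h.z_cq) (by
    rw [h.cardZ]; exact Nat.eq_of_mul_eq_mul_right (card_pos' _) (e.trans (mul_assoc ..).symm))

theorem nT : (cq Q h.om).Normal :=
  normal_of_comm_mem fun _ e g => zpowers_le.2 h.z_cq ((h.mem_dd.1 (h.TD hφ hz hx e)).2 g)

theorem inf_T (h1 : x ∈ cq Q h.om ⊔ zpowers (φ z)) (h2 : x ∈ Q) : x ∈ cq Q h.om := by
  haveI := h.nT hφ hz hx
  obtain ⟨a, ha, k, rfl⟩ := (mem_sup_zpowers (nle _ _)).1 h1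
  rwa [h.zp_inf hφ hz (zpow_mem_zpowers _ k) ((Q.mul_mem_cancel_left ha.1).1 h2), mul_one]

theorem meet : ∃ v ∈ cq Q h.om, v ∉ zpowers z ∧ φ v ∈ cq Q h.om := by
  haveI := h.nT hφ hz hx
  have TE : cq Q h.om ≤ E := fun _ e => h.DE hφ hz (h.TD hφ hz hx e)
  obtain ⟨t, t1, t2⟩ := SetLike.not_le_iff_exists.1 fun e =>
    hp.out.one_lt.ne' ((h.iT hφ hz hx).symm.trans (relIndex_eq_one.2 e))
  have mt : ∀ j : ℤ, t * z ^ j ∈ cq Q h.om ∧ t * z ^ j ∉ zpowers z := fun j =>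
    ⟨mul_mem t1 (zpow_mem h.z_cq j), fun e => t2 ((mul_mem_cancel_right (zpow_mem_zpowers z j)).1 e)⟩
  obtain ⟨j, hj⟩ := h.adj hφ.symm (h.lZ hφ hz) (TE t1)
  obtain ⟨y, y1, y2⟩ := h.surj hφ hz (h.nQ' hφ.symm (h.lZ hφ hz)) hj
  have γ := hφ.conj (h.isoN (h.QN hφ hz y1))
  have c := (h.comm_E hφ.symm (h.lZ hφ hz) (h.QN hφ hz y1)).1
  have e1 : (φ * cj y * φ⁻¹) z = t * z ^ j * (φ (⁅y, φ⁻¹ z⁆⁻¹ * φ⁻¹ (t * z ^ j)))⁻¹ * z := by
    rw [Perm.mul_apply, Perm.mul_apply, cj_apply, ← comm_mul_eq, hφ.homOn.map_mul c (hφ.inv_mem h.zE),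
      hφ.homOn.map_mul (E.inv_mem c) (h.DE hφ hz hj), hφ.homOn.map_inv c]
    simp [-mul_inv_rev, mul_inv_rev (φ _)⁻¹]
  have L : ∀ v ∈ cq Q h.om, (φ * cj y * φ⁻¹) v ∈ cq Q h.om ⊔ zpowers (φ z) := fun v hv =>
    (γ.homOn.mono (sup_le h.ZE (zpowers_le.2 (TE (mt j).1)))).mapsTo_sup
      (fun x e => zpowers_le.2 (e1 ▸ mul_mem (mul_mem (mem_sup_left (mt j).1) (mem_sup_right
        (Subgroup.inv_mem _ (h.map_Z' hφ y2)))) (mem_sup_left h.z_cq)) (h.map_Z' γ e))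
      (fun x e => zpowers_le.2 (by
        have d := comm_mem_symm ((h.mem_dd.1 hj).2 y)
        rw [Perm.mul_apply, Perm.mul_apply, cj_apply, ← comm_mul_eq,
          hφ.homOn.map_mul (h.ZE d) (h.DE hφ hz hj), perm_apply_inv_self]
        exact mul_mem (mem_sup_right (h.map_Z' hφ d)) (mem_sup_left (mt j).1))
        (map_zp γ.homOn (TE (mt j).1) e)) v
      ((sup_zpowers_eq (zpowers_le.2 h.z_cq) (h.iT hφ hz hx) (mt j).1 (mt j).2).ge hv)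
  have nγ : (φ * cj y * φ⁻¹) z ∉ zpowers z := fun e => by
    rw [e1, mul_mem_cancel_right (mem_zpowers z)] at e
    rw [h.zp_inf hφ hz (h.map_Z' hφ y2) (Q.inv_mem_iff.1 ((Q.mul_mem_cancel_left (mt j).1.1).1 (h.ZQ e))),
      inv_one, mul_one] at e
    exact (mt j).2 e
  obtain ⟨g, g1, k, hk⟩ := h.orbit γ nγ hφ hz
  obtain ⟨i, hi⟩ := h.adj hφ hz (TE t1)
  have := L _ (h.stabT hφ hz ((hφ.trans (h.isoN (h.QN hφ hz g1))).trans γ.symm) (by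
    rw [Perm.mul_apply, Perm.mul_apply, cj_apply, ← hk.symm.trans (γ.homOn.map_zpow h.zE k).symm |>.symm,
      perm_inv_apply_self]
    exact zpow_mem_zpowers z k) (mt i).1 (TE (mt i).1))
  rw [Perm.mul_apply (_⁻¹), perm_apply_inv_self, Perm.mul_apply, cj_apply, ← comm_mul_eq, mul_mem_cancel_left
    (mem_sup_left (zpowers_le.2 h.z_cq (comm_mem_symm ((h.mem_dd.1 hi).2 g))))] at this
  exact ⟨_, (mt i).1, (mt i).2, h.inf_T hφ hz hx this hi.1⟩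

theorem absurd : False := by
  haveI := h.nT hφ hz hx
  have TE : cq Q h.om ≤ E := fun _ e => h.DE hφ hz (h.TD hφ hz hx e)
  obtain ⟨v, v1, v2, v3⟩ := h.meet hφ hz hx
  have L : ∀ w ∈ cq Q h.om, φ w ∈ cq Q h.om ⊔ zpowers (φ z) := fun w hw =>
    (hφ.homOn.mono (sup_le h.ZE (zpowers_le.2 (TE v1)))).mapsTo_sup (fun x e => mem_sup_right (h.map_Z' hφ e))
      (fun x e => mem_sup_left (zpowers_le.2 v3 (map_zp hφ.homOn (TE v1) e))) w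
      ((sup_zpowers_eq (zpowers_le.2 h.z_cq) (h.iT hφ hz hx) v1 v2).ge hw)
  have Z1 : ∀ w ∈ cq Q h.om, φ w ∈ zpowers z → φ w = 1 := fun w hw e => by_contra fun e' => by
    obtain ⟨k, hk⟩ := exists_zpow_eq_of_prime h.zp e e' (mem_zpowers z)
    refine h.lZ hφ hz (h.out _ hφ.symm ?_)
    rw [← hk, ← hφ.homOn.map_zpow (TE hw), perm_inv_apply_self]
    exact Q.zpow_mem hw.1 k
  obtain ⟨y, y1, y2, y3⟩ : ∃ y ∈ Q, y ∉ h.om ∧ ⁅y, φ z⁆ ∉ cq Q h.om := by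
    obtain ⟨a, a1, a2⟩ := SetLike.not_le_iff_exists.1 hx
    obtain ⟨d, d1, d2⟩ := SetLike.not_le_iff_exists.1 fun e : dd Q z ≤ cq Q h.om => by
      have := card_le_of_le e
      rw [card_of_relIndex (zpowers_le.2 h.z_cq) (h.iT hφ hz hx), h.cardZ, (h.cards hφ hz).2, ← sq] at this
      exact (Nat.pow_lt_pow_right hp.out.one_lt (by omega)).not_ge this
    obtain ⟨b, b1, b2⟩ := h.surj hφ hz (h.nQ' hφ hz) d1
    have b3 : b ∉ cfix Q (cq Q h.om) (φ z) := fun e => d2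
      ((mul_mem_cancel_left (Subgroup.inv_mem _ (mem_cfix'.1 e).2)).1 (zpowers_le.2 h.z_cq b2))
    by_cases e1 : a ∈ cfix Q (cq Q h.om) (φ z)
    · by_cases e2 : b ∈ h.om
      · exact ⟨a * b, mul_mem a1 b1, fun e => a2 ((mul_mem_cancel_right e2).1 e),
          fun e => b3 ((mul_mem_cancel_left e1).1 (mem_cfix'.2 ⟨mul_mem a1 b1, e⟩))⟩
      · exact ⟨b, b1, e2, fun e => b3 (mem_cfix'.2 ⟨b1, e⟩)⟩
    · exact ⟨a, a1, a2, fun e => e1 (mem_cfix'.2 ⟨a1, e⟩)⟩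
  have γ := hφ.symm.conj (h.isoN (h.QN hφ hz y1))
  rw [inv_inv] at γ
  obtain ⟨w, w1, w2, w3⟩ := h.meet γ (fun e => by
    have := h.map_Z' hφ e
    rw [Perm.mul_apply, Perm.mul_apply, perm_apply_inv_self, cj_apply, ← comm_mul_eq,
      mul_mem_cancel_right (mem_zpowers _)] at this
    exact y3 (h.zp_inf hφ hz this (h.commQ _ _) ▸ one_mem _)) hx
  have cE := (h.isoN (h.QN hφ hz y1)).mem (hφ.mem (TE w1))
  have e1 : ⁅y, φ w⁆ = φ ((φ⁻¹ * cj y * φ) w * w⁻¹) := by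
    rw [hφ.homOn.map_mul (TE w3) (E.inv_mem (TE w1)), hφ.homOn.map_inv (TE w1)]; simp [commutatorElement_def]
  have m := mul_mem w3 (Subgroup.inv_mem _ w1)
  obtain ⟨a, ha, k, e⟩ := (mem_sup_zpowers (nle _ _)).1 (L w w1)
  have d := comm_mem_symm ((h.mem_dd.1 (h.TD hφ hz hx ha)).2 y)
  have e2 := h.inf_T hφ hz hx (e1 ▸ L _ m) (h.commQ y (φ w))
  have e3 : ⁅y, φ z ^ k⁆ = ⁅y, φ z⁆ ^ k := by
    rw [commutatorElement_def, ← conj_zpow, ← comm_mul_eq, (show Commute _ _ from comm_one_iff.1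
      (h.cE hφ (h.DE hφ hz (h.comm_D hφ hz y1)))).mul_zpow, mul_inv_cancel_right]
  rw [e, comm_mul_right', mul_mem_cancel_left (zpowers_le.2 h.z_cq d), e3,
    ‹(cq Q h.om).Normal›.mem_comm_iff, inv_mul_cancel_left] at e2
  rw [mem_bot.1 (zpow_mem_of_dvd (dvd_of_zpow_mem e2 (h.comm_pow y1 _ ▸ one_mem _) y3)
    (mem_bot.2 (h.pow_z hφ))), mul_one] at e
  subst e
  exact w2 ((hφ.isMap.apply_eq_one (TE w1)).1 (Z1 w w1 (h.nd _ ha.1 (sup_zpowers_eq h.om_le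
    (h.iom hφ hz hx) y1 y2 ▸ comm_one_of_sup (mem_cq.1 ha).2 (e1 ▸ Z1 _ m (e1 ▸ d))))) ▸ one_mem _)

end

theorem six : Six p G := by
  have e : Q ≤ h.om := by_contra fun e => h.absurd hφ hz e
  exact h.pres22 (h.cards hφ hz).1 (fun _ hx => (e hx).2) (h.nQ' hφ hz) (h.pow_z hφ) (h.cards hφ hz).2
    (fun _ hx => comm_one_symm (h.cE hφ (h.DE hφ hz hx))) fun _ => h.comm_D hφ hz

end XC

end Cfsg.Agent.H1
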